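import Cfsg.Agent.Lib.M12Recog.Order

/-!
Recognition of M12 by the centraliser of a 2-central involution.
-/

set_option autoImplicit false
set_option linter.style.haveILetI false
set_option linter.unusedSectionVars false

namespace CfsgLib.M12Recog

open CfsgLib.CosetEnum CfsgLib.Golay CfsgLib.Golay.Mult CfsgLib.Golay.SylowTwo
open scoped Pointwise

attribute [local irreducible] idP toPerm mulP validP

/-- the permutation of an index in the direct product -/
def pZ (i : ℕ) : ℕ := permZ.getD i 0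

/-- the element of M12 of an index in the direct product -/
noncomputable def g0 (i : ℕ) : ↥Cfsg.Spor.M12 := lift Cfsg.Spor.M12 (pZ i)

/-- the permutation of a letter -/
def pLet (g : ℕ) : ℕ := if g < 8 then pH (hL g) else pZ (zL g)

theorem permZ_ok : ((List.range 240).all fun i => Twelve.inG (pZ i) &&
    genZ.all fun g => eqP (pZ (mZ i g)) (mulP (pZ i) (pZ g))) = true ∧ eqP (pZ 0) idP = true ∧
    (tPairs.all fun p => eqP (pH p.1) (pZ p.2)) = true ∧
    (phiR.all fun p => eqP (mulP (pZ iR) (pH p.1)) (mulP (pH p.2) (pZ iR))) = true ∧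
    eqP (mulP (pH iK) (pZ iB3)) (mulP (pZ iA3) (pH iK)) = true := by
  decide +kernel

theorem g0_val {i : ℕ} (hi : i < 240) :
    (g0 i : Equiv.Perm Cfsg.GolayPt) = toPerm (pZ i) ∧ validP (pZ i) = true := by
  have h := permZ_ok.1
  simp only [List.all_eq_true, List.mem_range, Bool.and_eq_true] at h
  exact ⟨lift_val Twelve.hG (h i hi).1, (Twelve.hG _ (h i hi).1).1⟩

theorem conf0 : Conf f0 g0 ∧ f0 iK * g0 iB3 = g0 iA3 * f0 iK := by
  obtain ⟨h1, h2, h3, h4, h5⟩ := permZ_ok
  simp only [List.all_eq_true, List.mem_range, Bool.and_eq_true] at h1 h3 h4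
  have hr : iR < 240 := by decide
  have hzero : g0 0 = 1 := by
    obtain ⟨e, v⟩ := g0_val (show 0 < 240 by norm_num)
    refine Subtype.ext ?_
    rw [e, OneMemClass.coe_one, ← toPerm_idP]
    exact toPerm_eq_of_eqP v validP_idP h2
  have hlt : (phiR.all fun p => Nat.blt p.1 192 && Nat.blt p.2 192) = true := by decide +kernel
  simp only [List.all_eq_true, Bool.and_eq_true, Nat.blt_eq] at hlt
  refine ⟨⟨(f0_eq_one_iff (by norm_num)).2 rfl, f0_mul, hzero, tabZ.map_mul hzero fun i hi g hg => ?_,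
    fun p hp => ?_, fun p hp => ?_⟩, ?_⟩
  · have hgl := tabZ.gen_lt g hg
    obtain ⟨e1, v1⟩ := g0_val hi
    obtain ⟨e2, v2⟩ := g0_val hgl
    obtain ⟨e3, v3⟩ := g0_val (tabZ.lt i hi g hgl)
    refine Subtype.ext ?_
    rw [Subgroup.coe_mul, e1, e2, e3, ← toPerm_mulP v1 v2]
    exact toPerm_eq_of_eqP v3 (validP_mulP v1 v2) ((h1 i hi).2 g hg)
  · obtain ⟨a, b, -, -⟩ := pairs_lt p hp
    obtain ⟨e, v⟩ := g0_val b
    refine Subtype.ext ?_
    rw [f0_val (tH_lt _ a), e]
    exact toPerm_eq_of_eqP (pH_valid (tH_lt _ a)) v (h3 p hp)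
  · obtain ⟨a, b⟩ := hlt p hp
    obtain ⟨e, v⟩ := g0_val hr
    rw [mul_inv_eq_iff_eq_mul]
    refine Subtype.ext ?_
    rw [Subgroup.coe_mul, Subgroup.coe_mul, e, f0_val a, f0_val b, ← toPerm_mulP v (pH_valid a),
      ← toPerm_mulP (pH_valid b) v]
    exact toPerm_eq_of_eqP (validP_mulP v (pH_valid a)) (validP_mulP (pH_valid b) v) (h4 p hp)
  · have hk : iK < 192 := by decide
    obtain ⟨eb, vb⟩ := g0_val (show iB3 < 240 by decide)
    obtain ⟨ea, va⟩ := g0_val (show iA3 < 240 by decide)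
    refine Subtype.ext ?_
    rw [Subgroup.coe_mul, Subgroup.coe_mul, eb, ea, f0_val hk, ← toPerm_mulP (pH_valid hk) vb,
      ← toPerm_mulP va (pH_valid hk)]
    exact toPerm_eq_of_eqP (validP_mulP (pH_valid hk) vb) (validP_mulP va (pH_valid hk)) h5

theorem letGen0 {g : ℕ} (hg : g < 12) : letGen f0 g0 g = lift Cfsg.Spor.M12 (pLet g) := by
  by_cases h : g < 8
  · simp only [letGen, pLet, h, if_true]; rfl
  · simp only [letGen, pLet, h, hg, if_true, if_false]; rfl

theorem twelve_words : twelveW.length = twelveGens.length ∧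
    ((List.range twelveGens.length).all fun i =>
      (twelveW.getD i []).all (fun g => Nat.blt g 12) &&
      ((((twelveW.getD i []).map pLet).all Twelve.inG) && [twelveGens.getD i 0].all Twelve.inG &&
        eqP (prodP ((twelveW.getD i []).map pLet)) (prodP [twelveGens.getD i 0]))) = true := by
  decide +kernel

theorem closure_letters :
    Subgroup.closure {y | ∃ g < 12, letGen f0 g0 g = y} = (⊤ : Subgroup ↥Cfsg.Spor.M12) := by
  rw [eq_top_iff]
  rintro x -
  obtain ⟨y, rfl⟩ := Twelve.proj_surjective x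
  have h := twelve_words.2
  simp only [List.all_eq_true, List.mem_range, Bool.and_eq_true, Nat.blt_eq] at h
  have hle : (Twelve.Cover.map (MonoidHom.fst ↥Cfsg.Spor.M12 (Equiv.Perm Cfsg.GolayPt))) ≤
      Subgroup.closure {y | ∃ g < 12, letGen f0 g0 g = y} := by
    rw [Twelve.Cover, MonoidHom.map_closure, Subgroup.closure_le]
    rintro _ ⟨_, ⟨z, hz, rfl⟩, rfl⟩
    obtain ⟨i, hi, e⟩ := List.getElem_of_mem (List.of_mem_zip (b := z.2) (a := z.1) hz).1
    obtain ⟨hw, ⟨h1, h2⟩, h3⟩ := h i hi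
    have e' := Twelve.eqs ((twelveW.getD i []).map pLet) [twelveGens.getD i 0]
      (by simp only [Bool.and_eq_true, List.all_eq_true]; exact ⟨⟨h1, h2⟩, h3⟩)
    rw [List.map_singleton, List.prod_singleton, List.getD_eq_getElem _ _ hi, e, List.map_map] at e'
    show lift Cfsg.Spor.M12 z.1 ∈ _
    rw [← e']
    refine Subgroup.list_prod_mem _ fun y hy => ?_
    obtain ⟨g, hg, rfl⟩ := List.mem_map.1 hy
    exact Subgroup.subset_closure ⟨g, hw g hg, letGen0 (hw g hg)⟩
  exact hle ⟨_, y.2, rfl⟩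

theorem m12_simple : IsSimpleGroup ↥Cfsg.Spor.M12 := by
  haveI := CfsgLib.Golay.isSimpleGroup_stab_dodecad dodN_mem
  have e : MulAction.stabilizer Cfsg.M24 (dec dodN) ≃* ↥Cfsg.Spor.M12 :=
    { toFun := fun x => ⟨((x : Cfsg.M24) : Equiv.Perm Cfsg.GolayPt), Subgroup.mem_inf.2
        ⟨(x : Cfsg.M24).2, MulAction.mem_stabilizer_iff.2 (by
          rw [Twelve.squareDodecad_dec]; exact MulAction.mem_stabilizer_iff.1 x.2)⟩⟩
      invFun := toStab
      left_inv := fun _ => rfl
      right_inv := fun _ => rfl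
      map_mul' := fun _ _ => rfl }
  exact e.symm.isSimpleGroup

/-- the subgroup formed by the values of the first table -/
def tableSub {X : Type*} [Group X] {φ ψ : ℕ → X} (C : Conf φ ψ) : Subgroup X where
  carrier := {x | ∃ i < 192, φ i = x}
  one_mem' := ⟨0, by norm_num, C.one⟩
  mul_mem' := by
    rintro _ _ ⟨i, hi, rfl⟩ ⟨j, hj, rfl⟩
    exact ⟨_, tabH.lt i hi j hj, C.mul i hi j hj⟩
  inv_mem' := by
    rintro _ ⟨i, hi, rfl⟩
    obtain ⟨h1, h2, -⟩ := invH_spec hi
    exact ⟨_, h1, eq_inv_of_mul_eq_one_right (by rw [← C.mul i hi _ h1, h2, C.one])⟩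

/-- **Recognition of M12** by the centraliser of a 2-central involution. -/
theorem isoM12 {G : Type*} [Group G] [Finite G] [IsSimpleGroup G] (hna : ¬ IsMulCommutative G)
    {u : ↥Cfsg.Spor.M12} (hu : Cfsg.IsTwoCentralInvolution u) {t : G} (ht : orderOf t = 2)
    (e : ↥(Subgroup.centralizer ({t} : Set G)) ≃*
      ↥(Subgroup.centralizer ({u} : Set ↥Cfsg.Spor.M12))) : Cfsg.Spor.IsoM12 G := by
  obtain ⟨φ₀, R₀, e₀⟩ := exists_rep hu ht e
  obtain ⟨φ, ψ, K, C, hlast, hcard⟩ := exists_conf hna (show Hyp φ₀ by rw [Hyp, e₀]; exact R₀)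
  obtain ⟨C₀, hlast₀⟩ := conf0
  set φp : ℕ → ↥Cfsg.Spor.M12 × G := fun i => (f0 i, φ i) with hφp
  set ψp : ℕ → ↥Cfsg.Spor.M12 × G := fun i => (g0 i, ψ i) with hψp
  have Cp : Conf φp ψp := by
    refine ⟨Prod.ext C₀.one C.one, fun i hi j hj => Prod.ext (C₀.mul i hi j hj) (C.mul i hi j hj),
      Prod.ext C₀.zone C.zone, fun i hi j hj => Prod.ext (C₀.zmul i hi j hj) (C.zmul i hi j hj),
      fun p hp => Prod.ext (C₀.agree p hp) (C.agree p hp),
      fun p hp => Prod.ext (C₀.conj p hp) (C.conj p hp)⟩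
  obtain ⟨hA, -, hl, -⟩ := rels_ok
  have m := Cp.model (D := certA) (H := tableSub Cp) rfl rfl rfl hA hl
    (Cp.last_eq (Prod.ext hlast₀ hlast)) (fun i hi => ⟨i, hi, rfl⟩)
  have hsurjH : Function.Surjective (fun i : Fin 192 => (⟨φp i, i, i.2, rfl⟩ : tableSub Cp)) := by
    rintro ⟨x, i, hi, rfl⟩
    exact ⟨⟨i, hi⟩, rfl⟩
  haveI : Finite (tableSub Cp) := Finite.of_surjective _ hsurjH
  have hH : Nat.card (tableSub Cp) ≤ 192 := by
    simpa using Nat.card_le_card_of_surjective _ hsurjH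
  obtain ⟨hfin, hle⟩ := finite_card_le certA_complete m 192 hH
  set Γ := Subgroup.closure {y | ∃ g < certA.K, letGen φp ψp g = y} with hΓ
  have hN : certA.N = 495 := rfl
  rw [hN] at hle
  let η : Γ →* ↥Cfsg.Spor.M12 := (MonoidHom.fst _ _).comp Γ.subtype
  have hlet : ∀ g, g < 12 → letGen φp ψp g = (letGen f0 g0 g, letGen φ ψ g) := by
    intro g hg
    by_cases h : g < 8
    · simp only [letGen, h, if_true, hφp]
    · simp only [letGen, h, hg, if_true, if_false, hψp]
  have hη : Function.Surjective η := by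
    rw [← MonoidHom.range_eq_top, eq_top_iff, ← closure_letters, Subgroup.closure_le]
    rintro _ ⟨g, hg, rfl⟩
    exact ⟨⟨_, Subgroup.subset_closure ⟨g, hg, rfl⟩⟩, by
      show (letGen φp ψp g).1 = _
      rw [hlet g hg]⟩
  haveI := hfin
  have hbij : Function.Bijective η := by
    refine (Nat.bijective_iff_surjective_and_card η).2 ⟨hη, le_antisymm ?_ ?_⟩
    · rw [Twelve.card_twelve]; exact hle
    · exact Nat.card_le_card_of_surjective η hη
  let θ : ↥Cfsg.Spor.M12 →* G :=
    (MonoidHom.snd _ _).comp (Γ.subtype.comp (MulEquiv.ofBijective η hbij).symm.toMonoidHom)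
  have hθ : θ (letGen f0 g0 4) = letGen φ ψ 4 := by
    have : (MulEquiv.ofBijective η hbij).symm (letGen f0 g0 4) =
        ⟨letGen φp ψp 4, Subgroup.subset_closure ⟨4, by show 4 < 12; norm_num, rfl⟩⟩ := by
      rw [MulEquiv.symm_apply_eq]
      show _ = (letGen φp ψp 4).1
      rw [hlet 4 (by norm_num)]
    show ((MulEquiv.ofBijective η hbij).symm (letGen f0 g0 4) : ↥Cfsg.Spor.M12 × G).2 = _
    rw [this]
    show (letGen φp ψp 4).2 = _
    rw [hlet 4 (by norm_num)]
  haveI := m12_simple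
  have hinj : Function.Injective θ := by
    rw [← MonoidHom.ker_eq_bot_iff]
    refine (eq_top_or_eq_bot θ.ker inferInstance).resolve_right fun htop => ?_
    have : θ (letGen f0 g0 4) = 1 := MonoidHom.mem_ker.1 (htop ▸ Subgroup.mem_top _)
    rw [hθ, show letGen φ ψ 4 = φ (hL 4) by simp [letGen]] at this
    exact absurd ((K.eq_one_iff (hL_lt (by norm_num))).1 this) (by decide +kernel)
  have hθb : Function.Bijective θ :=
    (Nat.bijective_iff_injective_and_card θ).2 ⟨hinj, by rw [Twelve.card_twelve, hcard]⟩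
  exact ⟨(MulEquiv.ofBijective θ hθb).symm⟩

end CfsgLib.M12Recog
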