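import Mathlib
import Cfsg.Agent.Lib.ZStar.Main

/-!
Small general facts used for groups with a given centraliser of an involution.
-/

set_option autoImplicit false
set_option linter.style.haveILetI false

namespace CfsgLib.M12Recog

variable {G : Type*} [Group G]

theorem conj_comm {g a b : G} (h : a * b = b * a) :
    g * a * g⁻¹ * (g * b * g⁻¹) = g * b * g⁻¹ * (g * a * g⁻¹) := by
  rw [show g * a * g⁻¹ * (g * b * g⁻¹) = g * (a * b) * g⁻¹ by group, h]
  group

theorem mul_self_of {x : G} (hx : orderOf x = 2) : x * x = 1 := by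
  rw [← pow_two, ← hx, pow_orderOf_eq_one]

theorem orderOf_of_isConj {a x : G} {n : ℕ} (ha : orderOf a = n) (h : IsConj a x) : orderOf x = n := by
  obtain ⟨g, rfl⟩ := isConj_iff.1 h
  rw [← MulAut.conj_apply, MulEquiv.orderOf_eq, ha]

theorem conj_sq {g a : G} : g * a * g⁻¹ * (g * a * g⁻¹) = g * (a * a) * g⁻¹ := by group

theorem card_cent_pair (g a b : G) :
    Nat.card {x : G // x ∈ Subgroup.centralizer ({a} : Set G) ∧ x * b = b * x} =
      Nat.card {x : G // x ∈ Subgroup.centralizer ({g * a * g⁻¹} : Set G) ∧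
        x * (g * b * g⁻¹) = g * b * g⁻¹ * x} :=
  Nat.card_congr (Equiv.subtypeEquiv (MulAut.conj g).toEquiv fun x => by
    simp only [MulEquiv.toEquiv_eq_coe, EquivLike.coe_coe, MulAut.conj_apply,
      Subgroup.mem_centralizer_singleton_iff]
    refine ⟨fun h => ⟨conj_comm h.1, conj_comm h.2⟩, fun h => ?_⟩
    have h1 := conj_comm (g := g⁻¹) h.1
    have h2 := conj_comm (g := g⁻¹) h.2
    simp only [inv_inv, show ∀ y, g⁻¹ * (g * y * g⁻¹) * g = y from fun y => by group] at h1 h2
    exact ⟨h1, h2⟩)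

theorem cent_pair_swap (a b : G) :
    Nat.card {x : G // x ∈ Subgroup.centralizer ({a} : Set G) ∧ x * b = b * x} =
      Nat.card {x : G // x ∈ Subgroup.centralizer ({b} : Set G) ∧ x * a = a * x} :=
  Nat.card_congr (Equiv.subtypeEquivRight fun x => by
    simp only [Subgroup.mem_centralizer_singleton_iff]; tauto)

/-- A 2-subgroup whose normaliser fixes `t`, maximal in the centraliser of `t`, is a Sylow subgroup. -/
theorem exists_sylow_eq [Finite G] {P : Subgroup G} (hP : IsPGroup 2 P) (t : G)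
    (hN : ∀ g : G, (∀ x ∈ P, g * x * g⁻¹ ∈ P) → g * t = t * g)
    (hmax : ∀ Q : Subgroup G, P ≤ Q → (∀ x ∈ Q, x * t = t * x) → IsPGroup 2 Q → Q ≤ P) :
    ∃ S : Sylow 2 G, (S : Subgroup G) = P := by
  haveI := Fact.mk Nat.prime_two
  obtain ⟨S, hS⟩ := hP.exists_le_sylow
  refine ⟨S, le_antisymm ?_ hS⟩
  by_contra hle
  set P' := P.subgroupOf (S : Subgroup G)
  haveI : Group.IsNilpotent (S : Subgroup G) := S.isPGroup'.isNilpotent
  have hlt : P' < ⊤ := lt_top_iff_ne_top.2 fun h => hle (Subgroup.subgroupOf_eq_top.1 h)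
  obtain ⟨g, hg, hgP⟩ := SetLike.exists_of_lt (Group.normalizerCondition_of_isNilpotent P' hlt)
  have hnorm : ∀ n : (S : Subgroup G), n ∈ Subgroup.normalizer (P' : Set (S : Subgroup G)) →
      ∀ x ∈ P, (n : G) * x * (n : G)⁻¹ ∈ P := fun n hn x hx =>
    ((Subgroup.mem_normalizer_iff.1 hn) ⟨x, hS hx⟩).1 hx
  have hsup : (Subgroup.normalizer (P' : Set (S : Subgroup G))).map (S : Subgroup G).subtype ≤ P := by
    refine hmax _ (fun x hx => ⟨⟨x, hS hx⟩, Subgroup.le_normalizer hx, rfl⟩) ?_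
      (S.isPGroup'.to_le (Subgroup.map_subtype_le _))
    rintro _ ⟨n, hn, rfl⟩
    exact hN _ (hnorm n hn)
  exact hgP (hsup ⟨g, hg, rfl⟩)

theorem inverts_of_fpf {N : Subgroup G} [Finite N] {v : G} (hv : v * v = 1)
    (hvN : ∀ n ∈ N, v * n * v ∈ N) (h : ∀ n ∈ N, n * v = v * n → n = 1) :
    ∀ n ∈ N, v * n * v = n⁻¹ := by
  let f : N → N := fun k => ⟨(k : G)⁻¹ * (v * k * v), N.mul_mem (N.inv_mem k.2) (hvN _ k.2)⟩
  have hf : Function.Injective f := by
    intro a b hab
    have e : (a : G)⁻¹ * (v * a * v) = (b : G)⁻¹ * (v * b * v) := Subtype.ext_iff.1 hab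
    have hv' : v⁻¹ = v := inv_eq_of_mul_eq_one_right hv
    have e2 : (b : G) * (a : G)⁻¹ * v = v * ((b : G) * (a : G)⁻¹) := by
      have h3 : (b : G) * (a : G)⁻¹ = v * b * v * (v * a * v)⁻¹ := by
        rw [show (b : G) * (a : G)⁻¹ = b * ((a : G)⁻¹ * (v * a * v)) * (v * a * v)⁻¹ by group, e]
        group
      conv_lhs => rw [h3]
      rw [mul_inv_rev, mul_inv_rev, hv']
      rw [show v * b * v * (v * ((a : G)⁻¹ * v)) * v = v * b * (v * v) * (a : G)⁻¹ * (v * v) by group,
        hv]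
      group
    have := h _ (N.mul_mem b.2 (N.inv_mem a.2)) e2
    exact Subtype.ext (mul_inv_eq_one.1 this).symm
  intro n hn
  obtain ⟨k, hk⟩ := Finite.surjective_of_injective hf ⟨n, hn⟩
  have e : (k : G)⁻¹ * (v * k * v) = n := Subtype.ext_iff.1 hk
  rw [← e, mul_inv_rev, inv_inv, mul_inv_rev, mul_inv_rev, inv_eq_of_mul_eq_one_right hv]
  rw [show v * ((k : G)⁻¹ * (v * k * v)) * v = v * (k : G)⁻¹ * v * k * (v * v) by group, hv]
  group

/-- A four-group acting without fixed points on a subgroup of odd order: the subgroup is trivial. -/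
theorem eq_bot_of_fpf_four {N : Subgroup G} [Finite N] {a b : G} (ha : a * a = 1) (hb : b * b = 1)
    (hab : a * b = b * a) (haN : ∀ n ∈ N, a * n * a ∈ N) (hbN : ∀ n ∈ N, b * n * b ∈ N)
    (h1 : ∀ n ∈ N, n * a = a * n → n = 1) (h2 : ∀ n ∈ N, n * b = b * n → n = 1)
    (h3 : ∀ n ∈ N, n * (a * b) = a * b * n → n = 1) : N = ⊥ := by
  rw [Subgroup.eq_bot_iff_forall]
  intro n hn
  refine h3 n hn ?_
  have e1 := inverts_of_fpf hb hbN h2 n hn
  have e2 := inverts_of_fpf ha haN h1 n⁻¹ (N.inv_mem hn)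
  rw [inv_inv, ← e1] at e2
  have : a * b * n * (a * b) = n := by
    rw [show a * b * n * (a * b) = a * b * n * (b * a) by rw [hab],
      show a * b * n * (b * a) = a * (b * n * b) * a by group, e2]
  calc n * (a * b) = a * b * n * (a * b) * (a * b) := by rw [this]
    _ = a * b * n * (a * (b * a) * b) := by group
    _ = a * b * n := by rw [← hab, ← mul_assoc a a, ha, one_mul, hb, mul_one]

theorem eq_top_or_eq_bot [IsSimpleGroup G] (N : Subgroup G) (hN : N.Normal) : N = ⊥ ∨ N = ⊤ :=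
  hN.eq_bot_or_eq_top

/-- In a simple non-abelian group no involution is central. -/
theorem not_central [IsSimpleGroup G] (hna : ¬ IsMulCommutative G) {t : G} (ht : t ≠ 1)
    (h : ∀ g, g * t = t * g) : False := by
  rcases eq_top_or_eq_bot (Subgroup.center G) inferInstance with hc | hc
  · have : t ∈ Subgroup.center G := Subgroup.mem_center_iff.2 h
    rw [hc] at this
    exact ht (Subgroup.mem_bot.1 this)
  · refine hna ⟨⟨fun a b => ?_⟩⟩
    have : b ∈ Subgroup.center G := hc ▸ Subgroup.mem_top b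
    exact Subgroup.mem_center_iff.1 this a

/-- A simple group with a Sylow 2-subgroup in which an involution is isolated. -/
theorem not_isolated [Finite G] [IsSimpleGroup G] (hna : ¬ IsMulCommutative G) (P : Sylow 2 G)
    {t : G} (ht : orderOf t = 2) (htP : t ∈ P) : ∃ g : G, g * t * g⁻¹ ∈ P ∧ g * t * g⁻¹ ≠ t := by
  by_contra hne
  push Not at hne
  obtain ⟨N, hN, hodd, hcomm⟩ := ZStar.exists_normal_odd_commutator_mem P t ht htP hne
  rcases eq_top_or_eq_bot N hN with h | h
  · refine not_central hna (t := t) (fun h1 => by rw [h1, orderOf_one] at ht; omega) fun g => ?_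
    have := hcomm g
    rw [h, Subgroup.mem_bot] at this
    calc g * t = t * g * t⁻¹ * g⁻¹ * (g * t) := by rw [this, one_mul]
      _ = t * g := by group
  · rw [h, Subgroup.card_top] at hodd
    have h2 : 2 ∣ Nat.card G := ht ▸ orderOf_dvd_natCard t
    exact (Nat.not_even_iff_odd.2 hodd) (even_iff_two_dvd.2 h2)

/-- A simple non-abelian group has no subgroup of index two. -/
theorem no_index_two [IsSimpleGroup G] (hna : ¬ IsMulCommutative G) (M : Subgroup G) (hM : M.Normal)
    (h2 : M.index = 2) : False := by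
  rcases eq_top_or_eq_bot M hM with h | h
  · rw [h, Subgroup.index_bot] at h2
    haveI : Finite G := Nat.finite_of_card_ne_zero (by omega)
    haveI := Fact.mk Nat.prime_two
    haveI : IsCyclic G := isCyclic_of_prime_card h2
    exact hna ⟨⟨fun a b => IsCyclic.commGroup.mul_comm a b⟩⟩
  · rw [h, Subgroup.index_top] at h2
    omega

end CfsgLib.M12Recog
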