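import Cfsg.Agent.Lib.M12Recog.CentTwo

/-!
The four-group and its normaliser in the centraliser of the second involution.
-/

set_option autoImplicit false
set_option linter.style.haveILetI false
set_option linter.unusedSectionVars false

namespace CfsgLib.M12Recog

open scoped Classical

theorem vH_conj : ∀ j ∈ tH, ∀ v ∈ vH, ∃ w ∈ vH, mH j v = mH w j := by
  have h : (tH.all fun j => vH.all fun v => vH.any fun w => mH j v == mH w j) = true := by
    decide +kernel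
  simpa using h

theorem vH_lt : ∀ i ∈ vH, i < 192 ∧ i ∈ tH := by
  have h : (vH.all fun i => Nat.blt i 192 && tH.contains i) = true := by decide +kernel
  simpa using h

theorem tH_cent9 : ∀ i ∈ tH, mH i 9 = mH 9 i → i ∈ tcvH := by
  have h : (tH.all fun i => mH i 9 != mH 9 i || tcvH.contains i) = true := by decide +kernel
  simp only [List.all_eq_true, Bool.or_eq_true, bne_iff_ne, List.contains_iff_mem] at h
  exact fun i hi h9 => (h i hi).resolve_left fun h' => h' h9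

namespace Hyp

variable {G : Type*} [Group G] {φ : ℕ → G} (K : Hyp φ)
include K

/-- the four-group in the centraliser -/
noncomputable def vC (K : Hyp φ) : Subgroup K.Cz := (K.sub vH).subgroupOf K.Cz

theorem mem_vC {c : K.Cz} : c ∈ K.vC ↔ ∃ i ∈ vH, φ i = c := by
  rw [vC, Subgroup.mem_subgroupOf, K.mem_sub vH_ok.1]

theorem tc_mem_vC {i : ℕ} (hi : i ∈ vH) : K.tc i (vH_lt i hi).2 ∈ K.vC := (K.mem_vC).2 ⟨i, hi, rfl⟩

theorem card_vC : Nat.card K.vC = 4 := by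
  rw [vC, Nat.card_congr (Subgroup.subgroupOfEquivOfLe fun x hx => by
    obtain ⟨i, hi, rfl⟩ := (K.mem_sub vH_ok.1).1 hx
    exact K.phi_mem_Cz (vH_lt i hi).2).toEquiv, K.card_sub vH_ok.1 vH_ok.2.1, vH_ok.2.2.1]

/-- The three involutions are conjugate under elements normalising the four-group. -/
theorem fusedV [Finite G] [IsSimpleGroup G] (hna : ¬ IsMulCommutative G) {i : ℕ}
    (hi : i = iC ∨ i = 9 ∨ i = 121) :
    ∃ g : K.Cz, (g : G) * φ iC * (g : G)⁻¹ = φ i ∧ ∀ v ∈ K.vC, g * v * g⁻¹ ∈ K.vC := by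
  obtain ⟨g, hg, h1, h2, h3⟩ := K.exists_swap hna
  have hgV : ∀ v ∈ K.vC, (⟨g, hg⟩ : K.Cz) * v * ⟨g, hg⟩⁻¹ ∈ K.vC := by
    intro v hv
    obtain ⟨i, hi, e⟩ := (K.mem_vC).1 hv
    rw [mem_vC]
    show ∃ i ∈ vH, φ i = g * (v : G) * g⁻¹
    rw [← e]
    rcases mem_vH.1 hi with rfl | rfl | rfl | rfl
    · exact ⟨0, by simp [vH], by rw [K.one]; group⟩
    · exact ⟨iC, by simp [vH, iC], h2.symm⟩
    · exact ⟨121, by simp [vH], h3.symm⟩
    · exact ⟨9, by simp [vH], h1.symm⟩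
  rcases hi with rfl | rfl | rfl
  · exact ⟨1, by simp, fun v hv => by simpa using hv⟩
  · exact ⟨⟨g, hg⟩, h1, hgV⟩
  · obtain ⟨j, hj, e⟩ := swap_A
    refine ⟨K.tc j hj * ⟨g, hg⟩, ?_, fun v hv => ?_⟩
    · show φ j * g * φ iC * (φ j * g)⁻¹ = φ 121
      rw [show φ j * g * φ iC * (φ j * g)⁻¹ = φ j * (g * φ iC * g⁻¹) * (φ j)⁻¹ by group, h1,
        mul_inv_eq_iff_eq_mul, ← K.mul j (tH_lt j hj) 9 (by norm_num),
        ← K.mul 121 (by norm_num) j (tH_lt j hj), e]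
    · obtain ⟨a, ha, ea⟩ := (K.mem_vC).1 (hgV v hv)
      obtain ⟨w, hw, ew⟩ := vH_conj j hj a ha
      refine (K.mem_vC).2 ⟨w, hw, ?_⟩
      show φ w = φ j * g * (v : G) * (φ j * g)⁻¹
      rw [show φ j * g * (v : G) * (φ j * g)⁻¹ = φ j * (g * (v : G) * g⁻¹) * (φ j)⁻¹ by group,
        show g * (v : G) * g⁻¹ = φ a from ea.symm, eq_mul_inv_iff_mul_eq,
        ← K.mul j (tH_lt j hj) a (vH_lt a ha).1, ← K.mul w (vH_lt w hw).1 j (tH_lt j hj), ew]

theorem mem_norm_iff [Finite G] {c : K.Cz} :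
    c ∈ Subgroup.normalizer (K.vC : Set K.Cz) ↔ ∀ v ∈ K.vC, c * v * c⁻¹ ∈ K.vC := by
  refine ⟨fun h v hv => (Subgroup.mem_normalizer_iff.1 h v).1 hv, fun h => ?_⟩
  rw [Subgroup.mem_normalizer_iff]
  refine fun v => ⟨h v, fun hv => ?_⟩
  let F : K.vC → K.vC := fun x => ⟨c * x * c⁻¹, h x x.2⟩
  obtain ⟨x, hx⟩ := Finite.surjective_of_injective (f := F) (fun a b e => Subtype.ext
    (mul_left_cancel (mul_right_cancel (Subtype.ext_iff.1 e)))) ⟨c * v * c⁻¹, hv⟩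
  have : (x : K.Cz) = v := mul_left_cancel (mul_right_cancel (Subtype.ext_iff.1 hx))
  exact this ▸ x.2

theorem tc_mem_norm [Finite G] {j : ℕ} (hj : j ∈ tH) :
    K.tc j hj ∈ Subgroup.normalizer (K.vC : Set K.Cz) := by
  refine (K.mem_norm_iff).2 fun v hv => ?_
  obtain ⟨a, ha, ea⟩ := (K.mem_vC).1 hv
  obtain ⟨w, hw, ew⟩ := vH_conj j hj a ha
  refine (K.mem_vC).2 ⟨w, hw, ?_⟩
  show φ w = φ j * (v : G) * (φ j)⁻¹
  rw [← ea, eq_mul_inv_iff_mul_eq, ← K.mul j (tH_lt j hj) a (vH_lt a ha).1,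
    ← K.mul w (vH_lt w hw).1 j (tH_lt j hj), ew]

theorem card_norm [Finite G] [IsSimpleGroup G] (hna : ¬ IsMulCommutative G) :
    Nat.card (Subgroup.normalizer (K.vC : Set K.Cz)) = 48 := by
  set N := Subgroup.normalizer (K.vC : Set K.Cz)
  let T' : Subgroup K.Cz := (K.sub tH).subgroupOf K.Cz
  have hTle : T' ≤ N := fun c hc => by
    obtain ⟨j, hj, e⟩ := (K.mem_sub tH_ok.1).1 (Subgroup.mem_subgroupOf.1 hc)
    have : c = K.tc j hj := Subtype.ext e.symm
    rw [this]; exact K.tc_mem_norm hj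
  have hT : Nat.card T' = 16 := by
    rw [Nat.card_congr (Subgroup.subgroupOfEquivOfLe fun x hx => by
      obtain ⟨i, hi, rfl⟩ := (K.mem_sub tH_ok.1).1 hx
      exact K.phi_mem_Cz hi).toEquiv, K.card_sub tH_ok.1 tH_ok.2.1, tH_ok.2.2]
  have hmem : ∀ c : K.Cz, c ∈ T' ↔ (c : G) * φ iC = φ iC * (c : G) := fun c => by
    rw [Subgroup.mem_subgroupOf, K.mem_T_iff]
    exact and_iff_left (Subgroup.mem_centralizer_singleton_iff.1 c.2)
  let Y : Finset G := [iC, 9, 121].toFinset.image φ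
  have hY : Y.card = 3 := by
    rw [Finset.card_image_of_injOn]
    · decide
    · intro a ha b hb e
      have lt : ∀ x ∈ [iC, 9, 121], x < 192 := by decide
      exact K.inj a (lt a (List.mem_toFinset.1 ha)) b (lt b (List.mem_toFinset.1 hb)) e
  have hval : ∀ n : N, ((n : K.Cz) : G) * φ iC * ((n : K.Cz) : G)⁻¹ ∈ Y := by
    intro n
    have hv : K.tc iC iC_mem_tH.1 ∈ K.vC := (K.mem_vC).2 ⟨iC, by simp [vH, iC], rfl⟩
    obtain ⟨a, ha, ea⟩ := (K.mem_vC).1 ((K.mem_norm_iff).1 n.2 _ hv)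
    have ea' : φ a = ((n : K.Cz) : G) * φ iC * ((n : K.Cz) : G)⁻¹ := ea
    rw [← ea']
    rcases mem_vH.1 ha with rfl | rfl | rfl | rfl
    · exfalso
      rw [K.one, eq_comm, conj_eq_one_iff] at ea'
      exact absurd ((K.eq_one_iff idx_lt.1).1 ea') (by decide)
    all_goals exact Finset.mem_image.2 ⟨_, by simp [iC], rfl⟩
  have key : ∀ a b : N, ((a : K.Cz) : G) * φ iC * ((a : K.Cz) : G)⁻¹ =
      ((b : K.Cz) : G) * φ iC * ((b : K.Cz) : G)⁻¹ ↔ a⁻¹ * b ∈ T'.subgroupOf N := by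
    intro a b
    rw [Subgroup.mem_subgroupOf, hmem]
    simp only [Subgroup.coe_mul, Subgroup.coe_inv]
    generalize ((a : K.Cz) : G) = x
    generalize ((b : K.Cz) : G) = y
    constructor
    · intro h
      calc x⁻¹ * y * φ iC = x⁻¹ * (y * φ iC * y⁻¹) * y := by group
        _ = x⁻¹ * (x * φ iC * x⁻¹) * y := by rw [h]
        _ = φ iC * (x⁻¹ * y) := by group
    · intro h
      calc x * φ iC * x⁻¹ = x * (φ iC * (x⁻¹ * y)) * y⁻¹ := by group
        _ = x * (x⁻¹ * y * φ iC) * y⁻¹ := by rw [h]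
        _ = y * φ iC * y⁻¹ := by group
  let Φ : N ⧸ T'.subgroupOf N → Y := Quotient.lift
    (fun n : N => (⟨_, hval n⟩ : Y))
    fun a b h => Subtype.ext ((key a b).2 (QuotientGroup.leftRel_apply.1 h))
  have hΦ : Function.Bijective Φ := by
    refine ⟨fun p q => ?_, fun y => ?_⟩
    · obtain ⟨a, rfl⟩ := QuotientGroup.mk_surjective p
      obtain ⟨b, rfl⟩ := QuotientGroup.mk_surjective q
      intro h
      exact QuotientGroup.eq.2 ((key a b).1 (Subtype.ext_iff.1 h))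
    · obtain ⟨a, ha, e⟩ := Finset.mem_image.1 y.2
      obtain ⟨g, hg, hgV⟩ := K.fusedV hna (i := a) (by simpa using ha)
      exact ⟨QuotientGroup.mk ⟨g, (K.mem_norm_iff).2 hgV⟩, Subtype.ext (hg.trans e)⟩
  rw [Subgroup.card_eq_card_quotient_mul_card_subgroup (T'.subgroupOf N),
    Nat.card_congr (Subgroup.subgroupOfEquivOfLe hTle).toEquiv, hT,
    Nat.card_eq_of_bijective Φ hΦ, Nat.card_eq_fintype_card, Fintype.card_coe, hY]

variable {A K₀ : Subgroup K.Cz}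

theorem vC_le (Q : K.Quarter A K₀) : K.vC ≤ K₀ := fun c hc => by
  obtain ⟨i, hi, e⟩ := (K.mem_vC).1 hc
  have : c = K.tc i (vH_lt i hi).2 := Subtype.ext e.symm
  rw [this]; exact (Q.hV i _).2 hi

theorem mem_vC_of_comm (Q : K.Quarter A K₀) {c : K.Cz} (hc : c ∈ K₀)
    (h : (c : G) * φ iC = φ iC * (c : G)) : c ∈ K.vC := by
  obtain ⟨i, hi, e⟩ := (K.mem_sub tH_ok.1).1
    ((K.mem_T_iff).2 ⟨h, Subgroup.mem_centralizer_singleton_iff.1 c.2⟩)
  have : c = K.tc i hi := Subtype.ext e.symm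
  exact (K.mem_vC).2 ⟨i, (Q.hV i hi).1 (this ▸ hc), e⟩

theorem cent_V [Finite G] [IsSimpleGroup G] (hna : ¬ IsMulCommutative G) (Q : K.Quarter A K₀) {i : ℕ}
    (hi : i = iC ∨ i = 9 ∨ i = 121) {c : K.Cz} (hc : c ∈ K₀) (h : (c : G) * φ i = φ i * (c : G)) :
    c ∈ K.vC := by
  obtain ⟨g, hg, hgV⟩ := K.fusedV hna hi
  have hK := Q.hK
  have h1 : ((g⁻¹ * c * g : K.Cz) : G) * φ iC = φ iC * ((g⁻¹ * c * g : K.Cz) : G) := by
    have := conj_comm (g := (g : G)⁻¹) h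
    simp only [inv_inv, show (g : G)⁻¹ * φ i * (g : G) = φ iC by rw [← hg]; group] at this
    simpa using this
  have := hgV _ (K.mem_vC_of_comm Q (by
    have := hK.conj_mem c hc g⁻¹; simpa using this) h1)
  rwa [show g * (g⁻¹ * c * g) * g⁻¹ = c by group] at this

theorem index_vC [Finite G] (Q : K.Quarter A K₀) : ¬ 2 ∣ (K.vC.subgroupOf K₀).index := by
  obtain ⟨S, hS⟩ := K.sylow_cz
  haveI := Fact.mk Nat.prime_two
  have hScard : Nat.card (S : Subgroup K.Cz) = 16 := by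
    have e : (S : Subgroup K.Cz) = (K.sub tH).subgroupOf K.Cz := by
      ext x
      rw [Subgroup.mem_subgroupOf, K.mem_T_iff]
      exact (hS x).trans (and_iff_left (Subgroup.mem_centralizer_singleton_iff.1 x.2)).symm
    rw [e, Nat.card_congr (Subgroup.subgroupOfEquivOfLe (H := K.sub tH) (K := K.Cz) fun x hx => by
      obtain ⟨i, hi, rfl⟩ := (K.mem_sub tH_ok.1).1 hx
      exact K.phi_mem_Cz hi).toEquiv, K.card_sub tH_ok.1 tH_ok.2.1, tH_ok.2.2]
  have h1 := (S : Subgroup K.Cz).card_mul_index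
  have h2 := K₀.card_mul_index
  have h3 := (K.vC.subgroupOf K₀).card_mul_index
  rw [Nat.card_congr (Subgroup.subgroupOfEquivOfLe (K.vC_le Q)).toEquiv, K.card_vC] at h3
  rw [hScard] at h1
  rw [Q.hK4, ← h3, ← h1] at h2
  have : (K.vC.subgroupOf K₀).index = (S : Subgroup K.Cz).index := by omega
  rw [this]
  exact S.not_dvd_index

/-- the four-group as a Sylow subgroup -/
noncomputable def sylowV [Finite G] (Q : K.Quarter A K₀) : Sylow 2 K₀ :=
  have := Fact.mk Nat.prime_two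
  (IsPGroup.of_card (n := 2) (show Nat.card (K.vC.subgroupOf K₀) = 2 ^ 2 by
    rw [Nat.card_congr (Subgroup.subgroupOfEquivOfLe (K.vC_le Q)).toEquiv, K.card_vC]; rfl)).toSylow
      (K.index_vC Q)

theorem sylowV_coe [Finite G] (Q : K.Quarter A K₀) :
    ((K.sylowV Q) : Subgroup K₀) = K.vC.subgroupOf K₀ := rfl

end Hyp

end CfsgLib.M12Recog
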