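import Cfsg.Agent.Lib.M12Recog.CentFour

/-!
The order of the centraliser of the second involution.
-/

set_option autoImplicit false
set_option linter.style.haveILetI false
set_option linter.unusedSectionVars false

namespace CfsgLib.M12Recog

open scoped Classical

namespace Hyp

variable {G : Type*} [Group G] {φ : ℕ → G} (K : Hyp φ)
include K
variable {A K₀ : Subgroup K.Cz}

theorem normal_vC_of [Finite G] (Q : K.Quarter A K₀)
    (h : ((K.sylowV Q) : Subgroup K₀).Normal) : K.vC.Normal := by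
  haveI := Fact.mk Nat.prime_two
  haveI := Sylow.unique_of_normal (K.sylowV Q) h
  refine ⟨fun v hv c => ?_⟩
  have hvK := K.vC_le Q hv
  have hK := Q.hK
  -- the conjugate of the four-group is again a Sylow subgroup
  have hpg : IsPGroup 2 ((K.vC.map (MulAut.conj c).toMonoidHom).subgroupOf K₀) := by
    refine IsPGroup.of_card (n := 2) ?_
    rw [Nat.card_congr (Subgroup.subgroupOfEquivOfLe ?_).toEquiv,
      Subgroup.card_map_of_injective (MulAut.conj c).injective, K.card_vC]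
    · rfl
    · rintro _ ⟨x, hx, rfl⟩
      exact hK.conj_mem x (K.vC_le Q hx) c
  obtain ⟨S, hS⟩ := hpg.exists_le_sylow
  rw [Subsingleton.elim S (K.sylowV Q), K.sylowV_coe Q] at hS
  exact hS (x := ⟨c * v * c⁻¹, hK.conj_mem v hvK c⟩) ⟨v, hv, rfl⟩

theorem invol_K₀ [Finite G] (Q : K.Quarter A K₀) {x : K₀} (hx : orderOf x = 2) :
    ∃ g : K₀, ∃ i, (i = iC ∨ i = 9 ∨ i = 121) ∧
      (((g * x * g⁻¹ : K₀) : K.Cz) : G) = φ i := by
  haveI := Fact.mk Nat.prime_two
  obtain ⟨S, hS⟩ := (IsPGroup.of_card (n := 1) (show Nat.card (Subgroup.zpowers x) = 2 ^ 1 by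
    rw [Nat.card_zpowers, hx]; rfl)).exists_le_sylow
  obtain ⟨g, hg⟩ := MulAction.exists_smul_eq K₀ S (K.sylowV Q)
  have hm : g * x * g⁻¹ ∈ ((K.sylowV Q) : Subgroup K₀) := by
    rw [← hg]; exact ⟨x, hS (Subgroup.mem_zpowers x), rfl⟩
  rw [K.sylowV_coe Q, Subgroup.mem_subgroupOf] at hm
  obtain ⟨i, hi, e⟩ := (K.mem_vC).1 hm
  refine ⟨g, i, ?_, e.symm⟩
  rcases mem_vH.1 hi with rfl | h | h | h
  · exfalso
    rw [K.one] at e
    have h1 : g * x * g⁻¹ = 1 := Subtype.ext (Subtype.ext e.symm)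
    rw [conj_eq_one_iff] at h1
    rw [h1, orderOf_one] at hx
    omega
  · exact .inr (.inl h)
  · exact .inr (.inr h)
  · exact .inl h

theorem hyp_V [Finite G] [IsSimpleGroup G] (hna : ¬ IsMulCommutative G) (Q : K.Quarter A K₀)
    (hn : ¬ ((K.sylowV Q) : Subgroup K₀).Normal) : Invol.ElemCent.Hyp (K.sylowV Q) := by
  have habel : ∀ a ∈ K.vC, ∀ b ∈ K.vC, a * b = b * a ∧ a * a = 1 := by
    have h : (vH.all fun i => mH i i == 0 && vH.all fun j => mH i j == mH j i) = true := by decide +kernel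
    simp only [List.all_eq_true, Bool.and_eq_true, beq_iff_eq] at h
    intro a ha b hb
    obtain ⟨i, hi, e⟩ := (K.mem_vC).1 ha
    obtain ⟨j, hj, e'⟩ := (K.mem_vC).1 hb
    refine ⟨Subtype.ext ?_, Subtype.ext ?_⟩
    · show (a : G) * b = b * a
      rw [← e, ← e']
      exact (K.comm_iff (vH_lt i hi).1 (vH_lt j hj).1).2 ((h i hi).2 j hj)
    · show (a : G) * a = 1
      rw [← e, ← K.mul i (vH_lt i hi).1 i (vH_lt i hi).1, (h i hi).1, K.one]
  have hcard : Nat.card ((K.sylowV Q) : Subgroup K₀) = 4 := by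
    rw [K.sylowV_coe Q, Nat.card_congr (Subgroup.subgroupOfEquivOfLe (K.vC_le Q)).toEquiv, K.card_vC]
  refine ⟨fun hcyc => ?_, hn, fun x hx => ?_⟩
  · have hexp : ∀ a : ((K.sylowV Q) : Subgroup K₀), a * a = 1 := fun a => by
      have ha : ((a : K₀) : K.Cz) ∈ K.vC := a.2
      exact Subtype.ext (Subtype.ext (habel _ ha _ ha).2)
    obtain ⟨g, hg⟩ := hcyc.exists_ofOrder_eq_natCard
    have := orderOf_le_of_pow_eq_one (x := g) (n := 2) (by norm_num) (by rw [pow_two]; exact hexp g)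
    omega
  · obtain ⟨g, i, hi, e⟩ := K.invol_K₀ Q hx
    have key : ∀ c ∈ Subgroup.centralizer ({x} : Set K₀), ((g * c * g⁻¹ : K₀) : K.Cz) ∈ K.vC := by
      intro c hc
      refine K.cent_V hna Q hi (g * c * g⁻¹ : K₀).2 ?_
      have h := conj_comm (g := g) (Subgroup.mem_centralizer_singleton_iff.1 hc)
      have h' := congrArg (fun y : K₀ => ((y : K.Cz) : G)) h
      simp only [Subgroup.coe_mul] at h' ⊢
      simp only [Subgroup.coe_mul] at e
      rw [← e]
      exact h'
    refine ⟨⟨⟨fun a b => Subtype.ext ?_⟩⟩, fun c hc => ?_⟩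
    · have h := (habel _ (key a a.2) _ (key b b.2)).1
      have h' : g * (a : K₀) * g⁻¹ * (g * b * g⁻¹) = g * b * g⁻¹ * (g * a * g⁻¹) := Subtype.ext h
      have h2 := conj_comm (g := g⁻¹) h'
      simp only [inv_inv, show ∀ y, g⁻¹ * (g * y * g⁻¹) * g = y from fun y => by group] at h2
      exact h2
    · have h := (habel _ (key c hc) _ (key c hc)).2
      have h' : g * c * g⁻¹ * (g * c * g⁻¹) = 1 := Subtype.ext h
      rw [conj_sq, conj_eq_one_iff] at h'
      rw [pow_two]; exact h'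

theorem card_Cz [Finite G] [IsSimpleGroup G] (hna : ¬ IsMulCommutative G) (Q : K.Quarter A K₀) :
    (K.vC.Normal ∧ Nat.card K.Cz = 48) ∨ (¬ K.vC.Normal ∧ Nat.card K.Cz = 240) := by
  by_cases hN : K.vC.Normal
  · refine .inl ⟨hN, ?_⟩
    have h := K.card_norm hna
    rwa [Subgroup.normalizer_eq_top_iff.2 hN, Subgroup.card_top] at h
  · refine .inr ⟨hN, ?_⟩
    have hyp := K.hyp_V hna Q fun h => hN (K.normal_vC_of Q h)
    have h := Invol.ElemCent.card_group hyp
    rw [K.sylowV_coe Q, Nat.card_congr (Subgroup.subgroupOfEquivOfLe (K.vC_le Q)).toEquiv, K.card_vC] at h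
    have h2 := K₀.card_mul_index
    rw [h, Q.hK4] at h2
    omega

theorem count_small [Fintype G] [IsSimpleGroup G] (hna : ¬ IsMulCommutative G) (hN : K.vC.Normal) :
    (J2Order.pairsAt (φ iZ) (φ iC) (φ iZ)).card = 3 := by
  have hB := K.conj_B_t hna
  have P := K.pattern_t hna hB
  obtain ⟨n1, -, -, n4, -, -, -, -⟩ := lists_ok
  have hnum : pairNum 192 mH (clZ.filter fun i => tH.contains i)
      (tlT.filter fun i => tH.contains i) iZ = 3 := by decide +kernel
  rw [← hnum]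
  refine Rep.card_pairsAt K K.orderOf_z K.orderOf_t idx_lt.2.2.1 (mul_self_of K.orderOf_z)
    (fun x y h1 h2 h3 => ?_) (n4.filter _) (n1.filter _)
    (fun i hi => lists_lt (.inr (.inr (.inr (List.mem_of_mem_filter hi)))))
    (fun i hi => lists_lt (.inl (List.mem_of_mem_filter hi)))
    (fun i hi => ?_) (fun i hi => ?_)
  rotate_left
  all_goals try rw [List.mem_filter, List.contains_iff_mem, mem_tH_iff hi,
      ← K.comm_iff hi idx_lt.2.2.1]
  · exact and_congr_left fun _ => K.conj_z_iff P hi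
  · exact and_congr_left fun _ => K.conj_t_iff P hi
  obtain ⟨e1, e2⟩ := J2Order.mem_cent_of_zpowers (mul_self_of (orderOf_of_isConj K.orderOf_z h1))
    (mul_self_of (orderOf_of_isConj K.orderOf_t h2)) (mul_self_of K.orderOf_z) h3
  haveI := Fact.mk Nat.prime_two
  let x' : K.Cz := ⟨x, Subgroup.mem_centralizer_singleton_iff.2 e1⟩
  let y' : K.Cz := ⟨y, Subgroup.mem_centralizer_singleton_iff.2 e2⟩
  have hy' : y' ∈ K.vC := by
    obtain ⟨S, hS⟩ := K.sylow_cz
    obtain ⟨R, hR⟩ := (IsPGroup.of_card (n := 1) (show Nat.card (Subgroup.zpowers y') = 2 ^ 1 by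
      rw [Nat.card_zpowers, ← Subgroup.orderOf_coe, orderOf_of_isConj K.orderOf_t h2]; rfl)).exists_le_sylow
    obtain ⟨g, hg⟩ := MulAction.exists_smul_eq K.Cz R S
    have hm : g * y' * g⁻¹ ∈ (S : Subgroup K.Cz) := by
      rw [← hg]; exact ⟨y', hR (Subgroup.mem_zpowers y'), rfl⟩
    obtain ⟨i, hi, e⟩ := (K.mem_sub tH_ok.1).1
      ((K.mem_T_iff).2 ⟨(hS _).1 hm, Subgroup.mem_centralizer_singleton_iff.1 (g * y' * g⁻¹).2⟩)
    have hiV : i ∈ vH := by
      rcases K.tClass_T hi (h2.trans (isConj_iff.2 ⟨(g : G), e.symm⟩)) with rfl | rfl | rfl <;>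
        simp [vH, iC]
    have hgy : g * y' * g⁻¹ ∈ K.vC := (K.mem_vC).2 ⟨i, hiV, e⟩
    have := hN.conj_mem _ hgy g⁻¹
    rwa [show g⁻¹ * (g * y' * g⁻¹) * g⁻¹⁻¹ = y' by group] at this
  have hyT : y ∈ Subgroup.centralizer ({φ iC} : Set G) := by
    obtain ⟨i, hi, e⟩ := (K.mem_vC).1 hy'
    have e' : φ i = y := e
    rw [← e']; exact K.mem i (vH_lt i hi).1
  refine ⟨?_, hyT⟩
  -- some power of the product is `z`; odd powers lie in `vC * x' * y'`
  set w := x' * y' with hw
  have hx2 : x' * x' = 1 := Subtype.ext (mul_self_of (orderOf_of_isConj K.orderOf_z h1))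
  have hw2 : w * w ∈ K.vC := by
    have : w * w = x' * y' * x'⁻¹ * y' := by
      rw [inv_eq_of_mul_eq_one_right hx2, hw, mul_assoc (x' * y')]
    rw [this]
    exact K.vC.mul_mem (hN.conj_mem _ hy' x') hy'
  obtain ⟨k, hk⟩ := Subgroup.mem_zpowers_iff.1 h3
  let z' : K.Cz := ⟨φ iZ, Subgroup.mem_centralizer_singleton_iff.2 rfl⟩
  have hk' : w ^ k = z' := Subtype.ext (by
    rw [Subgroup.coe_zpow]; exact hk)
  have hpow : ∀ j : ℤ, w ^ (2 * j) ∈ K.vC := fun j => by
    rw [zpow_mul, zpow_two]; exact K.vC.zpow_mem hw2 j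
  obtain ⟨j, hj⟩ := Int.even_or_odd' k
  have hznV : z' ∉ K.vC := by
    intro h
    obtain ⟨i, hi, e⟩ := (K.mem_vC).1 h
    have e' : φ i = φ iZ := e
    have := K.inj i (vH_lt i hi).1 iZ idx_lt.2.2.1 e'
    subst this
    simp [vH, iZ] at hi
  rcases hj with rfl | rfl
  · exact absurd (hk' ▸ hpow j) hznV
  · have hxz : x' = (w ^ (2 * j))⁻¹ * z' * y'⁻¹ := by
      rw [← hk', zpow_add, zpow_one, hw]; group
    have hmemC : ∀ v : K.Cz, v ∈ K.vC → (v : G) ∈ Subgroup.centralizer ({φ iC} : Set G) := by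
      intro v hv
      obtain ⟨i, hi, e⟩ := (K.mem_vC).1 hv
      rw [← e]; exact K.mem i (vH_lt i hi).1
    show ((x' : K.Cz) : G) ∈ Subgroup.centralizer ({φ iC} : Set G)
    rw [hxz]
    exact Subgroup.mul_mem _ (Subgroup.mul_mem _ (hmemC _ (K.vC.inv_mem (hpow j)))
      (K.mem iZ idx_lt.2.2.1)) (hmemC _ (K.vC.inv_mem hy'))

theorem card_Cz_240 [Finite G] [IsSimpleGroup G] (hna : ¬ IsMulCommutative G) (Q : K.Quarter A K₀) :
    Nat.card K.Cz = 240 ∧ ¬ K.vC.Normal := by
  rcases K.card_Cz hna Q with ⟨hN, h48⟩ | ⟨hN, h⟩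
  swap
  · exact ⟨h, hN⟩
  exfalso
  letI := Fintype.ofFinite G
  have hB := K.conj_B_t hna
  have P := K.pattern_t hna hB
  obtain ⟨n1, -, -, n4, -, -, -, -⟩ := lists_ok
  have l1 : ∀ i ∈ tlT, i < 192 := fun i hi => lists_lt (.inl hi)
  have l4 : ∀ i ∈ clZ, i < 192 := fun i hi => lists_lt (.inr (.inr (.inr hi)))
  have hct : Nat.card (Subgroup.centralizer ({φ iC} : Set G)) = 192 := K.card_eq
  have ht := K.count_at_t P n4 n1 l4 l1
  rw [show pairNum 192 mH clZ tlT iC = 240 by decide +kernel] at ht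
  have horder := J2Order.order_formula (φ iZ) (φ iC) K.orderOf_z K.orderOf_t K.not_conj_Z (K.all_invol P)
  rw [K.count_small hna hN, ht, hct, h48] at horder
  have hcls := J2Order.card_cls (φ iC)
  rw [hct, horder] at hcls
  have hq : (J2Order.pairsAt (φ iC) (φ iC) (φ iC)).card = 318 := by
    have hnum : pairNum 192 mH tlT tlT iC = 318 := by decide +kernel
    rw [← hnum]
    exact Rep.card_pairsAt K K.orderOf_t K.orderOf_t idx_lt.1 (mul_self_of K.orderOf_t)
      (fun _ _ => Rep.mem_of_pair K K.orderOf_t K.orderOf_t (mul_self_of K.orderOf_t)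
        fun _ => Subgroup.mem_centralizer_singleton_iff.2) n1 n1 l1 l1
      (fun _ hi => (and_iff_left (K.comm_t hi)).trans (K.conj_t_iff P hi))
      fun _ hi => (and_iff_left (K.comm_t hi)).trans (K.conj_t_iff P hi)
  set C := J2Order.cls (φ iC) with hC
  have hsum : (C.biUnion fun i => J2Order.pairsAt (φ iC) (φ iC) i).card = C.card * 318 := by
    rw [Finset.card_biUnion, Finset.sum_const_nat]
    · intro i hi
      simp only [hC, J2Order.cls, Finset.mem_filter, Finset.mem_univ, true_and] at hi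
      obtain ⟨g, rfl⟩ := isConj_iff.1 hi
      rw [J2Order.card_pairsAt_conj, hq]
    · intro i hi j hj hij
      rw [Function.onFun, Finset.disjoint_left]
      intro p h1 h2
      simp only [Finset.mem_coe, hC, J2Order.cls, Finset.mem_filter, Finset.mem_univ, true_and] at hi hj
      simp only [J2Order.pairsAt, Finset.mem_filter, Finset.mem_univ, true_and] at h1 h2
      have ti := J2Order.orderTwo (orderOf_of_isConj K.orderOf_t hi)
      have tj := J2Order.orderTwo (orderOf_of_isConj K.orderOf_t hj)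
      exact hij ((J2Order.invol_unique ti.1 ti.2 h1.2.2).trans
        (J2Order.invol_unique tj.1 tj.2 h2.2.2).symm)
  have hle : (C.biUnion fun i => J2Order.pairsAt (φ iC) (φ iC) i).card ≤ (C ×ˢ C).card := by
    refine Finset.card_le_card ?_
    intro p hp
    simp only [Finset.mem_biUnion, J2Order.pairsAt, Finset.mem_filter, Finset.mem_univ, true_and] at hp
    obtain ⟨i, -, h1, h2, -⟩ := hp
    simp only [hC, J2Order.cls, Finset.mem_product, Finset.mem_filter, Finset.mem_univ, true_and]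
    exact ⟨h1, h2⟩
  rw [hsum, Finset.card_product] at hle
  have : C.card = 63 := by omega
  rw [this] at hle
  omega

theorem card_Cz' [Finite G] [IsSimpleGroup G] (hna : ¬ IsMulCommutative G) : Nat.card K.Cz = 240 := by
  obtain ⟨A, K₀, Q⟩ := K.exists_quarter hna
  exact (K.card_Cz_240 hna Q).1

end Hyp

end CfsgLib.M12Recog
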