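import Cfsg.Agent.Lib.M12Recog.Fusion
import Cfsg.Agent.Lib.Invol.ElementaryCentralizer

/-!
The centraliser of the second involution has a normal subgroup of index four with four-groups as Sylow
2-subgroups, centralising the involutions in it only.
-/

set_option autoImplicit false
set_option linter.style.haveILetI false
set_option linter.unusedSectionVars false

namespace CfsgLib.M12Recog

open scoped Classical

theorem vH_ok : subOK 192 mH vH = true ∧ vH.Nodup ∧ vH.length = 4 ∧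
    vH.all (fun i => tH.contains i) = true := by decide +kernel

theorem mem_vH {i : ℕ} : i ∈ vH ↔ i = 0 ∨ i = 9 ∨ i = 121 ∨ i = 128 := by simp [vH]

theorem swap_A : ∃ j ∈ tH, mH j 9 = mH 121 j := by
  have h : (tH.any fun j => mH j 9 == mH 121 j) = true := by decide +kernel
  simpa using h

namespace Hyp

variable {G : Type*} [Group G] {φ : ℕ → G} (K : Hyp φ)
include K

/-- the centraliser of the second involution -/
abbrev Cz (_ : Hyp φ) : Subgroup G := Subgroup.centralizer ({φ iZ} : Set G)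

theorem phi_mem_Cz {i : ℕ} (hi : i ∈ tH) : φ i ∈ K.Cz :=
  Subgroup.mem_centralizer_singleton_iff.2
    ((K.mem_T_iff).1 ((K.mem_sub tH_ok.1).2 ⟨i, hi, rfl⟩)).2

/-- an element of `tH` in the centraliser -/
def tc (K : Hyp φ) (i : ℕ) (hi : i ∈ tH) : K.Cz := ⟨φ i, K.phi_mem_Cz hi⟩

/-- An element of the centraliser moving `t` to `φ 9`. -/
theorem exists_swap [Finite G] [IsSimpleGroup G] (hna : ¬ IsMulCommutative G) :
    ∃ g ∈ K.Cz, g * φ iC * g⁻¹ = φ 9 ∧ g * φ 9 * g⁻¹ = φ iC ∧ g * φ 121 * g⁻¹ = φ 121 := by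
  obtain ⟨f1, f2, f3, f4, f5, f6, f7, f8, f9, f10⟩ := four_facts
  have h9 : (9 : ℕ) < 192 := by norm_num
  obtain ⟨g₀, hg₀⟩ := isConj_iff.1 ((K.conj_A hna).trans (K.isConj_list clA_conj idx_lt.2.1 f7)).symm
  obtain ⟨i, hi, e, hcase, hn⟩ := K.nCent_conj h9 hg₀
  obtain ⟨n0, n1, n2, n3, nA, nB, nZ⟩ := nCent_vals
  simp only [List.all_eq_true, beq_iff_eq] at nA nB nZ
  rw [nA 9 f7] at hn
  have hiA : i ∈ clA := by
    rcases hcase with rfl | h | h | h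
    · omega
    · exact h
    · have := nB i h; omega
    · have := nZ i h; omega
  obtain ⟨c, hc, hce⟩ := K.conj_of_list clA_conj idx_lt.2.1 hiA
  obtain ⟨d, hd, hde⟩ := K.conj_of_list clA_conj idx_lt.2.1 f7
  obtain ⟨g, hg⟩ : ∃ g, g = d * c⁻¹ * g₀ := ⟨_, rfl⟩
  have hfix : d * c⁻¹ * φ iC * (d * c⁻¹)⁻¹ = φ iC := by
    have e1 : c⁻¹ * φ iC = φ iC * c⁻¹ := (Commute.inv_left (show Commute c (φ iC) from hc)).eq
    rw [mul_inv_eq_iff_eq_mul, mul_assoc, e1, ← mul_assoc, hd, mul_assoc]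
  have g1 : g * φ 9 * g⁻¹ = φ iC := by
    rw [hg, show d * c⁻¹ * g₀ * φ 9 * (d * c⁻¹ * g₀)⁻¹ =
      d * c⁻¹ * (g₀ * φ 9 * g₀⁻¹) * (d * c⁻¹)⁻¹ by group, hg₀, hfix]
  have g2 : g * φ iC * g⁻¹ = φ 9 := by
    rw [hg, show d * c⁻¹ * g₀ * φ iC * (d * c⁻¹ * g₀)⁻¹ =
      d * (c⁻¹ * (g₀ * φ iC * g₀⁻¹) * c) * d⁻¹ by group, ← e, ← hce,
      show c⁻¹ * (c * φ iA * c⁻¹) * c = φ iA by group, hde]
  have z9 : φ iZ * φ 9 = φ 9 * φ iZ :=
    (((K.mem_T_iff).1 ((K.mem_sub tH_ok.1).2 ⟨9, f9, rfl⟩)).2).symm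
  have x1 : g * φ iZ * g⁻¹ * φ iC = φ iC * (g * φ iZ * g⁻¹) := by rw [← g1]; exact conj_comm z9
  have x2 : g * φ iZ * g⁻¹ * φ 9 = φ 9 * (g * φ iZ * g⁻¹) := by
    rw [← g2]; exact conj_comm K.t_comm_z.symm
  obtain ⟨j, hj, ej, hjc⟩ := K.invol_idx (orderOf_of_isConj K.orderOf_z (isConj_iff.2 ⟨g, rfl⟩)) x1
  have hjZ : j ∈ clZ :=
    (K.conj_z_iff (K.pattern_t hna (K.conj_B_t hna)) hj).1 (isConj_iff.2 ⟨g, ej.symm⟩)
  have hchk : (clZ.all fun j => mH j 9 != mH 9 j ||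
      (List.range 192).any fun c => mH c 9 == mH 9 c && mH c iZ == mH j c) = true := by decide +kernel
  simp only [List.all_eq_true, List.any_eq_true, List.mem_range, Bool.or_eq_true, Bool.and_eq_true,
    bne_iff_ne, beq_iff_eq] at hchk
  have hj9 : mH j 9 = mH 9 j := (K.comm_iff hj h9).1 (by rw [ej]; exact x2)
  obtain ⟨k, hk, k9, kz⟩ := (hchk j hjZ).resolve_left fun h => h hj9
  have q9 : φ k * φ 9 = φ 9 * φ k := (K.comm_iff hk h9).2 k9
  have qz : φ k * φ iZ = φ j * φ k := by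
    rw [← K.mul k hk _ idx_lt.2.2.1, ← K.mul j hj k hk, kz]
  have r1 : (φ k)⁻¹ * g * φ iC * ((φ k)⁻¹ * g)⁻¹ = φ 9 := by
    rw [show (φ k)⁻¹ * g * φ iC * ((φ k)⁻¹ * g)⁻¹ = (φ k)⁻¹ * (g * φ iC * g⁻¹) * φ k by group, g2,
      mul_assoc, ← q9]
    group
  have r2 : (φ k)⁻¹ * g * φ 9 * ((φ k)⁻¹ * g)⁻¹ = φ iC := by
    rw [show (φ k)⁻¹ * g * φ 9 * ((φ k)⁻¹ * g)⁻¹ = (φ k)⁻¹ * (g * φ 9 * g⁻¹) * φ k by group, g1,
      mul_assoc, ← K.comm_t hk]
    group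
  refine ⟨(φ k)⁻¹ * g, Subgroup.mem_centralizer_singleton_iff.2 (mul_inv_eq_iff_eq_mul.1 ?_), r1, r2, ?_⟩
  · rw [show (φ k)⁻¹ * g * φ iZ * ((φ k)⁻¹ * g)⁻¹ = (φ k)⁻¹ * (g * φ iZ * g⁻¹) * φ k by group, ← ej,
      mul_assoc, ← qz]
    group
  · rw [show φ 121 = φ iC * φ 9 by rw [← K.mul _ idx_lt.1 _ h9, f2]]
    calc (φ k)⁻¹ * g * (φ iC * φ 9) * ((φ k)⁻¹ * g)⁻¹
        = ((φ k)⁻¹ * g * φ iC * ((φ k)⁻¹ * g)⁻¹) * ((φ k)⁻¹ * g * φ 9 * ((φ k)⁻¹ * g)⁻¹) := by group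
      _ = φ 9 * φ iC := by rw [r1, r2]
      _ = φ iC * φ 9 := ((K.comm_iff h9 idx_lt.1).2 f6.symm)

/-- The three involutions are conjugate in the centraliser. -/
theorem fused [Finite G] [IsSimpleGroup G] (hna : ¬ IsMulCommutative G) {i : ℕ}
    (hi : i = iC ∨ i = 9 ∨ i = 121) : ∃ g ∈ K.Cz, g * φ iC * g⁻¹ = φ i := by
  obtain ⟨g, hg, h1, h2, -⟩ := K.exists_swap hna
  rcases hi with rfl | rfl | rfl
  · exact ⟨1, one_mem _, by group⟩
  · exact ⟨g, hg, h1⟩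
  · obtain ⟨j, hj, e⟩ := swap_A
    refine ⟨φ j * g, mul_mem (K.phi_mem_Cz hj) hg, ?_⟩
    rw [show φ j * g * φ iC * (φ j * g)⁻¹ = φ j * (g * φ iC * g⁻¹) * (φ j)⁻¹ by group, h1,
      mul_inv_eq_iff_eq_mul, ← K.mul j (tH_lt j hj) 9 (by norm_num),
      ← K.mul 121 (by norm_num) j (tH_lt j hj), e]

/-- A normal subgroup of index two of the centraliser avoiding a given element. -/
theorem exists_index_two [Finite G] {S : Sylow 2 K.Cz}
    (hS : ∀ x : K.Cz, x ∈ S ↔ (x : G) * φ iC = φ iC * (x : G)) {l : List ℕ} {u : ℕ}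
    (hl : subOK 192 mH l = true) (hd : l.Nodup) (hlen : l.length = 8) (hlT : ∀ i ∈ l, i ∈ tH)
    (huT : u ∈ tH) (hu2 : mH u u = 0) (hul : u ∉ l)
    (hno : ∀ g ∈ K.Cz, ∀ i ∈ l, φ i ≠ g * φ u * g⁻¹) :
    ∃ M : Subgroup K.Cz, M.Normal ∧ M.index = 2 ∧ K.tc u huT ∉ M := by
  set Q := (K.sub l).subgroupOf K.Cz with hQ
  have hle : K.sub l ≤ K.Cz := fun x hx => by
    obtain ⟨i, hi, rfl⟩ := (K.mem_sub hl).1 hx
    exact K.phi_mem_Cz (hlT i hi)
  have hQS : Q ≤ (S : Subgroup K.Cz) := fun x hx => by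
    obtain ⟨i, hi, e⟩ := (K.mem_sub hl).1 (Subgroup.mem_subgroupOf.1 hx)
    exact (hS x).2 (e ▸ K.comm_t (tH_lt i (hlT i hi)))
  have hScard : Nat.card (S : Subgroup K.Cz) = 16 := by
    have e : (S : Subgroup K.Cz) = (K.sub tH).subgroupOf K.Cz := by
      ext x
      rw [Subgroup.mem_subgroupOf, K.mem_T_iff]
      exact (hS x).trans (and_iff_left (Subgroup.mem_centralizer_singleton_iff.1 x.2)).symm
    rw [e, Nat.card_congr (Subgroup.subgroupOfEquivOfLe (H := K.sub tH) (K := K.Cz) fun x hx => by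
      obtain ⟨i, hi, rfl⟩ := (K.mem_sub tH_ok.1).1 hx
      exact K.phi_mem_Cz hi).toEquiv, K.card_sub tH_ok.1 tH_ok.2.1, tH_ok.2.2]
  have hrel : Q.relIndex (S : Subgroup K.Cz) = 2 := by
    have h := Subgroup.card_mul_index (Q.subgroupOf (S : Subgroup K.Cz))
    rw [Nat.card_congr (Subgroup.subgroupOfEquivOfLe hQS).toEquiv, hQ,
      Nat.card_congr (Subgroup.subgroupOfEquivOfLe hle).toEquiv, K.card_sub hl hd, hlen, hScard] at h
    rw [Subgroup.relIndex, hQ]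
    omega
  have hu' : K.tc u huT * K.tc u huT = 1 := Subtype.ext (by
    show φ u * φ u = 1
    rw [← K.mul u (tH_lt u huT) u (tH_lt u huT), hu2, K.one])
  have huS : K.tc u huT ∈ (S : Subgroup K.Cz) := (hS _).2 (K.comm_t (tH_lt u huT))
  have huQ : K.tc u huT ∉ Q := fun h => by
    obtain ⟨i, hi, e⟩ := (K.mem_sub hl).1 (Subgroup.mem_subgroupOf.1 h)
    have e' : φ i = φ u := e
    exact hul (K.inj i (tH_lt i (hlT i hi)) u (tH_lt u huT) e' ▸ hi)
  rcases Transfer.thompson_transfer S hrel hu' huS huQ with h | ⟨g, -, hg⟩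
  · exact h
  · obtain ⟨i, hi, e⟩ := (K.mem_sub hl).1 (Subgroup.mem_subgroupOf.1 hg)
    exact absurd e (hno g g.2 i hi)

/-- a first maximal subgroup avoiding `iZ` -/
def _root_.CfsgLib.M12Recog.maxT : List ℕ := [0, 9, 61, 68, 121, 128, 180, 189]

theorem exists_three [Finite G] [IsSimpleGroup G] (hna : ¬ IsMulCommutative G) {S : Sylow 2 K.Cz}
    (hS : ∀ x : K.Cz, x ∈ S ↔ (x : G) * φ iC = φ iC * (x : G)) :
    (∃ M : Subgroup K.Cz, M.Normal ∧ M.index = 2 ∧ K.tc iZ iC_mem_tH.2.2.1 ∉ M) ∧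
    ∀ u, (u = iS ∨ u = iZ') → ∀ hu : u ∈ tH, ∃ M : Subgroup K.Cz, M.Normal ∧ M.index = 2 ∧
      K.tc u hu ∉ M := by
  have P := K.pattern_t hna (K.conj_B_t hna)
  refine ⟨?_, fun u hu huT => ?_⟩
  · obtain ⟨h1, h2, h3, h4, h5, h6⟩ : subOK 192 mH maxT = true ∧ maxT.Nodup ∧ maxT.length = 8 ∧
        (maxT.all fun i => tH.contains i) = true ∧ iZ ∉ maxT ∧ mH iZ iZ = 0 := by decide +kernel
    simp only [List.all_eq_true, List.contains_iff_mem] at h4
    refine K.exists_index_two hS h1 h2 h3 h4 _ h6 h5 fun g hg i hi e => h5 ?_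
    rw [mul_inv_eq_iff_eq_mul.2 (Subgroup.mem_centralizer_singleton_iff.1 hg)] at e
    exact K.inj i (tH_lt i (h4 i hi)) iZ idx_lt.2.2.1 e ▸ hi
  · obtain ⟨h1, h2, h3, h4⟩ : subOK 192 mH tcvH = true ∧ tcvH.Nodup ∧ tcvH.length = 8 ∧
        (tcvH.all fun i => tH.contains i) = true := by decide +kernel
    simp only [List.all_eq_true, List.contains_iff_mem] at h4
    have hu4 : mH u u = 0 ∧ u ∉ tcvH ∧ u ∈ clZ ∧ mH u iZ ∈ clZ ∧ u ≠ iZ ∧ u < 192 := by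
      rcases hu with rfl | rfl <;> decide +kernel
    obtain ⟨u2, utc, uZ, uzZ, une, ul⟩ := hu4
    refine K.exists_index_two hS h1 h2 h3 h4 huT u2 utc fun g hg i hi e => ?_
    have hgz : g * φ iZ * g⁻¹ = φ iZ :=
      mul_inv_eq_iff_eq_mul.2 (Subgroup.mem_centralizer_singleton_iff.1 hg)
    have hil := tH_lt i (h4 i hi)
    have hchk : (tcvH.all fun i => i == 0 || i == iZ || tlT.contains i ||
        tlT.contains (mH i iZ)) = true := by decide +kernel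
    simp only [List.all_eq_true, Bool.or_eq_true, beq_iff_eq, List.contains_iff_mem] at hchk
    have hzu : IsConj (φ iZ) (φ u) := P.z_mem u uZ
    have hzi : IsConj (φ iZ) (φ i) := hzu.trans (isConj_iff.2 ⟨g, e.symm⟩)
    rcases hchk i hi with ((rfl | rfl) | h) | h
    · have := orderOf_of_isConj K.orderOf_z hzi
      rw [K.one, orderOf_one] at this
      omega
    · refine une (K.inj u ul iZ idx_lt.2.2.1 ?_)
      exact (mul_left_cancel (mul_right_cancel (hgz.trans e))).symm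
    · exact K.not_conj_Z (hzi.trans (P.t_mem i h).symm)
    · refine K.not_conj_Z ((P.z_mem _ uzZ).trans (IsConj.trans ?_ (P.t_mem _ h).symm))
      refine isConj_iff.2 ⟨g, ?_⟩
      rw [K.mul u ul _ idx_lt.2.2.1, K.mul i hil _ idx_lt.2.2.1, e]
      conv_rhs => arg 2; rw [← hgz]
      group

/-- what is needed of the subgroup of index four -/
structure Quarter (K : Hyp φ) (A K₀ : Subgroup K.Cz) : Prop where
  hA : A.Normal
  hA2 : A.index = 2
  hzA : K.tc iZ iC_mem_tH.2.2.1 ∉ A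
  hK : K₀.Normal
  hK4 : K₀.index = 4
  hV : ∀ i (hi : i ∈ tH), K.tc i hi ∈ K₀ ↔ i ∈ vH

theorem exists_quarter [Finite G] [IsSimpleGroup G] (hna : ¬ IsMulCommutative G) :
    ∃ A K₀ : Subgroup K.Cz, K.Quarter A K₀ := by
  obtain ⟨S, hS⟩ := K.sylow_cz
  obtain ⟨⟨A, hAn, hA2, hzA⟩, hu⟩ := K.exists_three hna hS
  obtain ⟨hsT, hs'T, hsz⟩ : iS ∈ tH ∧ iZ' ∈ tH ∧ mH iS iZ = iZ' := by decide +kernel
  have hprod : K.tc iS hsT * K.tc iZ iC_mem_tH.2.2.1 = K.tc iZ' hs'T := Subtype.ext (by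
    show φ iS * φ iZ = φ iZ'
    rw [← K.mul _ (tH_lt _ hsT) _ idx_lt.2.2.1, hsz])
  have hmul : ∀ {a b : K.Cz}, (a * b ∈ A ↔ (a ∈ A ↔ b ∈ A)) :=
    fun {a b} => Subgroup.mul_mem_iff_of_index_two hA2
  obtain ⟨B, hBn, hB2, hout⟩ : ∃ B : Subgroup K.Cz, B.Normal ∧ B.index = 2 ∧
      ¬ (K.tc iS hsT ∈ A ∧ K.tc iS hsT ∈ B) ∧ ¬ (K.tc iZ' hs'T ∈ A ∧ K.tc iZ' hs'T ∈ B) := by
    by_cases hsA : K.tc iS hsT ∈ A
    · obtain ⟨B, hBn, hB2, hB⟩ := hu iS (.inl rfl) hsT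
      exact ⟨B, hBn, hB2, fun h => hB h.2, fun h => hzA (by
        have := h.1; rw [← hprod, hmul] at this; exact this.1 hsA)⟩
    · obtain ⟨B, hBn, hB2, hB⟩ := hu iZ' (.inr rfl) hs'T
      exact ⟨B, hBn, hB2, fun h => hsA h.1, fun h => hB h.2⟩
  have hsq : ∀ c : K.Cz, c * c ∈ A ⊓ B := fun c =>
    Subgroup.mem_inf.2 ⟨by simp [hmul],
      by simp [Subgroup.mul_mem_iff_of_index_two hB2]⟩
  haveI hIn : (A ⊓ B).Normal := Subgroup.normal_inf_normal A B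
  have h9T := four_facts.2.2.2.2.2.2.2.2.1
  have h121T := four_facts.2.2.2.2.2.2.2.2.2
  have hVin : ∀ i (hi : i ∈ tH), i ∈ vH → K.tc i hi ∈ A ⊓ B := by
    have htI : K.tc iC iC_mem_tH.1 ∈ A ⊓ B := by
      obtain ⟨j, hj, e⟩ := tH_sqrt
      have : K.tc iC iC_mem_tH.1 = K.tc j hj * K.tc j hj := Subtype.ext (by
        show φ iC = φ j * φ j
        rw [← K.mul j (tH_lt j hj) j (tH_lt j hj), e])
      rw [this]; exact hsq _
    intro i hi hiv
    rcases mem_vH.1 hiv with rfl | rfl | rfl | rfl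
    · convert one_mem (A ⊓ B)
      exact Subtype.ext K.one
    · obtain ⟨g, hg, e⟩ := K.fused hna (i := 9) (.inr (.inl rfl))
      convert hIn.conj_mem _ htI ⟨g, hg⟩
      exact Subtype.ext e.symm
    · obtain ⟨g, hg, e⟩ := K.fused hna (i := 121) (.inr (.inr rfl))
      convert hIn.conj_mem _ htI ⟨g, hg⟩
      exact Subtype.ext e.symm
    · exact htI
  have htrans : (tH.all fun i => vH.contains i || vH.any fun v =>
      i == mH v iZ || i == mH v iS || i == mH v iZ') = true := by decide +kernel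
  simp only [List.all_eq_true, Bool.or_eq_true, List.any_eq_true, List.contains_iff_mem,
    beq_iff_eq] at htrans
  have hsub : ∀ i (hi : i ∈ tH), K.tc i hi ∈ A ⊓ B → i ∈ vH := by
    intro i hi hmem
    rcases htrans i hi with h | ⟨v, hv, h⟩
    · exact h
    exfalso
    have hvT : v ∈ tH := by
      have h4 := vH_ok.2.2.2
      simp only [List.all_eq_true, List.contains_iff_mem] at h4
      exact h4 v hv
    have key : ∀ u (hu : u ∈ tH), i = mH v u → K.tc u hu ∈ A ⊓ B := by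
      intro u hu e
      have e' : K.tc i hi = K.tc v hvT * K.tc u hu := Subtype.ext (by
        show φ i = φ v * φ u
        rw [e, K.mul v (tH_lt v hvT) u (tH_lt u hu)])
      rw [e'] at hmem
      exact ((A ⊓ B).mul_mem_cancel_left (hVin v hvT hv)).1 hmem
    rcases h with (h | h) | h
    · exact hzA (Subgroup.mem_inf.1 (key iZ iC_mem_tH.2.2.1 h)).1
    · exact hout.1 (Subgroup.mem_inf.1 (key iS hsT h))
    · exact hout.2 (Subgroup.mem_inf.1 (key iZ' hs'T h))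
  refine ⟨A, A ⊓ B, hAn, hA2, hzA, hIn, le_antisymm (Subgroup.index_inf_le.trans
    (by rw [hA2, hB2])) ?_, fun i hi => ⟨hsub i hi, hVin i hi⟩⟩
  have hlist : ([0, iZ, iS, iZ'].all fun i => tH.contains i) = true ∧
      ([0, iZ, iS, iZ'].all fun i => [0, iZ, iS, iZ'].all fun j =>
        i == j || !vH.contains (mH (invH.getD i 0) j)) = true ∧
      ([0, iZ, iS, iZ'].all fun i => [0, iZ, iS, iZ'].all fun j =>
        tH.contains (mH (invH.getD i 0) j)) = true ∧ [0, iZ, iS, iZ'].Nodup := by decide +kernel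
  obtain ⟨l1, l2, l3, l4⟩ := hlist
  simp only [List.all_eq_true, Bool.or_eq_true, beq_iff_eq, Bool.not_eq_true', ← Bool.not_eq_true,
    List.contains_iff_mem] at l1 l2 l3
  let F : {i // i ∈ [0, iZ, iS, iZ'].toFinset} → K.Cz ⧸ (A ⊓ B) := fun i =>
    (K.tc i.1 (l1 _ (List.mem_toFinset.1 i.2)) : K.Cz)
  have hF : Function.Injective F := by
    intro i j h
    have hi := List.mem_toFinset.1 i.2
    have hj := List.mem_toFinset.1 j.2
    refine Subtype.ext ((l2 _ hi _ hj).resolve_right fun hne => hne (hsub _ (l3 _ hi _ hj) ?_))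
    have h' := QuotientGroup.eq.1 h
    obtain ⟨i1, i2, -⟩ := invH_spec (tH_lt _ (l1 _ hi))
    convert h' using 1
    refine Subtype.ext ?_
    show φ (mH (invH.getD i 0) j) = (φ i)⁻¹ * φ j
    rw [K.mul _ i1 _ (tH_lt _ (l1 _ hj)), K.inv_eq (tH_lt _ (l1 _ hi)) i1 i2]
  have := Nat.card_le_card_of_injective F hF
  rw [Nat.card_eq_fintype_card, Fintype.card_coe, List.toFinset_card_of_nodup l4] at this
  exact this

end Hyp

end CfsgLib.M12Recog
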