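import Cfsg.Agent.Lib.M12Recog.Tab
import Cfsg.Agent.Lib.J2Order.Count

/-!
Counting pairs of involutions in a table.
-/

set_option autoImplicit false

open scoped Classical

namespace CfsgLib.M12Recog

/-- whether some power `p * w ^ k`, `k < fuel`, is `c` -/
def powHit (m : ℕ → ℕ → ℕ) (w c : ℕ) : ℕ → ℕ → Bool
  | 0, _ => false
  | fuel + 1, p => (p == c) || powHit m w c fuel (m p w)

theorem powHit_iff {m : ℕ → ℕ → ℕ} {w c : ℕ} :
    ∀ (fuel j : ℕ), powHit m w c fuel (pw m w j) = true ↔ ∃ k < fuel, pw m w (j + k) = c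
  | 0, j => by simp [powHit]
  | fuel + 1, j => by
    simp only [powHit, Bool.or_eq_true, beq_iff_eq]
    rw [show m (pw m w j) w = pw m w (j + 1) from rfl, powHit_iff fuel (j + 1)]
    constructor
    · rintro (h | ⟨k, hk, h⟩)
      · exact ⟨0, by omega, h⟩
      · exact ⟨k + 1, by omega, by rwa [show j + (k + 1) = j + 1 + k by omega]⟩
    · rintro ⟨k, hk, h⟩
      cases k with
      | zero => exact Or.inl h
      | succ k => exact Or.inr ⟨k, by omega, by rwa [show j + 1 + k = j + (k + 1) by omega]⟩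

namespace Rep

variable {N : ℕ} {m : ℕ → ℕ → ℕ} {G : Type*} [Group G] {H : Subgroup G} {f : ℕ → G}
  (R : Rep N m H f)
include R

theorem mem_zpowers_iff {w c : ℕ} (hw : w < N) (hc : c < N) :
    f c ∈ Subgroup.zpowers (f w) ↔ powHit m w c N 0 = true := by
  have h0 : (0 : ℕ) = pw m w 0 := rfl
  rw [h0, powHit_iff]
  simp only [zero_add]
  have hfin : Finite H := Nat.finite_of_card_ne_zero (by rw [R.card_eq]; exact R.pos.ne')
  have hle : Subgroup.zpowers (f w) ≤ H := Subgroup.zpowers_le.2 (R.mem w hw)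
  have hfo : IsOfFinOrder (f w) := by
    have : Finite (Subgroup.zpowers (f w)) :=
      Finite.of_injective _ (Subgroup.inclusion_injective hle)
    exact isOfFinOrder_iff_zpow_eq_one.2 (by
      obtain ⟨k, hk⟩ := isOfFinOrder_of_finite (⟨f w, Subgroup.mem_zpowers _⟩ : Subgroup.zpowers (f w))
        |>.exists_pow_eq_one
      exact ⟨k, by exact_mod_cast hk.1.ne', by
        have := congrArg Subtype.val hk.2
        simpa using this⟩)
  have hord : orderOf (f w) ≤ N := by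
    rw [← Nat.card_zpowers, ← R.card_eq]
    exact Nat.card_le_card_of_injective _ (Subgroup.inclusion_injective hle)
  constructor
  · intro h
    obtain ⟨k, hk⟩ := hfo.mem_powers_iff_mem_zpowers.2 h
    refine ⟨k % orderOf (f w), lt_of_lt_of_le (Nat.mod_lt _ hfo.orderOf_pos) hord,
      R.inj _ (R.pw_lt hw _) _ hc ?_⟩
    rw [R.pow_eq hw, pow_mod_orderOf]
    exact hk
  · rintro ⟨k, -, h⟩
    rw [← h, R.pow_eq hw]
    exact Subgroup.pow_mem _ (Subgroup.mem_zpowers _) _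

/-- the count -/
def _root_.CfsgLib.M12Recog.pairNum (N : ℕ) (m : ℕ → ℕ → ℕ) (xs ys : List ℕ) (c : ℕ) : ℕ :=
  (xs.map fun x => (ys.filter fun y => powHit m (m x y) c N 0).length).sum

theorem card_pairsAt [Fintype G] {a b : G} (ha : orderOf a = 2) (hb : orderOf b = 2) {c : ℕ}
    (hc : c < N) (hc2 : f c * f c = 1) (hH : ∀ x y, IsConj a x → IsConj b y → f c ∈ Subgroup.zpowers (x * y) → x ∈ H ∧ y ∈ H) {xs ys : List ℕ}
    (hxs : xs.Nodup) (hys : ys.Nodup) (hxl : ∀ i ∈ xs, i < N) (hyl : ∀ i ∈ ys, i < N)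
    (hx : ∀ i < N, (IsConj a (f i) ∧ f i * f c = f c * f i ↔ i ∈ xs))
    (hy : ∀ i < N, (IsConj b (f i) ∧ f i * f c = f c * f i ↔ i ∈ ys)) :
    (J2Order.pairsAt a b (f c)).card = pairNum N m xs ys c := by
  set S := xs.toFinset.sigma fun x => (ys.toFinset).filter fun y => powHit m (m x y) c N 0 = true
    with hS
  have hcard : S.card = pairNum N m xs ys c := by
    rw [hS, Finset.card_sigma, pairNum, ← List.sum_toFinset _ hxs]
    refine Finset.sum_congr rfl fun x _ => ?_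
    rw [← List.toFinset_card_of_nodup (hys.filter _), List.toFinset_filter]
  rw [← hcard]
  refine (Finset.card_bij (fun p _ => (f p.1, f p.2)) ?_ ?_ ?_).symm
  · rintro ⟨x, y⟩ h
    simp only [hS, Finset.mem_sigma, Finset.mem_filter, List.mem_toFinset] at h
    simp only [J2Order.pairsAt, Finset.mem_filter, Finset.mem_univ, true_and]
    refine ⟨((hx x (hxl x h.1)).2 h.1).1, ((hy y (hyl y h.2.1)).2 h.2.1).1, ?_⟩
    rw [← R.mul x (hxl x h.1) y (hyl y h.2.1),
      R.mem_zpowers_iff (R.lt _ (hxl x h.1) _ (hyl y h.2.1)) hc]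
    exact h.2.2
  · rintro ⟨x, y⟩ h ⟨x', y'⟩ h' e
    simp only [hS, Finset.mem_sigma, Finset.mem_filter, List.mem_toFinset] at h h'
    simp only [Prod.mk.injEq] at e
    obtain rfl := R.inj x (hxl x h.1) x' (hxl x' h'.1) e.1
    obtain rfl := R.inj y (hyl y h.2.1) y' (hyl y' h'.2.1) e.2
    rfl
  · rintro ⟨x, y⟩ h
    simp only [J2Order.pairsAt, Finset.mem_filter, Finset.mem_univ, true_and] at h
    obtain ⟨h1, h2, h3⟩ := h
    obtain ⟨e1, e2⟩ := J2Order.mem_cent_of_zpowers (J2Order.orderTwo (J2Order.order_of_conj ha h1)).2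
      (J2Order.orderTwo (J2Order.order_of_conj hb h2)).2 hc2 h3
    obtain ⟨i, hi, rfl⟩ := R.surj x (hH x y h1 h2 h3).1
    obtain ⟨j, hj, rfl⟩ := R.surj y (hH _ y h1 h2 h3).2
    refine ⟨⟨i, j⟩, ?_, rfl⟩
    simp only [hS, Finset.mem_sigma, Finset.mem_filter, List.mem_toFinset]
    refine ⟨(hx i hi).1 ⟨h1, e1⟩, (hy j hj).1 ⟨h2, e2⟩, ?_⟩
    rwa [← R.mem_zpowers_iff (R.lt _ hi _ hj) hc, R.mul i hi j hj]

theorem mem_of_pair [Fintype G] {a b x y : G} (ha : orderOf a = 2) (hb : orderOf b = 2) {c : ℕ}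
    (hc2 : f c * f c = 1) (hH : ∀ x, x * f c = f c * x → x ∈ H) (h1 : IsConj a x) (h2 : IsConj b y)
    (h3 : f c ∈ Subgroup.zpowers (x * y)) : x ∈ H ∧ y ∈ H := by
  obtain ⟨e1, e2⟩ := J2Order.mem_cent_of_zpowers (J2Order.orderTwo (J2Order.order_of_conj ha h1)).2
    (J2Order.orderTwo (J2Order.order_of_conj hb h2)).2 hc2 h3
  exact ⟨hH x e1, hH y e2⟩

end Rep

end CfsgLib.M12Recog
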