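import Cfsg.Agent.Lib.M12Recog.Classes
import Cfsg.Agent.Lib.M12Recog.Pairs

/-!
The centraliser of the second involution, and the exclusion of one fusion pattern.
-/

set_option autoImplicit false
set_option linter.style.haveILetI false
set_option linter.unusedSectionVars false

namespace CfsgLib.M12Recog

open scoped Classical

theorem tH_ok : subOK 192 mH tH = true ∧ tH.Nodup ∧ tH.length = 16 := by decide +kernel

theorem tH_lt : ∀ i ∈ tH, i < 192 := by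
  have h : (tH.all fun i => Nat.blt i 192) = true := by decide +kernel
  simpa using h

theorem mem_tH_iff {i : ℕ} (hi : i < 192) : i ∈ tH ↔ mH i iZ = mH iZ i := by
  have h : ((List.range 192).all fun i => tH.contains i == (mH i iZ == mH iZ i)) = true := by
    decide +kernel
  simp only [List.all_eq_true, List.mem_range, beq_iff_eq] at h
  have := h i hi
  rw [← List.contains_iff_mem, this, beq_iff_eq]

theorem tH_sq : ∀ i ∈ tH, mH i i = 0 ∨ mH i i = iC := by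
  have h : (tH.all fun i => mH i i == 0 || mH i i == iC) = true := by decide +kernel
  simpa using h

theorem tH_sqrt : ∃ i ∈ tH, mH i i = iC := by
  have h : (tH.any fun i => mH i i == iC) = true := by decide +kernel
  simpa using h

theorem iC_mem_tH : iC ∈ tH ∧ iA ∈ tH ∧ iZ ∈ tH ∧ iS ∈ tH := by decide +kernel

theorem tH_classes : ∀ i ∈ tH, (i ∈ clA → i = 9 ∨ i = 121) ∧ i ∉ clB := by
  have h : (tH.all fun i => (!clA.contains i || i == 9 || i == 121) && !clB.contains i) = true := by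
    decide +kernel
  simp only [List.all_eq_true, Bool.and_eq_true, Bool.or_eq_true, Bool.not_eq_true',
    ← Bool.not_eq_true, List.contains_iff_mem, beq_iff_eq] at h
  intro i hi
  obtain ⟨h1, h2⟩ := h i hi
  exact ⟨fun ha => by tauto, h2⟩

theorem four_facts : mH 9 121 = iC ∧ mH iC 9 = 121 ∧ mH iC 121 = 9 ∧ mH 9 9 = 0 ∧ mH iC iC = 0 ∧
    mH iC 9 = mH 9 iC ∧ 9 ∈ clA ∧ 121 ∈ clA ∧ 9 ∈ tH ∧ 121 ∈ tH := by decide +kernel

namespace Hyp

variable {G : Type*} [Group G] {φ : ℕ → G} (K : Hyp φ)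
include K

theorem mem_T_iff {x : G} :
    x ∈ K.sub tH ↔ x * φ iC = φ iC * x ∧ x * φ iZ = φ iZ * x := by
  rw [K.mem_sub tH_ok.1]
  constructor
  · rintro ⟨i, hi, rfl⟩
    exact ⟨K.comm_t (tH_lt i hi), (K.comm_iff (tH_lt i hi) idx_lt.2.2.1).2
      ((mem_tH_iff (tH_lt i hi)).1 hi)⟩
  · rintro ⟨h1, h2⟩
    obtain ⟨i, hi, rfl⟩ := K.idx_of h1
    exact ⟨i, (mem_tH_iff hi).2 ((K.comm_iff hi idx_lt.2.2.1).1 h2), rfl⟩

theorem orderOf_z : orderOf (φ iZ) = 2 :=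
  K.orderOf_eq_two idx_lt.2.2.1 (by decide +kernel) (by decide)

theorem t_comm_z : φ iC * φ iZ = φ iZ * φ iC :=
  ((K.mem_T_iff).1 ((K.mem_sub tH_ok.1).2 ⟨iC, iC_mem_tH.1, rfl⟩)).2

theorem tClass_T {i : ℕ} (hi : i ∈ tH) (h : IsConj (φ iC) (φ i)) : i = iC ∨ i = 9 ∨ i = 121 := by
  have ho : orderOf (φ i) = 2 := orderOf_of_isConj K.orderOf_t h
  obtain ⟨j, hj, e, hc⟩ := K.invol_idx ho (K.comm_t (tH_lt i hi))
  obtain rfl := K.inj j hj i (tH_lt i hi) e
  rcases hc with rfl | hA | hB | hZ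
  · exact .inl rfl
  · exact .inr ((tH_classes j hi).1 hA)
  · exact absurd hB (tH_classes j hi).2
  · exact absurd ((K.isConj_list clZ_conj idx_lt.2.2.1 hZ).trans h.symm) K.not_conj_Z

theorem sylow_cz [Finite G] :
    ∃ S : Sylow 2 (Subgroup.centralizer ({φ iZ} : Set G)),
      ∀ x : Subgroup.centralizer ({φ iZ} : Set G), x ∈ S ↔ (x : G) * φ iC = φ iC * (x : G) := by
  haveI := Fact.mk Nat.prime_two
  set C := Subgroup.centralizer ({φ iZ} : Set G)
  have hle : K.sub tH ≤ C := fun x hx =>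
    Subgroup.mem_centralizer_singleton_iff.2 ((K.mem_T_iff).1 hx).2
  have hmem : ∀ x : C, x ∈ (K.sub tH).subgroupOf C ↔ (x : G) * φ iC = φ iC * (x : G) := fun x => by
    rw [Subgroup.mem_subgroupOf, K.mem_T_iff]
    exact and_iff_left (Subgroup.mem_centralizer_singleton_iff.1 x.2)
  have hP : IsPGroup 2 ((K.sub tH).subgroupOf C) := IsPGroup.of_card (n := 4) (by
    rw [Nat.card_congr (Subgroup.subgroupOfEquivOfLe hle).toEquiv, K.card_sub tH_ok.1 tH_ok.2.1,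
      tH_ok.2.2]
    rfl)
  let t' : C := ⟨φ iC, Subgroup.mem_centralizer_singleton_iff.2 K.t_comm_z⟩
  obtain ⟨S, hS⟩ := exists_sylow_eq hP t' (fun g hg => by
      obtain ⟨i, hi, hii⟩ := tH_sqrt
      have hx : (⟨φ i, hle ((K.mem_sub tH_ok.1).2 ⟨i, hi, rfl⟩)⟩ : C) ∈ (K.sub tH).subgroupOf C :=
        (K.mem_sub tH_ok.1).2 ⟨i, hi, rfl⟩
      obtain ⟨j, hj, e⟩ := (K.mem_sub tH_ok.1).1 (hg _ hx)
      have e' : φ j = (g : G) * φ i * (g : G)⁻¹ := e
      have e2 : φ (mH j j) = (g : G) * φ iC * (g : G)⁻¹ := by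
        rw [K.mul j (tH_lt j hj) j (tH_lt j hj), e', conj_sq, ← K.mul i (tH_lt i hi) i (tH_lt i hi), hii]
      refine Subtype.ext (mul_inv_eq_iff_eq_mul.1 ?_)
      show (g : G) * φ iC * (g : G)⁻¹ = φ iC
      rw [← e2]
      rcases tH_sq j hj with h | h
      · exfalso
        rw [h, K.one, eq_comm, conj_eq_one_iff] at e2
        exact absurd ((K.eq_one_iff idx_lt.1).1 e2) (by decide)
      · rw [h])
    (fun Q _ hQ _ x hx => (hmem x).2 (Subtype.ext_iff.1 (hQ x hx)))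
  refine ⟨S, fun x => ?_⟩
  rw [← hmem, ← hS]
  rfl

/-- The element of `{iA, 121}` sent to `φ iC`. -/
theorem exists_back {g : G} (hz : g * φ iZ = φ iZ * g)
    (hg : g * φ iC * g⁻¹ * φ iC = φ iC * (g * φ iC * g⁻¹)) (hne : g * φ iC ≠ φ iC * g) :
    ∃ a, (a = 9 ∨ a = 121) ∧ g * φ a * g⁻¹ = φ iC := by
  have hc : g⁻¹ * φ iC * g * φ iC = φ iC * (g⁻¹ * φ iC * g) := by
    have := conj_comm (g := g⁻¹) hg
    simp only [inv_inv, show g⁻¹ * (g * φ iC * g⁻¹) * g = φ iC by group] at this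
    exact this.symm
  have hcz : g⁻¹ * φ iC * g * φ iZ = φ iZ * (g⁻¹ * φ iC * g) := by
    have := conj_comm (g := g⁻¹) K.t_comm_z
    simp only [inv_inv, show g⁻¹ * φ iZ * g = φ iZ by rw [mul_assoc, ← hz]; group] at this
    exact this
  obtain ⟨a, ha, e⟩ := (K.mem_sub tH_ok.1).1 ((K.mem_T_iff).2 ⟨hc, hcz⟩)
  refine ⟨a, (K.tClass_T ha (isConj_iff.2 ⟨g⁻¹, by rw [inv_inv, ← e]⟩)).resolve_left ?_, by
    rw [e]; group⟩
  rintro rfl
  apply hne
  calc g * φ iC = g * (g⁻¹ * φ iC * g) := by rw [← e]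
    _ = φ iC * g := by group

theorem no_move [Finite G] (hB : ¬ IsConj (φ iC) (φ iB)) {g : G} (hz : g * φ iZ = φ iZ * g)
    (hg : g * φ iC * g⁻¹ * φ iC = φ iC * (g * φ iC * g⁻¹)) : g * φ iC = φ iC * g := by
  by_contra hne
  obtain ⟨a, ha, e⟩ := K.exists_back hz hg hne
  have hgz : g * φ iZ * g⁻¹ = φ iZ := mul_inv_eq_iff_eq_mul.2 hz
  obtain ⟨v, hv, ev⟩ : ∃ v ∈ tH, φ v = g * φ iC * g⁻¹ :=
    (K.mem_sub tH_ok.1).1 ((K.mem_T_iff).2 ⟨hg, by
      have := conj_comm (g := g) K.t_comm_z; rwa [hgz] at this⟩)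
  have hv' : v = 9 ∨ v = 121 := (K.tClass_T hv (isConj_iff.2 ⟨g, ev.symm⟩)).resolve_left (by
    rintro rfl
    exact hne (mul_inv_eq_iff_eq_mul.1 ev.symm))
  have hf : 3 < 192 ∧ 3 ∈ clA ∧ mH 3 9 = mH 9 3 ∧ mH 3 121 = mH 121 3 ∧
      mH (mH (mH iZ 3) iZ) 3 = iC ∧ (clA.all fun i => mH i i == 0) = true ∧
      ((iC :: clA).all fun i => mH (mH (mH iZ i) iZ) i != 9 && mH (mH (mH iZ i) iZ) i != 121) = true :=
    by decide +kernel
  obtain ⟨h3, h3A, h39, h3121, h3z, hA2, hcm⟩ := hf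
  simp only [List.all_eq_true, beq_iff_eq, Bool.and_eq_true, bne_iff_ne] at hA2 hcm
  have ha' : a < 192 ∧ mH 3 a = mH a 3 := by rcases ha with rfl | rfl <;> exact ⟨by norm_num, by assumption⟩
  have hxc : g * φ 3 * g⁻¹ * φ iC = φ iC * (g * φ 3 * g⁻¹) := by
    rw [← e]; exact conj_comm ((K.comm_iff h3 ha'.1).2 ha'.2)
  have hconj : IsConj (φ iA) (φ 3) := K.isConj_list clA_conj idx_lt.2.1 h3A
  have hord : orderOf (g * φ 3 * g⁻¹) = 2 := by
    rw [← MulAut.conj_apply, MulEquiv.orderOf_eq]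
    exact K.orderOf_eq_two h3 (hA2 3 h3A) (by norm_num)
  obtain ⟨i, hi, ei, hc⟩ := K.invol_idx hord hxc
  have haA : a ∈ clA := by rcases ha with rfl | rfl <;> decide
  have hbase : IsConj (φ iC) (φ 3) :=
    ((isConj_iff.2 ⟨g, e⟩ : IsConj (φ a) (φ iC)).symm.trans
      (K.isConj_list clA_conj idx_lt.2.1 haA).symm).trans hconj
  have hval : φ (mH (mH (mH iZ i) iZ) i) = φ v := by
    have hlz := idx_lt.2.2.1
    rw [K.mul _ (K.lt _ (K.lt _ hlz _ hi) _ hlz) _ hi, K.mul _ (K.lt _ hlz _ hi) _ hlz,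
      K.mul _ hlz _ hi, ei, ev]
    rw [← h3z, K.mul _ (K.lt _ (K.lt _ hlz _ h3) _ hlz) _ h3, K.mul _ (K.lt _ hlz _ h3) _ hlz,
      K.mul _ hlz _ h3]
    nth_rw 1 [← hgz]
    nth_rw 2 [← hgz]
    group
  have hlt : mH (mH (mH iZ i) iZ) i < 192 :=
    K.lt _ (K.lt _ (K.lt _ idx_lt.2.2.1 _ hi) _ idx_lt.2.2.1) _ hi
  have heq := K.inj _ hlt _ (tH_lt v hv) hval
  have hia : i ∈ iC :: clA := by
    rcases hc with rfl | h | h | h
    · exact List.mem_cons_self ..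
    · exact List.mem_cons_of_mem _ h
    all_goals exfalso
    · exact hB (hbase.trans ((isConj_iff.2 ⟨g, ei.symm⟩ : IsConj (φ 3) (φ i)).trans
        (K.isConj_list clB_conj idx_lt.2.2.2 h).symm))
    · exact K.not_conj_Z ((K.isConj_list clZ_conj idx_lt.2.2.1 h).trans
        ((isConj_iff.2 ⟨g, ei.symm⟩).symm.trans hbase.symm))
  rcases hv' with rfl | rfl
  · exact (hcm i hia).1 heq
  · exact (hcm i hia).2 heq

end Hyp

end CfsgLib.M12Recog
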