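import Mathlib

/-!
Further lists: classes of involutions, spanning trees of subgroups, and words for generators of M12.
-/

set_option autoImplicit false
set_option linter.style.longLine false

namespace CfsgLib.M12Recog

/-- involutions conjugate in the centraliser to `iA` -/
def clA : List ℕ := [3, 9, 10, 121, 122, 131]

/-- involutions conjugate in the centraliser to `iB` -/
def clB : List ℕ := [5, 8, 11, 12, 18, 20, 24, 27, 52, 58, 84, 87, 100, 109, 120, 123, 124, 134, 136, 141, 149, 156, 174, 176]

/-- involutions conjugate in the centraliser to `iZ` -/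
def clZ : List ℕ := [25, 26, 61, 71, 85, 86, 107, 118, 154, 167, 183, 189]

/-- a maximal subgroup of the Sylow subgroup without conjugates of `iB` -/
def maxS : List ℕ := [0, 7, 9, 22, 26, 33, 39, 40, 48, 62, 65, 71, 75, 80, 86, 89, 102, 104, 111, 117, 121, 126, 128, 143, 151, 153, 158, 164, 169, 183, 184, 190]

/-- the involutions of the direct product conjugate to the four-group -/
def tclZ : List ℕ := [7, 16, 23, 25, 26, 29, 55, 60, 67, 82, 86, 94, 107, 111, 119]

/-- the other involutions of the direct product -/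
def zclZ : List ℕ := [1, 2, 5, 6, 14, 21, 24, 54, 80, 105, 120, 121, 122, 125, 126, 127, 134, 136, 141, 143, 144, 145, 146, 149, 174, 175, 180, 187, 200, 202, 206, 214, 225, 227, 231, 239]

/-- intersection of the two centralisers and that of the four-group -/
def tcvH : List ℕ := [0, 9, 107, 118, 121, 128, 154, 167]

/-- parents in the centraliser of the outer involution -/
def parT : List (ℕ × ℕ × ℕ) := [(75, 0, 0), (189, 0, 1), (121, 0, 2), (128, 75, 0), (154, 75, 1), (26, 75, 2), (118, 189, 0), (68, 189, 2), (86, 121, 0), (180, 121, 1), (39, 128, 0), (61, 128, 1), (9, 128, 2), (107, 154, 2), (167, 26, 1)]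

/-- parents in the centraliser of the four-group -/
def parC : List (ℕ × ℕ × ℕ) := [(118, 0, 0), (167, 0, 1), (128, 0, 2), (3, 0, 3), (5, 0, 4), (121, 118, 1), (154, 118, 2), (117, 118, 3), (111, 118, 4), (107, 167, 2), (164, 167, 3), (158, 167, 4), (131, 128, 3), (141, 128, 4), (153, 3, 0), (104, 3, 1), (22, 3, 4), (7, 5, 3), (9, 121, 2), (122, 121, 3), (124, 121, 4), (151, 154, 4), (10, 117, 1), (100, 117, 4), (109, 111, 3), (102, 107, 4), (149, 164, 4), (156, 158, 3), (126, 131, 4), (143, 141, 3), (20, 22, 3)]

/-- generators of M12 as words in the letters -/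
def twelveW : List (List ℕ) := [[0, 0, 4], [8, 4, 9], [2, 0, 2, 4], [0, 11, 3, 9, 0, 11], [1, 7, 10, 0, 0, 7], [8, 11, 6, 10, 1, 10], [3, 7, 4, 10, 7, 3], [2, 1, 2, 4], [0, 0, 2, 4], [2, 2], [0, 2, 0, 4], [7, 4, 6], [4]]

end CfsgLib.M12Recog
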