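import Cfsg.Agent.Lib.M12Recog.Model
import Cfsg.Agent.Lib.M12Recog.Local
import Cfsg.Agent.Lib.M12Recog.Lists
import Cfsg.Agent.Lib.Transfer.Thompson

/-!
The classes of involutions of a simple group with this centraliser of an involution.
-/

set_option autoImplicit false
set_option linter.style.haveILetI false
set_option linter.unusedSectionVars false

namespace CfsgLib.M12Recog

theorem idx_lt : iC < 192 ∧ iA < 192 ∧ iZ < 192 ∧ iB < 192 := by decide

/-- conjugates of an index under the centraliser -/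
def conjTo (l : List ℕ) (r : ℕ) : Prop := ∀ i ∈ l, i < 192 ∧ ∃ g < 192, mH g r = mH i g

theorem clA_conj : conjTo clA iA := by
  have h : (clA.all fun i => Nat.blt i 192 && (List.range 192).any fun g => mH g iA == mH i g) = true := by
    decide +kernel
  simp only [List.all_eq_true, List.any_eq_true, Bool.and_eq_true, Nat.blt_eq, List.mem_range,
    beq_iff_eq] at h
  exact h

theorem clB_conj : conjTo clB iB := by
  have h : (clB.all fun i => Nat.blt i 192 && (List.range 192).any fun g => mH g iB == mH i g) = true := by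
    decide +kernel
  simp only [List.all_eq_true, List.any_eq_true, Bool.and_eq_true, Nat.blt_eq, List.mem_range,
    beq_iff_eq] at h
  exact h

theorem clZ_conj : conjTo clZ iZ := by
  have h : (clZ.all fun i => Nat.blt i 192 && (List.range 192).any fun g => mH g iZ == mH i g) = true := by
    decide +kernel
  simp only [List.all_eq_true, List.any_eq_true, Bool.and_eq_true, Nat.blt_eq, List.mem_range,
    beq_iff_eq] at h
  exact h

theorem invol_cases : ∀ i < 192, mH i i = 0 → i = 0 ∨ i = iC ∨ i ∈ clA ∨ i ∈ clB ∨ i ∈ clZ := by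
  have h : ((List.range 192).all fun i => mH i i != 0 || i == 0 || i == iC || clA.contains i ||
      clB.contains i || clZ.contains i) = true := by decide +kernel
  simp only [List.all_eq_true, List.mem_range, Bool.or_eq_true, bne_iff_ne, beq_iff_eq,
    List.contains_iff_mem] at h
  intro i hi h2
  rcases h i hi with ((((h | h) | h) | h) | h) | h
  exacts [absurd h2 h, .inl h, .inr (.inl h), .inr (.inr (.inl h)), .inr (.inr (.inr (.inl h))),
    .inr (.inr (.inr (.inr h)))]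

/-- number of elements commuting with an index -/
noncomputable def nCent (i : ℕ) : ℕ := ((List.range 192).filter fun x => mH x i == mH i x).length

theorem nCent_vals : nCent iC = 192 ∧ nCent iA = 32 ∧ nCent iB = 8 ∧ nCent iZ = 16 ∧
    (clA.all fun i => nCent i == 32) = true ∧ (clB.all fun i => nCent i == 8) = true ∧
    (clZ.all fun i => nCent i == 16) = true := by
  unfold nCent
  decide +kernel

/-- what is assumed: the table of the centraliser of the element of index `iC` -/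
def Hyp {G : Type*} [Group G] (φ : ℕ → G) : Prop :=
  Rep 192 mH (Subgroup.centralizer ({φ iC} : Set G)) φ

namespace Hyp

variable {G : Type*} [Group G] {φ : ℕ → G} (K : Hyp φ)
include K

theorem comm_t {i : ℕ} (hi : i < 192) : φ i * φ iC = φ iC * φ i :=
  Subgroup.mem_centralizer_singleton_iff.1 (K.mem i hi)

theorem idx_of {x : G} (hx : x * φ iC = φ iC * x) : ∃ i < 192, φ i = x :=
  K.surj x (Subgroup.mem_centralizer_singleton_iff.2 hx)

theorem sq_iff {i j : ℕ} (hi : i < 192) (hj : j < 192) : φ i * φ i = φ j ↔ mH i i = j := by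
  rw [← K.mul i hi i hi, K.eq_iff (K.lt i hi i hi) hj]

theorem orderOf_eq_two {i : ℕ} (hi : i < 192) (h : mH i i = 0) (h0 : i ≠ 0) : orderOf (φ i) = 2 :=
  orderOf_eq_prime (by rw [pow_two, ← K.mul i hi i hi, h, K.one]) fun e => h0 ((K.eq_one_iff hi).1 e)

theorem orderOf_t : orderOf (φ iC) = 2 :=
  K.orderOf_eq_two idx_lt.1 (by decide +kernel) (by decide)

theorem invol_idx {x : G} (hx : orderOf x = 2) (hc : x * φ iC = φ iC * x) :
    ∃ i < 192, φ i = x ∧ (i = iC ∨ i ∈ clA ∨ i ∈ clB ∨ i ∈ clZ) := by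
  obtain ⟨i, hi, rfl⟩ := K.idx_of hc
  refine ⟨i, hi, rfl, ?_⟩
  have h : mH i i = 0 := (K.sq_iff hi K.pos).1 (by rw [mul_self_of hx, K.one])
  refine (invol_cases i hi h).resolve_left fun h0 => ?_
  rw [h0, K.one, orderOf_one] at hx
  omega

theorem conj_of_list {l : List ℕ} {r : ℕ} (h : conjTo l r) (hr : r < 192) {i : ℕ} (hi : i ∈ l) :
    ∃ g : G, g * φ iC = φ iC * g ∧ g * φ r * g⁻¹ = φ i := by
  obtain ⟨hi', g, hg, e⟩ := h i hi
  exact ⟨φ g, K.comm_t hg, by
    rw [mul_inv_eq_iff_eq_mul, ← K.mul g hg r hr, ← K.mul i hi' g hg, e]⟩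

theorem isConj_list {l : List ℕ} {r : ℕ} (h : conjTo l r) (hr : r < 192) {i : ℕ} (hi : i ∈ l) :
    IsConj (φ r) (φ i) := by
  obtain ⟨g, -, e⟩ := K.conj_of_list h hr hi
  exact isConj_iff.2 ⟨g, e⟩

theorem card_nCent {i : ℕ} (hi : i < 192) :
    Nat.card {x : G // x ∈ Subgroup.centralizer ({φ iC} : Set G) ∧ x * φ i = φ i * x} = nCent i :=
  K.card_pred _ _ fun j hj => by rw [K.comm_iff hj hi, beq_iff_eq]

/-- The image of `iC` under an element sending `φ r` to `φ iC` has the centraliser number of `r`. -/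
theorem nCent_conj {r : ℕ} (hr : r < 192) {g : G} (hg : g * φ r * g⁻¹ = φ iC) :
    ∃ i < 192, φ i = g * φ iC * g⁻¹ ∧ (i = iC ∨ i ∈ clA ∨ i ∈ clB ∨ i ∈ clZ) ∧ nCent i = nCent r := by
  have hc : g * φ iC * g⁻¹ * φ iC = φ iC * (g * φ iC * g⁻¹) := by
    conv_lhs => arg 2; rw [← hg]
    conv_rhs => arg 1; rw [← hg]
    exact conj_comm (K.comm_t hr).symm
  have ho : orderOf (g * φ iC * g⁻¹) = 2 := by
    rw [← MulAut.conj_apply, MulEquiv.orderOf_eq, K.orderOf_t]
  obtain ⟨i, hi, e, hcase⟩ := K.invol_idx ho hc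
  refine ⟨i, hi, e, hcase, ?_⟩
  have h := card_cent_pair g (φ iC) (φ r)
  rw [hg, cent_pair_swap (g * φ iC * g⁻¹), ← e, K.card_nCent hi, K.card_nCent hr] at h
  exact h.symm

theorem sylow [Finite G] : ∃ S : Sylow 2 G, (S : Subgroup G) = K.sub sylH := by
  haveI := Fact.mk Nat.prime_two
  obtain ⟨hs, hnd, hlen, -, hctr, hC⟩ := sylH_ok
  rw [List.contains_iff_mem] at hC
  have hcard : Nat.card (K.sub sylH) = 2 ^ 6 := by rw [K.card_sub hs hnd, hlen]; rfl
  refine exists_sylow_eq (IsPGroup.of_card hcard) (φ iC) (fun g hg => ?_) fun Q hPQ hQc hQ => ?_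
  · have htP : φ iC ∈ K.sub sylH := (K.mem_sub hs).2 ⟨iC, hC, rfl⟩
    obtain ⟨i, hi, e⟩ := (K.mem_sub hs).1 (hg _ htP)
    suffices φ i = φ iC by
      rw [e] at this
      exact mul_inv_eq_iff_eq_mul.1 this
    have hsp : ∀ j ∈ sylH, ∃ k ∈ sylH, g * φ k * g⁻¹ = φ j := by
      intro j hj
      let F : K.sub sylH → K.sub sylH := fun x => ⟨g * x * g⁻¹, hg x x.2⟩
      haveI : Finite (K.sub sylH) := inferInstance
      have hF : Function.Surjective F := Finite.surjective_of_injective fun a b h => by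
        have := Subtype.ext_iff.1 h
        exact Subtype.ext (mul_left_cancel (mul_right_cancel this))
      obtain ⟨x, hx⟩ := hF ⟨φ j, (K.mem_sub hs).2 ⟨j, hj, rfl⟩⟩
      obtain ⟨k, hk, ek⟩ := (K.mem_sub hs).1 x.2
      exact ⟨k, hk, by rw [ek]; exact Subtype.ext_iff.1 hx⟩
    simp only [subOK, Bool.and_eq_true, List.all_eq_true, Nat.blt_eq] at hs
    simp only [List.all_eq_true, Bool.or_eq_true, beq_iff_eq, List.any_eq_true, bne_iff_ne] at hctr
    have hil := (hs.2 i hi).1.1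
    rcases hctr i hi with (rfl | rfl) | ⟨j, hj, hne⟩
    · rw [K.one, eq_comm, conj_eq_one_iff] at e
      have := K.orderOf_t
      rw [e, orderOf_one] at this
      omega
    · rfl
    · refine absurd ((K.comm_iff hil (hs.2 j hj).1.1).1 ?_) hne
      obtain ⟨k, hk, ek⟩ := hsp j hj
      rw [e, ← ek]
      exact conj_comm (K.comm_t (hs.2 k hk).1.1).symm
  · have hle : Q ≤ Subgroup.centralizer ({φ iC} : Set G) := fun x hx =>
      Subgroup.mem_centralizer_singleton_iff.2 (hQc x hx)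
    obtain ⟨k, hk⟩ := IsPGroup.iff_card.1 hQ
    have hdvd := Subgroup.card_dvd_of_le hle
    rw [K.card_eq, hk] at hdvd
    have h2 : 2 ^ k ∣ 2 ^ 6 := by
      refine Nat.Coprime.dvd_of_dvd_mul_right (k := 2 ^ k) (m := 2 ^ 6) (n := 3)
        (Nat.Coprime.pow_left k (by norm_num)) ?_
      exact (show (192 : ℕ) = 2 ^ 6 * 3 by norm_num) ▸ hdvd
    refine ((Subgroup.eq_of_le_of_card_ge hPQ ?_).ge)
    rw [hcard, hk]
    exact Nat.le_of_dvd (by norm_num) h2

theorem not_conj_Z : ¬ IsConj (φ iZ) (φ iC) := by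
  intro h
  obtain ⟨g, hg⟩ := isConj_iff.1 h
  obtain ⟨i, hi, e, hcase, hn⟩ := K.nCent_conj idx_lt.2.2.1 hg
  obtain ⟨n0, n1, n2, n3, nA, nB, nZ⟩ := nCent_vals
  simp only [List.all_eq_true, beq_iff_eq] at nA nB nZ
  rw [n3] at hn
  rcases hcase with rfl | h | h | h
  · omega
  · have := nA i h; omega
  · have := nB i h; omega
  have hsq : ∃ k < 192, mH k k = iC ∧ mH k iZ = mH iZ k := by
    have h : ((List.range 192).any fun k => mH k k == iC && mH k iZ == mH iZ k) = true := by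
      decide +kernel
    simpa using h
  obtain ⟨k, hk, hk2, hkz⟩ := hsq
  have hns : ∀ j ∈ clZ, ∀ m < 192, mH m j = mH j m → mH m m ≠ j := by
    have h : (clZ.all fun j => (List.range 192).all fun m => mH m j != mH j m || mH m m != j) = true := by
      decide +kernel
    simp only [List.all_eq_true, List.mem_range, Bool.or_eq_true, bne_iff_ne] at h
    exact fun j hj m hm hc => (h j hj m hm).resolve_left fun h' => h' hc
  have hy : g * φ k * g⁻¹ * φ iC = φ iC * (g * φ k * g⁻¹) := by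
    rw [← hg]
    exact conj_comm ((K.comm_iff hk idx_lt.2.2.1).2 hkz)
  obtain ⟨m, hm, em⟩ := K.idx_of hy
  refine hns i h m hm ((K.comm_iff hm hi).1 ?_) ((K.sq_iff hm hi).1 ?_)
  · rw [em, e]; exact conj_comm (K.comm_t hk)
  · rw [em, e, conj_sq, ← K.mul k hk k hk, hk2]

theorem conj_A_of_conj_B (hB : IsConj (φ iC) (φ iB)) : IsConj (φ iC) (φ iA) := by
  by_contra hA
  obtain ⟨g₀, hg₀⟩ := isConj_iff.1 hB.symm
  obtain ⟨i, hi, e, hcase, hn⟩ := K.nCent_conj idx_lt.2.2.2 hg₀
  obtain ⟨n0, n1, n2, n3, nA, nB, nZ⟩ := nCent_vals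
  simp only [List.all_eq_true, beq_iff_eq] at nA nB nZ
  rw [n2] at hn
  have hiB : i ∈ clB := by
    rcases hcase with rfl | h | h | h
    · omega
    · have := nA i h; omega
    · exact h
    · have := nZ i h; omega
  obtain ⟨c, hc, hce⟩ := K.conj_of_list clB_conj idx_lt.2.2.2 hiB
  obtain ⟨g, hg⟩ : ∃ g, g = c⁻¹ * g₀ := ⟨_, rfl⟩
  have g1 : g * φ iB * g⁻¹ = φ iC := by
    rw [hg, show c⁻¹ * g₀ * φ iB * (c⁻¹ * g₀)⁻¹ = c⁻¹ * (g₀ * φ iB * g₀⁻¹) * c by group, hg₀]
    calc c⁻¹ * φ iC * c = c⁻¹ * (φ iC * c) := by group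
      _ = φ iC := by rw [← hc]; group
  have g2 : g * φ iC * g⁻¹ = φ iB := by
    rw [hg, show c⁻¹ * g₀ * φ iC * (c⁻¹ * g₀)⁻¹ = c⁻¹ * (g₀ * φ iC * g₀⁻¹) * c by group, ← e, ← hce]
    group
  have hchk : ∀ k < 192, mH k iB = mH iB k → mH k k = 0 →
      k = 0 ∨ k = iB ∨ k = iC ∨ k ∈ clB ∨ (k ∈ clA ∧ mH k iB ∈ clB) := by
    have h : ((List.range 192).all fun k => mH k iB != mH iB k || mH k k != 0 || k == 0 || k == iB ||
      k == iC || clB.contains k || (clA.contains k && clB.contains (mH k iB))) = true := by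
      decide +kernel
    simp only [List.all_eq_true, List.mem_range, Bool.or_eq_true, Bool.and_eq_true, bne_iff_ne,
      beq_iff_eq, List.contains_iff_mem] at h
    intro k hk h1 h2
    rcases h k hk with (((((h | h) | h) | h) | h) | h) | h
    exacts [absurd h1 h, absurd h2 h, .inl h, .inr (.inl h), .inr (.inr (.inl h)),
      .inr (.inr (.inr (.inl h))), .inr (.inr (.inr (.inr h)))]
  have hA' : ∀ a ∈ clA, ¬ IsConj (φ iC) (φ a) := fun a ha h =>
    hA (h.trans (K.isConj_list clA_conj idx_lt.2.1 ha).symm)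
  have himg : ∀ a ∈ clA, a < 192 → mH a iB = mH iB a → mH a a = 0 →
      ∃ k < 192, φ k = g * φ a * g⁻¹ ∧ k ∈ clA ∧ mH k iB ∈ clB := by
    intro a haA ha hab ha2
    have hcA : g * φ a * g⁻¹ * φ iC = φ iC * (g * φ a * g⁻¹) := by
      rw [← g1]; exact conj_comm ((K.comm_iff ha idx_lt.2.2.2).2 hab)
    obtain ⟨k, hk, ek⟩ := K.idx_of hcA
    refine ⟨k, hk, ek, ?_⟩
    have k1 : mH k iB = mH iB k := (K.comm_iff hk idx_lt.2.2.2).1 (by
      rw [ek, ← g2]; exact conj_comm (K.comm_t ha))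
    have k2 : mH k k = 0 := (K.sq_iff hk K.pos).1 (by
      rw [ek, conj_sq, ← K.mul a ha a ha, ha2, K.one]; group)
    have hne : ∀ b, g * φ b * g⁻¹ = φ k → φ b = φ a := fun b hb => by
      rw [ek] at hb; exact mul_left_cancel (mul_right_cancel hb)
    have a0 : a ≠ 0 ∧ a ≠ iC ∧ a ≠ iB ∧ a ∉ clB := by
      have h : (clA.all fun a => a != 0 && a != iC && a != iB && !clB.contains a) = true := by
        decide +kernel
      simp only [List.all_eq_true, Bool.and_eq_true, bne_iff_ne, Bool.not_eq_true',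
        ← Bool.not_eq_true, List.contains_iff_mem] at h
      obtain ⟨⟨⟨h1, h2⟩, h3⟩, h4⟩ := h a haA
      exact ⟨h1, h2, h3, h4⟩
    rcases hchk k hk k1 k2 with rfl | rfl | rfl | h | h
    · have := hne 0 (by rw [K.one]; group)
      exact absurd ((K.eq_iff K.pos ha).1 this).symm a0.1
    · exact absurd ((K.eq_iff idx_lt.1 ha).1 (hne iC g2)).symm a0.2.1
    · exact absurd ((K.eq_iff idx_lt.2.2.2 ha).1 (hne iB g1)).symm a0.2.2.1
    · refine absurd ?_ (hA' a haA)
      exact hB.trans ((K.isConj_list clB_conj idx_lt.2.2.2 h).trans (isConj_iff.2 ⟨g⁻¹, by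
        rw [ek]; group⟩))
    · exact h
  have hfix : iA ∈ clA ∧ mH iA iC ∈ clA ∧ mH iA iB = mH iB iA ∧ mH iA iA = 0 ∧
      mH (mH iA iC) iB = mH iB (mH iA iC) ∧ mH (mH iA iC) (mH iA iC) = 0 := by decide +kernel
  obtain ⟨f1, f2, f3, f4, f5, f6⟩ := hfix
  obtain ⟨k, hk, ek, -, hkB⟩ := himg iA f1 idx_lt.2.1 f3 f4
  obtain ⟨k', hk', ek', hk'A, -⟩ := himg _ f2 (K.lt _ idx_lt.2.1 _ idx_lt.1) f5 f6
  have : k' = mH k iB := by
    refine K.inj k' hk' _ (K.lt _ hk _ idx_lt.2.2.2) ?_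
    rw [ek', K.mul _ hk _ idx_lt.2.2.2, ek, ← g2, K.mul _ idx_lt.2.1 _ idx_lt.1]
    group
  have hdisj : (clA.all fun a => !clB.contains a) = true := by decide +kernel
  simp only [List.all_eq_true, Bool.not_eq_true', ← Bool.not_eq_true, List.contains_iff_mem] at hdisj
  exact hdisj k' hk'A (this ▸ hkB)

theorem conj_A [Finite G] [IsSimpleGroup G] (hna : ¬ IsMulCommutative G) :
    IsConj (φ iC) (φ iA) := by
  obtain ⟨S, hS⟩ := K.sylow
  obtain ⟨hs, -, -, -, -, hC⟩ := sylH_ok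
  rw [List.contains_iff_mem] at hC
  have htS : φ iC ∈ S := by
    show φ iC ∈ (S : Subgroup G)
    rw [hS]; exact (K.mem_sub hs).2 ⟨iC, hC, rfl⟩
  obtain ⟨g, hg, hne⟩ := not_isolated hna S K.orderOf_t htS
  have hc : g * φ iC * g⁻¹ * φ iC = φ iC * (g * φ iC * g⁻¹) := by
    have : g * φ iC * g⁻¹ ∈ Subgroup.centralizer ({φ iC} : Set G) := K.sub_le hs (hS ▸ hg)
    exact Subgroup.mem_centralizer_singleton_iff.1 this
  have ho : orderOf (g * φ iC * g⁻¹) = 2 := by rw [← MulAut.conj_apply, MulEquiv.orderOf_eq, K.orderOf_t]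
  obtain ⟨i, hi, e, h⟩ := K.invol_idx ho hc
  have hconj : IsConj (φ iC) (φ i) := isConj_iff.2 ⟨g, e.symm⟩
  rcases h with rfl | h | h | h
  · exact absurd e.symm hne
  · exact hconj.trans (K.isConj_list clA_conj idx_lt.2.1 h).symm
  · exact K.conj_A_of_conj_B (hconj.trans (K.isConj_list clB_conj idx_lt.2.2.2 h).symm)
  · exact absurd (hconj.trans (K.isConj_list clZ_conj idx_lt.2.2.1 h).symm).symm K.not_conj_Z

theorem conj_B [Finite G] [IsSimpleGroup G] (hna : ¬ IsMulCommutative G) :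
    IsConj (φ iC) (φ iB) ∨ IsConj (φ iZ) (φ iB) := by
  obtain ⟨S, hS⟩ := K.sylow
  obtain ⟨hs, hnd, hlen, -, -, -⟩ := sylH_ok
  have hM : subOK 192 mH maxS = true ∧ maxS.Nodup ∧ maxS.length = 32 ∧
      maxS.all (fun i => sylH.contains i && !clB.contains i) = true ∧ iB ∈ sylH ∧ iB ∉ maxS := by
    decide +kernel
  obtain ⟨hm, hmd, hml, hmsub, hBs, hBm⟩ := hM
  simp only [List.all_eq_true, Bool.and_eq_true, Bool.not_eq_true', ← Bool.not_eq_true,
    List.contains_iff_mem] at hmsub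
  have hle : K.sub maxS ≤ (S : Subgroup G) := by
    rw [hS]
    intro x hx
    obtain ⟨i, hi, rfl⟩ := (K.mem_sub hm).1 hx
    exact (K.mem_sub hs).2 ⟨i, (hmsub i hi).1, rfl⟩
  have hrel : (K.sub maxS).relIndex (S : Subgroup G) = 2 := by
    have h := Subgroup.card_mul_index ((K.sub maxS).subgroupOf (S : Subgroup G))
    rw [Nat.card_congr (Subgroup.subgroupOfEquivOfLe hle).toEquiv, K.card_sub hm hmd, hml, hS,
      K.card_sub hs hnd, hlen] at h
    rw [Subgroup.relIndex, hS]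
    omega
  have hu : φ iB * φ iB = 1 := by
    rw [← K.mul _ idx_lt.2.2.2 _ idx_lt.2.2.2, show mH iB iB = 0 by decide +kernel, K.one]
  rcases Transfer.thompson_transfer S hrel hu (hS ▸ (K.mem_sub hs).2 ⟨iB, hBs, rfl⟩)
    (fun h => hBm (by
      obtain ⟨i, hi, e⟩ := (K.mem_sub hm).1 h
      rwa [K.inj i (by
        simp only [subOK, Bool.and_eq_true, List.all_eq_true, Nat.blt_eq] at hm
        exact (hm.2 i hi).1.1) iB idx_lt.2.2.2 e] at hi)) with ⟨M, hMn, h2, -⟩ | ⟨g, -, hg⟩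
  · exact (no_index_two hna M hMn h2).elim
  obtain ⟨i, hi, e⟩ := (K.mem_sub hm).1 hg
  have hil : i < 192 := by
    simp only [subOK, Bool.and_eq_true, List.all_eq_true, Nat.blt_eq] at hm
    exact (hm.2 i hi).1.1
  have hconj : IsConj (φ i) (φ iB) := (isConj_iff.2 ⟨g, e.symm⟩).symm
  have h2 : mH i i = 0 := (K.sq_iff hil K.pos).1 (by rw [e, conj_sq, hu, K.one]; group)
  rcases invol_cases i hil h2 with rfl | rfl | h | h | h
  · rw [K.one, isConj_one_right] at hconj
    exact absurd ((K.eq_one_iff idx_lt.2.2.2).1 hconj) (by decide)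
  · exact .inl hconj
  · exact .inl ((K.conj_A hna).trans ((K.isConj_list clA_conj idx_lt.2.1 h).trans hconj))
  · exact absurd h (hmsub i hi).2
  · exact .inr ((K.isConj_list clZ_conj idx_lt.2.2.1 h).trans hconj)

end Hyp

end CfsgLib.M12Recog
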