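import Cfsg.Agent.Lib.M12Recog.Glue
import Cfsg.Agent.Lib.M12Recog.CheckA
import Cfsg.Agent.Lib.M12Recog.CheckB

/-!
A pair of glued tables satisfies the relators of the certificates.
-/

set_option autoImplicit false
set_option linter.unusedSectionVars false

namespace CfsgLib.M12Recog

open CfsgLib.CosetEnum

/-- two tables glued along the common subgroup, with the action of the element of order three -/
structure Conf {X : Type*} [Group X] (φ ψ : ℕ → X) : Prop where
  one : φ 0 = 1
  mul : ∀ i < 192, ∀ j < 192, φ (mH i j) = φ i * φ j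
  zone : ψ 0 = 1
  zmul : ∀ i < 240, ∀ j < 240, ψ (mZ i j) = ψ i * ψ j
  agree : ∀ p ∈ tPairs, φ p.1 = ψ p.2
  conj : ∀ p ∈ phiR, ψ iR * φ p.1 * (ψ iR)⁻¹ = φ p.2

/-- index of a letter in the centraliser -/
def hL (g : ℕ) : ℕ :=
  if g % 2 = 0 then letH.getD (g / 2) 0 else invH.getD (letH.getD (g / 2) 0) 0

/-- index of a letter in the direct product -/
def zL (g : ℕ) : ℕ :=
  if g % 2 = 0 then letZ.getD (g / 2 - 4) 0 else invZ.getD (letZ.getD (g / 2 - 4) 0) 0

/-- the element of a letter -/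
def letGen {X : Type*} [Group X] (φ ψ : ℕ → X) (g : ℕ) : X :=
  if g < 8 then φ (hL g) else if g < 12 then ψ (zL g) else 1

theorem letter_ok : ((List.range 8).all fun g => Nat.blt (hL g) 192) = true ∧
    ((List.range 4).all fun g => Nat.blt (zL (g + 8)) 240) = true := by decide +kernel

theorem hL_lt {g : ℕ} (h : g < 8) : hL g < 192 := by
  have := letter_ok.1
  simp only [List.all_eq_true, List.mem_range, Nat.blt_eq] at this
  exact this g h

theorem zL_lt {g : ℕ} (h : 8 ≤ g) (h' : g < 12) : zL g < 240 := by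
  have := letter_ok.2
  simp only [List.all_eq_true, List.mem_range, Nat.blt_eq] at this
  simpa [Nat.sub_add_cancel h] using this (g - 8) (by omega)

/-- translate a word into the direct product -/
noncomputable def toZ : List ℕ → ℕ → ℕ → Option ℕ
  | [], a, z => if tH.contains a then some (mZ z (tOf a)) else none
  | g :: l, a, z =>
    if Nat.blt g 8 then toZ l (mH a (hL g)) z
    else if Nat.blt g 12 && tH.contains a then toZ l 0 (mZ (mZ z (tOf a)) (zL g)) else none

/-- a relator of one of the first three shapes -/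
noncomputable def relOK (w : List ℕ) : Bool :=
  ((w.all fun g => Nat.blt g 8) && prd mH (w.map hL) == 0) || toZ w 0 0 == some 0 ||
    (w.head? == some 8 &&
      let mid := w.tail.takeWhile fun g => Nat.blt g 8
      let rest := (w.tail.dropWhile fun g => Nat.blt g 8).tail
      (w.tail.dropWhile fun g => Nat.blt g 8).head? == some 9 && (rest.all fun g => Nat.blt g 8) &&
        phiR.any fun p => p.1 == prd mH (mid.map hL) && mH p.2 (prd mH (rest.map hL)) == 0)

theorem rels_ok : (certA.rels.dropLast.all relOK) = true ∧ (certB.rels.dropLast.all relOK) = true ∧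
    certA.rels.getLast? = some [6, 4, 10, 8, 5, 7, 9, 11] ∧
    certB.rels.getLast? = some [6, 4, 9, 11, 5, 7, 9, 11] := by
  decide +kernel

theorem last_ok : prd mH [hL 6, hL 4] = iK ∧ prd mH [hL 5, hL 7] = invH.getD iK 0 ∧
    prd mZ [zL 10, zL 8] = iB3 ∧ prd mZ [zL 9, zL 11] = invZ.getD iB3 0 ∧
    prd mZ [zL 9, zL 11] = invZ.getD iA3 0 := by
  decide +kernel

namespace Conf

variable {X : Type*} [Group X] {φ ψ : ℕ → X} (C : Conf φ ψ)
include C

theorem prdH_lt {l : List ℕ} (h : ∀ i ∈ l, i < 192) : prd mH l < 192 := by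
  induction l with
  | nil => exact Nat.succ_pos _
  | cons i l ih =>
    rw [List.forall_mem_cons] at h
    exact tabH.lt i h.1 _ (ih h.2)

theorem prdH {l : List ℕ} (h : ∀ i ∈ l, i < 192) : φ (prd mH l) = (l.map φ).prod := by
  induction l with
  | nil => exact C.one
  | cons i l ih =>
    rw [List.forall_mem_cons] at h
    rw [prd, C.mul i h.1 _ (C.prdH_lt h.2), List.map_cons, List.prod_cons, ih h.2]

theorem prodW_H {w : List ℕ} (h : ∀ g ∈ w, g < 8) :
    prodW (letGen φ ψ) w = φ (prd mH (w.map hL)) := by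
  rw [C.prdH (by
    intro i hi
    obtain ⟨g, hg, rfl⟩ := List.mem_map.1 hi
    exact hL_lt (h g hg)), prodW, List.map_map]
  congr 1
  refine List.map_congr_left fun g hg => ?_
  simp [letGen, h g hg]

theorem agree' {a : ℕ} (ha : a ∈ tH) : φ a = ψ (tOf a) := C.agree _ (pair_mem a ha).1

theorem toZ_spec : ∀ (w : List ℕ) (a z r : ℕ), a < 192 → z < 240 → toZ w a z = some r →
    r < 240 ∧ ψ z * φ a * prodW (letGen φ ψ) w = ψ r := by
  intro w
  induction w with
  | nil =>
    intro a z r ha hz h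
    simp only [toZ] at h
    split_ifs at h with hc
    rw [List.contains_iff_mem] at hc
    cases h
    obtain ⟨-, hl⟩ := pair_mem a hc
    exact ⟨tabZ.lt z hz _ hl, by rw [prodW_nil, mul_one, C.agree' hc, C.zmul z hz _ hl]⟩
  | cons g l ih =>
    intro a z r ha hz h
    simp only [toZ] at h
    split_ifs at h with h8 h12
    · rw [Nat.blt_eq] at h8
      obtain ⟨h1, h2⟩ := ih _ z r (tabH.lt a ha _ (hL_lt h8)) hz h
      refine ⟨h1, ?_⟩
      rw [← h2, C.mul a ha _ (hL_lt h8), prodW_cons, show letGen φ ψ g = φ (hL g) by simp [letGen, h8]]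
      group
    · simp only [Bool.and_eq_true, Nat.blt_eq, List.contains_iff_mem] at h12
      rw [Nat.blt_eq, not_lt] at h8
      obtain ⟨-, hl⟩ := pair_mem a h12.2
      have hzl := zL_lt h8 h12.1
      have hm := tabZ.lt z hz _ hl
      obtain ⟨h1, h2⟩ := ih 0 _ r (by norm_num) (tabZ.lt _ hm _ hzl) h
      refine ⟨h1, ?_⟩
      rw [← h2, C.one, mul_one, C.zmul _ hm _ hzl, C.zmul z hz _ hl, ← C.agree' h12.2, prodW_cons,
        show letGen φ ψ g = ψ (zL g) by simp [letGen, Nat.not_lt.2 h8, h12.1]]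
      group

theorem rel_eq_one {w : List ℕ} (h : relOK w = true) : prodW (letGen φ ψ) w = 1 := by
  simp only [relOK, Bool.or_eq_true, Bool.and_eq_true, List.all_eq_true, Nat.blt_eq, beq_iff_eq,
    List.any_eq_true] at h
  rcases h with (⟨h1, h2⟩ | h) | ⟨h1, ⟨h2, h3⟩, p, hp, h4, h5⟩
  · rw [C.prodW_H h1, h2, C.one]
  · obtain ⟨-, e⟩ := C.toZ_spec w 0 0 0 (by norm_num) (by norm_num) h
    rwa [C.zone, C.one, one_mul, one_mul] at e
  · obtain ⟨t, rfl⟩ : ∃ t, w = 8 :: t := by
      cases w with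
      | nil => simp at h1
      | cons x t => simp only [List.head?_cons, Option.some.injEq] at h1; exact ⟨t, by rw [h1]⟩
    simp only [List.tail_cons] at h2 h3 h4 h5
    obtain ⟨rest, hd⟩ : ∃ rest, t.dropWhile (fun g => Nat.blt g 8) = 9 :: rest := by
      cases hh : t.dropWhile (fun g => Nat.blt g 8) with
      | nil => simp [hh] at h2
      | cons x r => rw [hh, List.head?_cons, Option.some.injEq] at h2; exact ⟨r, by rw [h2]⟩
    rw [hd, List.tail_cons] at h3 h5
    set mid := t.takeWhile fun g => Nat.blt g 8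
    have hmid : ∀ g ∈ mid, g < 8 := fun g hg => Nat.blt_eq.mp (List.mem_takeWhile_imp (p := fun g => Nat.blt g 8) hg)
    have ht : t = mid ++ 9 :: rest := by rw [← hd, List.takeWhile_append_dropWhile]
    have hz8 : letGen φ ψ 8 = ψ iR := by
      simp [letGen, show zL 8 = iR by decide +kernel]
    have hz9 : letGen φ ψ 9 = (ψ iR)⁻¹ := by
      obtain ⟨r1, r2, -⟩ := invZ_spec (show iR < 240 by decide)
      rw [show letGen φ ψ 9 = ψ (invZ.getD iR 0) by simp [letGen, show zL 9 = invZ.getD iR 0 by decide +kernel]]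
      refine eq_inv_of_mul_eq_one_right ?_
      rw [← C.zmul _ (by decide) _ r1, r2, C.zone]
    rw [ht, prodW_cons, prodW_append, prodW_cons, hz8, hz9, C.prodW_H hmid, C.prodW_H h3, ← h4,
      show ψ iR * (φ p.1 * ((ψ iR)⁻¹ * φ (prd mH (rest.map hL)))) =
        ψ iR * φ p.1 * (ψ iR)⁻¹ * φ (prd mH (rest.map hL)) by group, C.conj p hp,
      ← C.mul _ ?_ _ ?_, h5, C.one]
    · have hlt : (phiR.all fun p => Nat.blt p.2 192) = true := by decide +kernel
      simp only [List.all_eq_true, Nat.blt_eq] at hlt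
      exact hlt p hp
    · refine C.prdH_lt fun i hi => ?_
      obtain ⟨g, hg, rfl⟩ := List.mem_map.1 hi
      exact hL_lt (h3 g hg)

theorem prdZ {a b : ℕ} (ha : 8 ≤ a ∧ a < 12) (hb : 8 ≤ b ∧ b < 12) :
    prodW (letGen φ ψ) [a, b] = ψ (prd mZ [zL a, zL b]) := by
  have h1 := zL_lt ha.1 ha.2
  have h2 := zL_lt hb.1 hb.2
  simp only [prd, tabZ.one_right _ h2]
  rw [C.zmul _ h1 _ h2]
  simp [letGen, Nat.not_lt.2 ha.1, Nat.not_lt.2 hb.1, ha.2, hb.2]

theorem last_eq (h : φ iK * ψ iB3 = ψ iA3 * φ iK) :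
    prodW (letGen φ ψ) [6, 4, 10, 8, 5, 7, 9, 11] = 1 := by
  obtain ⟨k1, k2, k3, -, k5⟩ := last_ok
  have hk : iK < 192 := by decide
  have ha : iA3 < 240 := by decide
  obtain ⟨i1, i2, -⟩ := invH_spec hk
  obtain ⟨j1, j2, -⟩ := invZ_spec ha
  have e1 : φ (invH.getD iK 0) = (φ iK)⁻¹ :=
    eq_inv_of_mul_eq_one_right (by rw [← C.mul _ hk _ i1, i2, C.one])
  have e2 : ψ (invZ.getD iA3 0) = (ψ iA3)⁻¹ :=
    eq_inv_of_mul_eq_one_right (by rw [← C.zmul _ ha _ j1, j2, C.zone])
  rw [show ([6, 4, 10, 8, 5, 7, 9, 11] : List ℕ) = [6, 4] ++ ([10, 8] ++ ([5, 7] ++ [9, 11])) from rfl,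
    prodW_append, prodW_append, prodW_append, C.prodW_H (w := [6, 4]) (by simp), C.prodW_H (w := [5, 7]) (by simp),
    C.prdZ (a := 10) (b := 8) (by norm_num) (by norm_num),
    C.prdZ (a := 9) (b := 11) (by norm_num) (by norm_num)]
  simp only [List.map_cons, List.map_nil]
  rw [k1, k2, k3, k5, e1, e2, ← mul_assoc, h]
  group

theorem last_eq' (h : φ iK * ψ (invZ.getD iB3 0) = ψ iA3 * φ iK) :
    prodW (letGen φ ψ) [6, 4, 9, 11, 5, 7, 9, 11] = 1 := by
  obtain ⟨k1, k2, -, k4, k5⟩ := last_ok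
  have hk : iK < 192 := by decide
  have ha : iA3 < 240 := by decide
  obtain ⟨i1, i2, -⟩ := invH_spec hk
  obtain ⟨j1, j2, -⟩ := invZ_spec ha
  have e1 : φ (invH.getD iK 0) = (φ iK)⁻¹ :=
    eq_inv_of_mul_eq_one_right (by rw [← C.mul _ hk _ i1, i2, C.one])
  have e2 : ψ (invZ.getD iA3 0) = (ψ iA3)⁻¹ :=
    eq_inv_of_mul_eq_one_right (by rw [← C.zmul _ ha _ j1, j2, C.zone])
  have hw : prodW (letGen φ ψ) [9, 11] = ψ (invZ.getD iB3 0) := by
    rw [C.prdZ (by norm_num) (by norm_num), k4]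
  have hw' : prodW (letGen φ ψ) [9, 11] = ψ (invZ.getD iA3 0) := by
    rw [C.prdZ (by norm_num) (by norm_num), k5]
  rw [show ([6, 4, 9, 11, 5, 7, 9, 11] : List ℕ) = [6, 4] ++ ([9, 11] ++ ([5, 7] ++ [9, 11])) from rfl,
    prodW_append, prodW_append, prodW_append, C.prodW_H (w := [6, 4]) (by simp),
    C.prodW_H (w := [5, 7]) (by simp)]
  simp only [List.map_cons, List.map_nil]
  rw [k1, k2, e1]
  conv_lhs => arg 2; arg 2; arg 2; rw [hw', e2]
  rw [hw, ← mul_assoc, h]
  group

theorem model {D : Cert} {H : Subgroup X} (hK : D.K = 12)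
    (hinv : D.invs = [1, 0, 3, 2, 5, 4, 7, 6, 9, 8, 11, 10]) (hsub : D.subs = [[0], [2], [4], [6]])
    (hrel : D.rels.dropLast.all relOK = true) {w : List ℕ} (hlast : D.rels.getLast? = some w)
    (hw : prodW (letGen φ ψ) w = 1) (hH : ∀ i < 192, φ i ∈ H) : Model D H (letGen φ ψ) := by
  refine ⟨by simp [hK, letGen], fun g => ?_, fun r hr => ?_, fun r hr => ?_⟩
  · simp only [Cert.inv, hinv]
    by_cases hg : g < 12
    · have h8 : ((List.range 8).all fun g => mH (hL g)
          (hL (([1, 0, 3, 2, 5, 4, 7, 6, 9, 8, 11, 10] : List ℕ).getD g g)) == 0) = true := by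
        decide +kernel
      have h12 : ((List.range 4).all fun g => mZ (zL (g + 8))
          (zL (([1, 0, 3, 2, 5, 4, 7, 6, 9, 8, 11, 10] : List ℕ).getD (g + 8) (g + 8))) == 0) = true := by
        decide +kernel
      simp only [List.all_eq_true, List.mem_range, beq_iff_eq] at h8 h12
      have hb : ((List.range 12).all fun g => let v := ([1, 0, 3, 2, 5, 4, 7, 6, 9, 8, 11, 10] : List ℕ).getD g g
          Nat.blt v 12 && (Nat.blt g 8 == Nat.blt v 8)) = true := by decide +kernel
      simp only [List.all_eq_true, List.mem_range, Bool.and_eq_true, Nat.blt_eq, beq_iff_eq] at hb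
      obtain ⟨hv, hv8⟩ := hb g hg
      set v := ([1, 0, 3, 2, 5, 4, 7, 6, 9, 8, 11, 10] : List ℕ).getD g g with hvdef
      by_cases g8 : g < 8
      · have v8 : v < 8 := Nat.blt_eq.mp (hv8 ▸ Nat.blt_eq.mpr g8)
        simp only [letGen, g8, v8, if_true]
        rw [← C.mul _ (hL_lt g8) _ (hL_lt v8), h8 g g8, C.one]
      · have v8 : ¬ v < 8 := fun h => g8 (Nat.blt_eq.mp (hv8.symm ▸ Nat.blt_eq.mpr h))
        simp only [letGen, g8, v8, hg, hv, if_true, if_false]
        rw [← C.zmul _ (zL_lt (not_lt.1 g8) hg) _ (zL_lt (not_lt.1 v8) hv)]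
        have := h12 (g - 8) (by omega)
        rw [Nat.sub_add_cancel (not_lt.1 g8)] at this
        rw [this, C.zone]
    · rw [List.getD_eq_default _ _ (by simp; omega)]
      simp [letGen, show ¬ g < 8 by omega, hg]
  · have hne : D.rels ≠ [] := by intro e; simp [e] at hlast
    rw [← List.dropLast_append_getLast hne, List.mem_append, List.mem_singleton] at hr
    rcases hr with h | h
    · exact C.rel_eq_one (List.all_eq_true.1 hrel r h)
    · rw [List.getLast?_eq_some_getLast hne, Option.some.injEq] at hlast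
      rw [h, hlast, hw]
  · rw [hsub] at hr
    simp only [List.mem_cons, List.not_mem_nil, or_false] at hr
    rcases hr with rfl | rfl | rfl | rfl <;>
      simpa [prodW, letGen] using hH _ (hL_lt (by norm_num))

end Conf

end CfsgLib.M12Recog
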