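import Cfsg.Agent.Lib.M12Recog.Five

/-!
Extending maps given on generators along a spanning tree, and the checks used for the gluing.
-/

set_option autoImplicit false

namespace CfsgLib.M12Recog

/-- look up in an association list -/
def look (l : List (ℕ × ℕ)) (p : ℕ) : ℕ :=
  match l with
  | [] => 0
  | (a, b) :: l => if a == p then b else look l p

/-- extend images of generators along a tree -/
def extL (m' : ℕ → ℕ → ℕ) (im : List ℕ) : List (ℕ × ℕ × ℕ) → List (ℕ × ℕ) → List (ℕ × ℕ)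
  | [], acc => acc
  | (q, p, k) :: l, acc => extL m' im l ((q, m' (look acc p) (im.getD k 0)) :: acc)

/-- the tree is consistent -/
def treeOK (m : ℕ → ℕ → ℕ) (gens : List ℕ) : List (ℕ × ℕ × ℕ) → List ℕ → Bool
  | [], _ => true
  | (q, p, k) :: l, seen =>
    seen.contains p && Nat.blt k gens.length && (m p (gens.getD k 0) == q) &&
      treeOK m gens l (q :: seen)

theorem look_mem {l : List (ℕ × ℕ)} {p : ℕ} (h : p ∈ l.map Prod.fst) : (p, look l p) ∈ l := by
  induction l with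
  | nil => simp at h
  | cons x l ih =>
    obtain ⟨a, b⟩ := x
    simp only [look]
    split_ifs with hab
    · rw [beq_iff_eq] at hab
      rw [hab]
      exact List.mem_cons_self ..
    · rw [beq_iff_eq] at hab
      simp only [List.map_cons, List.mem_cons] at h
      exact List.mem_cons_of_mem _ (ih (h.resolve_left fun e => hab e.symm))

theorem extL_keys (m' : ℕ → ℕ → ℕ) (im : List ℕ) :
    ∀ (l : List (ℕ × ℕ × ℕ)) (acc : List (ℕ × ℕ)) (x : ℕ),
      x ∈ acc.map Prod.fst ∨ x ∈ l.map Prod.fst → x ∈ (extL m' im l acc).map Prod.fst := by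
  intro l
  induction l with
  | nil => intro acc x h; simpa [extL] using h
  | cons a l ih =>
    obtain ⟨q, p, k⟩ := a
    intro acc x h
    refine ih _ x ?_
    simp only [List.map_cons, List.mem_cons] at h ⊢
    tauto

theorem extL_spec {G : Type*} [Group G] {N N' : ℕ} {m m' : ℕ → ℕ → ℕ} {gens im : List ℕ}
    {F f' : ℕ → G} (hlt' : ∀ i < N', ∀ j < N', m' i j < N')
    (hF : ∀ p < N, ∀ g ∈ gens, F (m p g) = F p * F g)
    (hlt : ∀ p < N, ∀ g ∈ gens, m p g < N)
    (hf' : ∀ i < N', ∀ j < N', f' (m' i j) = f' i * f' j)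
    (him : ∀ k < gens.length, im.getD k 0 < N' ∧ f' (im.getD k 0) = F (gens.getD k 0)) :
    ∀ (l : List (ℕ × ℕ × ℕ)) (acc : List (ℕ × ℕ)), treeOK m gens l (acc.map Prod.fst) = true →
      (∀ a ∈ acc, a.1 < N ∧ a.2 < N' ∧ f' a.2 = F a.1) →
      ∀ a ∈ extL m' im l acc, a.1 < N ∧ a.2 < N' ∧ f' a.2 = F a.1 := by
  intro l
  induction l with
  | nil => intro acc _ h; simpa [extL] using h
  | cons a l ih =>
    obtain ⟨q, p, k⟩ := a
    intro acc ht hacc
    simp only [treeOK, Bool.and_eq_true, List.contains_iff_mem, Nat.blt_eq, beq_iff_eq] at ht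
    obtain ⟨⟨⟨hp, hk⟩, hq⟩, ht⟩ := ht
    refine ih _ (by simpa using ht) ?_
    obtain ⟨h1, h2, h3⟩ := hacc _ (look_mem hp)
    obtain ⟨i1, i2⟩ := him k hk
    have hg : gens.getD k 0 ∈ gens := by
      rw [List.getD_eq_getElem _ _ hk]; exact List.getElem_mem hk
    rw [List.forall_mem_cons]
    refine ⟨⟨hq ▸ hlt p h1 _ hg, hlt' _ h2 _ i1, ?_⟩, hacc⟩
    show f' (m' (look acc p) (im.getD k 0)) = F q
    rw [← hq, hF p h1 _ hg, hf' _ h2 _ i1, i2, h3]

/-- the extended map -/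
def extF (m' : ℕ → ℕ → ℕ) (im : List ℕ) (par : List (ℕ × ℕ × ℕ)) (x : ℕ) : ℕ :=
  look (extL m' im par [(0, 0)]) x

theorem extF_spec {G : Type*} [Group G] {N N' : ℕ} {m m' : ℕ → ℕ → ℕ} {gens im : List ℕ}
    {par : List (ℕ × ℕ × ℕ)} {F f' : ℕ → G} (hN : 0 < N) (hN' : 0 < N')
    (hlt' : ∀ i < N', ∀ j < N', m' i j < N') (hF0 : F 0 = 1) (hf0 : f' 0 = 1)
    (hF : ∀ p < N, ∀ g ∈ gens, F (m p g) = F p * F g)
    (hlt : ∀ p < N, ∀ g ∈ gens, m p g < N)
    (hf' : ∀ i < N', ∀ j < N', f' (m' i j) = f' i * f' j)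
    (him : ∀ k < gens.length, im.getD k 0 < N' ∧ f' (im.getD k 0) = F (gens.getD k 0))
    (htree : treeOK m gens par [0] = true) {x : ℕ} (hx : x ∈ 0 :: par.map Prod.fst) :
    extF m' im par x < N' ∧ f' (extF m' im par x) = F x := by
  have hk : x ∈ (extL m' im par [(0, 0)]).map Prod.fst :=
    extL_keys m' im par _ x (by simpa using hx)
  obtain ⟨-, h2, h3⟩ := extL_spec hlt' hF hlt hf' him par [(0, 0)] (by simpa using htree)
    (by intro a ha; rw [List.mem_singleton] at ha; subst ha; exact ⟨hN, hN', by rw [hf0, hF0]⟩)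
    _ (look_mem hk)
  exact ⟨h2, h3⟩

end CfsgLib.M12Recog
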