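import Cfsg.Agent.Lib.M12Recog.CentOrder

/-!
The centraliser of the second involution is the product of a group of order two and the symmetric group
of degree five.
-/

set_option autoImplicit false
set_option linter.style.haveILetI false
set_option linter.unusedSectionVars false

namespace CfsgLib.M12Recog

open scoped Classical

/-- digits of a permutation of five points -/
def fiveFun (p : ℕ) (k : Fin 5) : Fin 5 := Fin.ofNat 5 ((fiveP.getD p 0 >>> (3 * (k : ℕ))) % 8)

/-- the permutation of five points -/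
noncomputable def fivePerm (p : ℕ) : Equiv.Perm (Fin 5) :=
  if h : Function.Injective (fiveFun p) then Equiv.ofBijective _ (Finite.injective_iff_bijective.1 h)
  else 1

theorem five_inj : ∀ p < 120, Function.Injective (fiveFun p) := by
  have h : ((List.range 120).all fun p => (List.finRange 5).all fun i => (List.finRange 5).all fun j =>
      fiveFun p i != fiveFun p j || i == j) = true := by decide +kernel
  simp only [List.all_eq_true, List.mem_range, List.mem_finRange, Bool.or_eq_true, bne_iff_ne,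
    beq_iff_eq, true_imp_iff] at h
  exact fun p hp i j e => (h p hp i j).resolve_left fun h' => h' e

theorem fivePerm_apply {p : ℕ} (hp : p < 120) (k : Fin 5) : fivePerm p k = fiveFun p k := by
  rw [fivePerm, dif_pos (five_inj p hp)]; rfl

theorem five_zero : fivePerm 0 = 1 :=
  Equiv.ext fun k => by rw [fivePerm_apply (by norm_num)]; revert k; decide +kernel

theorem five_kernel {p : ℕ} (hp : p < 120) (h : fivePerm p = 1) : p = 0 := by
  have hc : ((List.range 120).all fun p => p == 0 ||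
      (List.finRange 5).any fun k => fiveFun p k != k) = true := by decide +kernel
  simp only [List.all_eq_true, List.mem_range, List.any_eq_true, Bool.or_eq_true, bne_iff_ne,
    beq_iff_eq] at hc
  refine (hc p hp).resolve_right ?_
  rintro ⟨k, -, hk⟩
  exact hk (by rw [← fivePerm_apply hp, h]; rfl)

theorem mZ_gen : ∀ i < 240, ∀ g ∈ genZ,
    (mZ i g / 120) % 2 = (i / 120 + g / 120) % 2 ∧
      fivePerm (mZ i g % 120) = fivePerm (i % 120) * fivePerm (g % 120) := by
  have h : ((List.range 240).all fun i => genZ.all fun g =>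
      (mZ i g / 120) % 2 == (i / 120 + g / 120) % 2 && (List.finRange 5).all fun k =>
        fiveFun (mZ i g % 120) k == fiveFun (i % 120) (fiveFun (g % 120) k)) = true := by
    decide +kernel
  simp only [List.all_eq_true, List.mem_range, Bool.and_eq_true, List.mem_finRange, beq_iff_eq,
    true_imp_iff] at h
  intro i hi g hg
  refine ⟨(h i hi g hg).1, Equiv.ext fun k => ?_⟩
  rw [Equiv.Perm.mul_apply, fivePerm_apply (Nat.mod_lt _ (by norm_num)),
    fivePerm_apply (Nat.mod_lt _ (by norm_num)), fivePerm_apply (Nat.mod_lt _ (by norm_num))]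
  exact (h i hi g hg).2 k

theorem invZ_ok : invOK 240 mZ invZ = true := by decide +kernel

theorem invZ_spec {i : ℕ} (hi : i < 240) :
    invZ.getD i 0 < 240 ∧ mZ i (invZ.getD i 0) = 0 ∧ mZ (invZ.getD i 0) i = 0 := by
  have h := invZ_ok
  simp only [invOK, List.all_eq_true, List.mem_range, Bool.and_eq_true, Nat.blt_eq, beq_iff_eq] at h
  exact ⟨(h i hi).1.1, (h i hi).1.2, (h i hi).2⟩

/-- The table from a direct product decomposition. -/
theorem rep_of_five {G : Type*} [Group G] {C : Subgroup G} (z : C) (A : Subgroup C) (hz : z * z = 1)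
    (hzc : ∀ c : C, c * z = z * c) (hzA : z ∉ A) (σ : Equiv.Perm (Fin 5) →* C)
    (hσ : Function.Injective σ) (hσA : ∀ s, σ s ∈ A) (hcard : Nat.card C = 240) :
    Rep 240 mZ C (fun i => ((z ^ (i / 120) * σ (fivePerm (i % 120)) : C) : G)) := by
  set F : ℕ → C := fun i => z ^ (i / 120) * σ (fivePerm (i % 120)) with hF
  have h0 : F 0 = 1 := by simp [hF, five_zero]
  have hmul : ∀ i < 240, ∀ j < 240, F (mZ i j) = F i * F j := by
    refine tabZ.map_mul h0 fun i hi g hg => ?_
    obtain ⟨h1, h2⟩ := mZ_gen i hi g hg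
    have hz2 : ∀ k : ℕ, z ^ k = z ^ (k % 2) := fun k => by
      conv_lhs => rw [← Nat.mod_add_div k 2]
      rw [pow_add, pow_mul, pow_two, hz, one_pow, mul_one]
    simp only [hF, h2, map_mul]
    rw [hz2, h1, ← hz2, pow_add]
    have hc : Commute (z ^ (g / 120)) (σ (fivePerm (i % 120))) :=
      ((Commute.pow_right (hzc _) _)).symm
    calc z ^ (i / 120) * z ^ (g / 120) * (σ (fivePerm (i % 120)) * σ (fivePerm (g % 120)))
        = z ^ (i / 120) * (z ^ (g / 120) * σ (fivePerm (i % 120))) * σ (fivePerm (g % 120)) := by group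
      _ = _ := by rw [hc.eq]; group
  have hker : ∀ i < 240, F i = 1 → i = 0 := by
    intro i hi h
    have hb : i / 120 = 0 ∨ i / 120 = 1 := by omega
    rcases hb with hb | hb
    · simp only [hF, hb, pow_zero, one_mul] at h
      rw [← map_one σ] at h
      have := five_kernel (Nat.mod_lt _ (by norm_num)) (hσ h)
      omega
    · exfalso
      simp only [hF, hb, pow_one] at h
      refine hzA ?_
      rw [eq_inv_of_mul_eq_one_left h]
      exact A.inv_mem (hσA _)
  have hinj : ∀ i < 240, ∀ j < 240, F i = F j → i = j := by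
    intro i hi j hj he
    obtain ⟨h1, h2, h3⟩ := invZ_spec hi
    have e : F (mZ (invZ.getD i 0) j) = 1 := by
      rw [hmul _ h1 j hj, ← he, ← hmul _ h1 i hi, h3, h0]
    have e' := hker _ (tabZ.lt _ h1 j hj) e
    have := tabZ.assoc hi h1 hj
    rw [e', h2, tabZ.one_right i hi, tabZ.one_left j hj] at this
    exact this
  haveI : Finite C := Nat.finite_of_card_ne_zero (by omega)
  have hbij : Function.Bijective (fun i : Fin 240 => F i) := by
    haveI := Fintype.ofFinite C
    refine (Fintype.bijective_iff_injective_and_card _).2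
      ⟨fun i j h => Fin.ext (hinj i i.2 j j.2 h), ?_⟩
    rw [Fintype.card_fin, ← Nat.card_eq_fintype_card, hcard]
  refine ⟨by norm_num, tabZ.lt, fun i _ => (F i).2, fun x hx => ?_, fun i hi j hj h => ?_,
    fun i hi j hj => ?_, ?_⟩
  · obtain ⟨i, hi⟩ := hbij.2 ⟨x, hx⟩
    exact ⟨i, i.2, Subtype.ext_iff.1 hi⟩
  · exact hinj i hi j hj (Subtype.ext h)
  · exact Subtype.ext_iff.1 (hmul i hi j hj)
  · exact Subtype.ext_iff.1 h0

namespace Hyp

variable {G : Type*} [Group G] {φ : ℕ → G} (K : Hyp φ)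
include K
variable {A K₀ : Subgroup K.Cz}

theorem kernel_le [Finite G] [IsSimpleGroup G] (hna : ¬ IsMulCommutative G) (Q : K.Quarter A K₀)
    {c : K.Cz} (hc : c ∈ (Subgroup.normalizer (K.vC : Set K.Cz)).normalCore) :
    c = 1 ∨ (c : G) = φ iZ := by
  set N := Subgroup.normalizer (K.vC : Set K.Cz) with hNdef
  set R := N.normalCore with hR
  haveI hRn : R.Normal := Subgroup.normalCore_normal N
  have hRN : R ≤ N := Subgroup.normalCore_le N
  have hK := Q.hK
  obtain ⟨-, hnn⟩ := K.card_Cz_240 hna Q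
  have hRV : ∀ v ∈ K.vC, v ∈ R → v = 1 := by
    by_contra hcon
    push Not at hcon
    obtain ⟨v, hv, hvR, hv1⟩ := hcon
    obtain ⟨i, hi, ei⟩ := (K.mem_vC).1 hv
    have hi' : i = iC ∨ i = 9 ∨ i = 121 := by
      rcases mem_vH.1 hi with rfl | h | h | h
      · exact absurd (Subtype.ext (ei.symm.trans K.one)) hv1
      · exact .inr (.inl h)
      · exact .inr (.inr h)
      · exact .inl h
    obtain ⟨g, hg, -⟩ := K.fusedV hna hi'
    have htR : K.tc iC iC_mem_tH.1 ∈ R := by
      have h := hRn.conj_mem v hvR g⁻¹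
      convert h using 1
      refine Subtype.ext ?_
      show φ iC = (g : G)⁻¹ * (v : G) * (g : G)⁻¹⁻¹
      rw [← ei, ← hg]; group
    have hVR : K.vC ≤ R := fun w hw => by
      obtain ⟨j, hj, ej⟩ := (K.mem_vC).1 hw
      rcases mem_vH.1 hj with rfl | h
      · have : w = 1 := Subtype.ext (ej.symm.trans K.one)
        rw [this]; exact one_mem R
      · obtain ⟨g', hg', -⟩ := K.fusedV hna (i := j) (by tauto)
        have h' := hRn.conj_mem _ htR g'
        convert h' using 1
        exact Subtype.ext (ej.symm.trans hg'.symm)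
    refine hnn ⟨fun w hw a => ?_⟩
    haveI := Fact.mk Nat.prime_two
    set x := a * w * a⁻¹
    have hxN : x ∈ N := hRN (hRn.conj_mem w (hVR hw) a)
    have hxK : x ∈ K₀ := hK.conj_mem w (K.vC_le Q hw) a
    -- a two-element of the normaliser lies in the Sylow subgroup it normalises
    have hP : IsPGroup 2 (Subgroup.zpowers (⟨x, hxK⟩ : K₀)) := by
      have hw2 : w * w = 1 := by
        obtain ⟨j, hj, ej⟩ := (K.mem_vC).1 hw
        refine Subtype.ext ?_
        show (w : G) * w = 1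
        rw [← ej, ← K.mul j (vH_lt j hj).1 j (vH_lt j hj).1,
          show mH j j = 0 by rcases mem_vH.1 hj with rfl | rfl | rfl | rfl <;> decide +kernel, K.one]
      intro y
      obtain ⟨k, hk⟩ := Subgroup.mem_zpowers_iff.1 y.2
      refine ⟨1, Subtype.ext ?_⟩
      show (y : K₀) ^ 2 = 1
      rw [← hk, pow_two, ← zpow_add, ← two_mul, zpow_mul, zpow_two]
      have : (⟨x, hxK⟩ : K₀) * ⟨x, hxK⟩ = 1 := Subtype.ext (by
        show x * x = 1
        rw [show x * x = a * (w * w) * a⁻¹ from conj_sq, hw2]; group)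
      rw [this, one_zpow]
    have hnorm : Subgroup.zpowers (⟨x, hxK⟩ : K₀) ≤
        Subgroup.normalizer ((K.sylowV Q : Subgroup K₀) : Set K₀) := by
      rw [Subgroup.zpowers_le, Subgroup.mem_normalizer_iff]
      intro y
      rw [K.sylowV_coe Q, Subgroup.mem_subgroupOf, Subgroup.mem_subgroupOf]
      exact Subgroup.mem_normalizer_iff.1 hxN _
    have := (K.sylowV Q).3 (IsPGroup.to_sup_of_normal_right' hP (K.sylowV Q).2 hnorm) le_sup_right
    have hx' : (⟨x, hxK⟩ : K₀) ∈ ((K.sylowV Q) : Subgroup K₀) :=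
      this ▸ Subgroup.mem_sup_left (Subgroup.mem_zpowers _)
    exact hx'
  have hcomm : ∀ v ∈ K.vC, c * v = v * c := by
    intro v hv
    have h1 : c * v * c⁻¹ * v⁻¹ ∈ K.vC :=
      K.vC.mul_mem ((K.mem_norm_iff).1 (hRN hc) v hv) (K.vC.inv_mem hv)
    have h2 : c * v * c⁻¹ * v⁻¹ ∈ R := by
      have := R.mul_mem hc (hRn.conj_mem _ (R.inv_mem hc) v)
      rwa [show c * (v * c⁻¹ * v⁻¹) = c * v * c⁻¹ * v⁻¹ by group] at this
    have := hRV _ h1 h2
    rw [mul_inv_eq_one, mul_inv_eq_iff_eq_mul] at this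
    exact this
  obtain ⟨f1, f2, f3, f4, f5, f6, f7, f8, f9, f10⟩ := four_facts
  have ht : (c : G) * φ iC = φ iC * (c : G) :=
    Subtype.ext_iff.1 (hcomm _ (K.tc_mem_vC (i := iC) (by simp [vH, iC])))
  have h9 : (c : G) * φ 9 = φ 9 * (c : G) :=
    Subtype.ext_iff.1 (hcomm _ (K.tc_mem_vC (i := 9) (by simp [vH])))
  obtain ⟨i, hi, e⟩ := (K.mem_sub tH_ok.1).1
    ((K.mem_T_iff).2 ⟨ht, Subgroup.mem_centralizer_singleton_iff.1 c.2⟩)
  have hiv : i ∈ tcvH := tH_cent9 i hi ((K.comm_iff (tH_lt i hi) (by norm_num)).1 (e ▸ h9))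
  have hdec : (tcvH.all fun i => vH.contains i || i == iZ || vH.any fun v =>
      i == mH iZ v && v != 0) = true := by decide +kernel
  simp only [List.all_eq_true, Bool.or_eq_true, List.any_eq_true, List.contains_iff_mem, beq_iff_eq,
    Bool.and_eq_true, bne_iff_ne] at hdec
  rcases hdec i hiv with (h | rfl) | ⟨v, hv, rfl, hv0⟩
  · exact .inl (hRV c ((K.mem_vC).2 ⟨i, h, e⟩) hc)
  · exact .inr e.symm
  exfalso
  have hv' : v = iC ∨ v = 9 ∨ v = 121 := by
    rcases mem_vH.1 hv with h | h | h | h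
    exacts [absurd h hv0, .inr (.inl h), .inr (.inr h), .inl h]
  obtain ⟨g, hg, -⟩ := K.fusedV hna hv'
  obtain ⟨w, hw, hwv⟩ : ∃ w, (w = iC ∨ w = 9 ∨ w = 121) ∧ w ≠ v := by
    rcases hv' with rfl | rfl | rfl
    exacts [⟨9, .inr (.inl rfl), by decide⟩, ⟨iC, .inl rfl, by decide⟩, ⟨iC, .inl rfl, by decide⟩]
  obtain ⟨g', hg', -⟩ := K.fusedV hna hw
  have hwV : w ∈ vH := by rcases hw with rfl | rfl | rfl <;> simp [vH, iC]
  have hlz := idx_lt.2.2.1
  have hvl := (vH_lt v hv).1
  have hwl := (vH_lt w hwV).1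
  have hcv : (c : G) = φ iZ * φ v := by rw [← e, K.mul _ hlz _ hvl]
  -- conjugating replaces `v` by `w`
  have hconj := hRn.conj_mem c hc (g' * g⁻¹)
  have hval : ((g' * g⁻¹ * c * (g' * g⁻¹)⁻¹ : K.Cz) : G) = φ iZ * φ w := by
    have hz : ∀ a : K.Cz, (a : G) * φ iZ * (a : G)⁻¹ = φ iZ := fun a =>
      mul_inv_eq_iff_eq_mul.2 (Subgroup.mem_centralizer_singleton_iff.1 a.2)
    simp only [Subgroup.coe_mul, Subgroup.coe_inv, hcv]
    calc (g' : G) * (g : G)⁻¹ * (φ iZ * φ v) * ((g' : G) * (g : G)⁻¹)⁻¹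
        = ((g' : G) * (((g⁻¹ : K.Cz) : G) * φ iZ * ((g⁻¹ : K.Cz) : G)⁻¹) * (g' : G)⁻¹) *
            ((g' : G) * ((g : G)⁻¹ * φ v * (g : G)) * (g' : G)⁻¹) := by
          rw [Subgroup.coe_inv]; group
      _ = φ iZ * ((g' : G) * φ iC * (g' : G)⁻¹) := by
          rw [hz g⁻¹, hz g', show (g : G)⁻¹ * φ v * (g : G) = φ iC by rw [← hg]; group]
      _ = φ iZ * φ w := by rw [hg']
  have hprod : c⁻¹ * (g' * g⁻¹ * c * (g' * g⁻¹)⁻¹) ∈ R := R.mul_mem (R.inv_mem hc) hconj
  have hin : c⁻¹ * (g' * g⁻¹ * c * (g' * g⁻¹)⁻¹) =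
      (K.tc v (vH_lt v hv).2)⁻¹ * K.tc w (vH_lt w hwV).2 := Subtype.ext (by
    rw [Subgroup.coe_mul, hval, Subgroup.coe_inv, hcv]
    show (φ iZ * φ v)⁻¹ * (φ iZ * φ w) = (φ v)⁻¹ * φ w
    group)
  have := hRV _ (hin ▸ K.vC.mul_mem (K.vC.inv_mem (K.tc_mem_vC hv)) (K.tc_mem_vC hwV)) hprod
  rw [hin, inv_mul_eq_one] at this
  exact hwv (K.inj w hwl v hvl (Subtype.ext_iff.1 this).symm)

/-- The centraliser of the second involution has the second table. -/
theorem exists_repZ [Finite G] [IsSimpleGroup G] (hna : ¬ IsMulCommutative G) :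
    ∃ ψ : ℕ → G, Rep 240 mZ K.Cz ψ ∧ ψ zZ = φ iZ := by
  obtain ⟨A, K₀, Q⟩ := K.exists_quarter hna
  obtain ⟨h240, hnn⟩ := K.card_Cz_240 hna Q
  set N := Subgroup.normalizer (K.vC : Set K.Cz) with hNdef
  have hN5 : Nat.card (K.Cz ⧸ N) = 5 := by
    have h := Subgroup.card_eq_card_quotient_mul_card_subgroup N
    rw [h240, K.card_norm hna] at h
    omega
  haveI : Fintype (K.Cz ⧸ N) := Fintype.ofFinite _
  let e5 : (K.Cz ⧸ N) ≃ Fin 5 := Fintype.equivFinOfCardEq (by rw [← Nat.card_eq_fintype_card, hN5])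
  let ρ : K.Cz →* Equiv.Perm (Fin 5) :=
    e5.permCongrHom.toMonoidHom.comp (MulAction.toPermHom K.Cz (K.Cz ⧸ N))
  have hker : ∀ c, ρ c = 1 → c = 1 ∨ (c : G) = φ iZ := by
    intro c hc
    refine K.kernel_le hna Q ?_
    rw [Subgroup.normalCore_eq_ker, MonoidHom.mem_ker]
    exact e5.permCongrHom.injective (by rw [map_one]; exact hc)
  let z : K.Cz := K.tc iZ iC_mem_tH.2.2.1
  let ρA : A →* Equiv.Perm (Fin 5) := ρ.comp A.subtype
  have hinj : Function.Injective ρA := by
    rw [injective_iff_map_eq_one]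
    intro a ha
    rcases hker a ha with h | h
    · exact Subtype.ext h
    · exact absurd (show z ∈ A by
        have : z = (a : K.Cz) := Subtype.ext h.symm
        rw [this]; exact a.2) Q.hzA
  have hA120 : Nat.card A = 120 := by
    have h := A.card_mul_index
    rw [Q.hA2, h240] at h
    omega
  have hbij : Function.Bijective ρA := by
    haveI := Fintype.ofFinite A
    refine (Fintype.bijective_iff_injective_and_card _).2 ⟨hinj, ?_⟩
    rw [← Nat.card_eq_fintype_card, hA120, Fintype.card_perm, Fintype.card_fin]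
    rfl
  let σ : Equiv.Perm (Fin 5) →* K.Cz :=
    A.subtype.comp (MulEquiv.ofBijective ρA hbij).symm.toMonoidHom
  have hz : z * z = 1 := Subtype.ext (mul_self_of K.orderOf_z)
  have hzc : ∀ c : K.Cz, c * z = z * c := fun c =>
    Subtype.ext (Subgroup.mem_centralizer_singleton_iff.1 c.2)
  have R := rep_of_five z A hz hzc Q.hzA σ
    (Subtype.val_injective.comp (MulEquiv.ofBijective ρA hbij).symm.injective)
    (fun s => ((MulEquiv.ofBijective ρA hbij).symm s).2) h240
  refine ⟨_, R, ?_⟩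
  show ((z ^ (zZ / 120) * σ (fivePerm (zZ % 120)) : K.Cz) : G) = φ iZ
  rw [show zZ / 120 = 1 by decide, show zZ % 120 = 0 by decide, five_zero, map_one, pow_one, mul_one]
  rfl

end Hyp

end CfsgLib.M12Recog
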