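import Cfsg.Agent.Lib.M12Recog.CentZ

/-!
The element `iB` is fused to the central involution, and the centraliser of `iZ` moves it.
-/

set_option autoImplicit false
set_option linter.style.haveILetI false
set_option linter.unusedSectionVars false

namespace CfsgLib.M12Recog

open scoped Classical

/-- the class of the central involution -/
def tlT : List ℕ := iC :: clA ++ clB

/-- the class of the central involution in the other pattern -/
def tlZ : List ℕ := iC :: clA

/-- the class of the second involution in the other pattern -/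
def zlZ : List ℕ := clZ ++ clB

theorem lists_ok : tlT.Nodup ∧ tlZ.Nodup ∧ zlZ.Nodup ∧ clZ.Nodup ∧ tlT.length = 31 ∧ tlZ.length = 7 ∧
    ((tlT ++ tlZ ++ zlZ ++ clZ).all fun i => Nat.blt i 192) = true ∧
    (tlZ.all fun i => tlZ.all fun j => mH i j == mH j i) = true := by
  decide +kernel

theorem lists_lt {i : ℕ} (h : i ∈ tlT ∨ i ∈ tlZ ∨ i ∈ zlZ ∨ i ∈ clZ) : i < 192 := by
  obtain ⟨-, -, -, -, -, -, hl, -⟩ := lists_ok
  simp only [List.all_eq_true, Nat.blt_eq] at hl
  exact hl i (by simp only [List.mem_append]; tauto)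

namespace Hyp

variable {G : Type*} [Group G] {φ : ℕ → G} (K : Hyp φ)
include K

/-- the two classes -/
structure _root_.CfsgLib.M12Recog.Pattern (φ : ℕ → G) (tl zl : List ℕ) : Prop where
  t_mem : ∀ i ∈ tl, IsConj (φ iC) (φ i)
  z_mem : ∀ i ∈ zl, IsConj (φ iZ) (φ i)
  cover : ∀ i, (i = iC ∨ i ∈ clA ∨ i ∈ clB ∨ i ∈ clZ) → i ∈ tl ∨ i ∈ zl

theorem pattern_t [Finite G] [IsSimpleGroup G] (hna : ¬ IsMulCommutative G)
    (hB : IsConj (φ iC) (φ iB)) : Pattern φ tlT clZ := by
  refine ⟨fun i hi => ?_, fun i hi => K.isConj_list clZ_conj idx_lt.2.2.1 hi, fun i h => ?_⟩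
  · simp only [tlT, List.mem_cons, List.cons_append, List.mem_append] at hi
    rcases hi with rfl | h | h
    · exact IsConj.refl _
    · exact (K.conj_A hna).trans (K.isConj_list clA_conj idx_lt.2.1 h)
    · exact hB.trans (K.isConj_list clB_conj idx_lt.2.2.2 h)
  · simp only [tlT, List.mem_cons, List.cons_append, List.mem_append]
    tauto

theorem pattern_z [Finite G] [IsSimpleGroup G] (hna : ¬ IsMulCommutative G)
    (hB : IsConj (φ iZ) (φ iB)) : Pattern φ tlZ zlZ := by
  refine ⟨fun i hi => ?_, fun i hi => ?_, fun i h => ?_⟩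
  · simp only [tlZ, List.mem_cons] at hi
    rcases hi with rfl | h
    · exact IsConj.refl _
    · exact (K.conj_A hna).trans (K.isConj_list clA_conj idx_lt.2.1 h)
  · simp only [zlZ, List.mem_append] at hi
    rcases hi with h | h
    · exact K.isConj_list clZ_conj idx_lt.2.2.1 h
    · exact hB.trans (K.isConj_list clB_conj idx_lt.2.2.2 h)
  · simp only [tlZ, zlZ, List.mem_cons, List.mem_append]
    tauto

theorem conj_t_iff {tl zl : List ℕ} (P : Pattern φ tl zl) {i : ℕ} (hi : i < 192) :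
    IsConj (φ iC) (φ i) ↔ i ∈ tl := by
  refine ⟨fun h => ?_, P.t_mem i⟩
  obtain ⟨j, hj, e, hc⟩ := K.invol_idx (orderOf_of_isConj K.orderOf_t h) (K.comm_t hi)
  obtain rfl := K.inj j hj i hi e
  exact (P.cover j hc).resolve_right fun hz => K.not_conj_Z ((P.z_mem j hz).trans h.symm)

theorem conj_z_iff {tl zl : List ℕ} (P : Pattern φ tl zl) {i : ℕ} (hi : i < 192) :
    IsConj (φ iZ) (φ i) ↔ i ∈ zl := by
  refine ⟨fun h => ?_, P.z_mem i⟩
  obtain ⟨j, hj, e, hc⟩ := K.invol_idx (orderOf_of_isConj K.orderOf_z h) (K.comm_t hi)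
  obtain rfl := K.inj j hj i hi e
  exact (P.cover j hc).resolve_left fun ht => K.not_conj_Z (h.trans (P.t_mem j ht).symm)

theorem all_invol [Finite G] {tl zl : List ℕ} (P : Pattern φ tl zl) (x : G) (hx : orderOf x = 2) :
    IsConj x (φ iZ) ∨ IsConj x (φ iC) := by
  haveI := Fact.mk Nat.prime_two
  obtain ⟨S, hS⟩ := K.sylow
  obtain ⟨Q, hQ⟩ := (IsPGroup.of_card (n := 1) (show Nat.card (Subgroup.zpowers x) = 2 ^ 1 by
    rw [Nat.card_zpowers, hx]; rfl)).exists_le_sylow
  obtain ⟨g, hg⟩ := MulAction.exists_smul_eq G Q S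
  have hm : g * x * g⁻¹ ∈ (S : Subgroup G) := by
    rw [← hg]; exact ⟨x, hQ (Subgroup.mem_zpowers x), rfl⟩
  rw [hS] at hm
  have hc : g * x * g⁻¹ * φ iC = φ iC * (g * x * g⁻¹) :=
    Subgroup.mem_centralizer_singleton_iff.1 (K.sub_le sylH_ok.1 hm)
  obtain ⟨i, hi, e, h⟩ := K.invol_idx
    (orderOf_of_isConj hx (isConj_iff.2 ⟨g, rfl⟩)) hc
  have hxi : IsConj x (φ i) := isConj_iff.2 ⟨g, e.symm⟩
  rcases P.cover i h with h | h
  · exact .inr (hxi.trans (P.t_mem i h).symm)
  · exact .inl (hxi.trans (P.z_mem i h).symm)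

theorem count_at_t [Fintype G] {tl zl : List ℕ} (P : Pattern φ tl zl) (h1 : zl.Nodup) (h2 : tl.Nodup)
    (h3 : ∀ i ∈ zl, i < 192) (h4 : ∀ i ∈ tl, i < 192) :
    (J2Order.pairsAt (φ iZ) (φ iC) (φ iC)).card = pairNum 192 mH zl tl iC :=
  Rep.card_pairsAt K K.orderOf_z K.orderOf_t idx_lt.1 (mul_self_of K.orderOf_t)
    (fun _ _ => Rep.mem_of_pair K K.orderOf_z K.orderOf_t (mul_self_of K.orderOf_t)
      fun _ => Subgroup.mem_centralizer_singleton_iff.2) h1 h2 h3 h4
    (fun _ hi => (and_iff_left (K.comm_t hi)).trans (K.conj_z_iff P hi))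
    fun _ hi => (and_iff_left (K.comm_t hi)).trans (K.conj_t_iff P hi)

theorem cent_z_eq [Finite G] [IsSimpleGroup G] (hna : ¬ IsMulCommutative G)
    (hB : IsConj (φ iZ) (φ iB)) {g : G} (hg : g * φ iZ = φ iZ * g) : g * φ iC = φ iC * g := by
  have hnB : ¬ IsConj (φ iC) (φ iB) := fun h => K.not_conj_Z (hB.trans h.symm)
  obtain ⟨S, hS⟩ := K.sylow_cz
  let C : Subgroup G := Subgroup.centralizer ({φ iZ} : Set G)
  let t' : C := ⟨φ iC, Subgroup.mem_centralizer_singleton_iff.2 K.t_comm_z⟩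
  have ht' : orderOf t' = 2 := by rw [← Subgroup.orderOf_coe]; exact K.orderOf_t
  have htS : t' ∈ S := (hS t').2 rfl
  have hiso : ∀ c : C, c * t' * c⁻¹ ∈ S → c * t' * c⁻¹ = t' := by
    intro c hc
    have h := K.no_move hnB (Subgroup.mem_centralizer_singleton_iff.1 c.2) ((hS _).1 hc)
    exact Subtype.ext (mul_inv_eq_iff_eq_mul.2 h)
  obtain ⟨N, hN, hodd, hcomm⟩ := ZStar.exists_normal_odd_commutator_mem S t' ht' htS hiso
  set N' := N.map C.subtype with hN'
  have hodd' : Odd (Nat.card N') := by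
    rwa [hN', Subgroup.card_map_of_injective C.subtype_injective]
  have hconj : ∀ {v : G}, v ∈ C → v * v = 1 → ∀ n ∈ N', v * n * v ∈ N' := by
    rintro v hv hv2 _ ⟨n, hn, rfl⟩
    refine ⟨⟨v, hv⟩ * n * ⟨v, hv⟩⁻¹, hN.conj_mem n hn _, ?_⟩
    show v * (n : G) * v⁻¹ = v * (n : G) * v
    rw [inv_eq_of_mul_eq_one_right hv2]
  have h2p : ∀ n ∈ N', ∀ j, orderOf n ∣ j → j ∣ 2 ^ 6 → n = 1 := by
    intro n hn j hdj hj
    have h1 : orderOf n ∣ Nat.card N' := by
      rw [← Subgroup.orderOf_mk (H := N') n hn]; exact orderOf_dvd_natCard _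
    have h2 : (Nat.card N').Coprime (2 ^ 6) := (Nat.coprime_two_right.2 hodd').pow_right 6
    exact orderOf_eq_one_iff.1 (Nat.eq_one_of_dvd_coprimes h2 h1 (hdj.trans hj))
  have hfpf_t : ∀ n ∈ N', n * φ iC = φ iC * n → n = 1 := by
    intro n hn hc
    obtain ⟨m, hm, rfl⟩ := hn
    have hmT : (C.subtype m : G) ∈ K.sub tH :=
      (K.mem_T_iff).2 ⟨hc, Subgroup.mem_centralizer_singleton_iff.1 m.2⟩
    refine h2p _ ⟨m, hm, rfl⟩ 16 ?_ (by norm_num)
    rw [← tH_ok.2.2, ← K.card_sub tH_ok.1 tH_ok.2.1,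
      ← Subgroup.orderOf_mk (H := K.sub tH) _ hmT]
    exact orderOf_dvd_natCard _
  have hfpf : ∀ a ∈ clA, a ∈ tH → ∀ n ∈ N', n * φ a = φ a * n → n = 1 := by
    intro a haA haT n hn hc
    obtain ⟨c, hc'⟩ := isConj_iff.1
      (((K.conj_A hna).trans (K.isConj_list clA_conj idx_lt.2.1 haA)).symm)
    have hnz : n * φ iZ = φ iZ * n := by
      obtain ⟨m, -, rfl⟩ := hn
      exact Subgroup.mem_centralizer_singleton_iff.1 m.2
    have haz : φ a * φ iZ = φ iZ * φ a :=
      (K.comm_iff (tH_lt a haT) idx_lt.2.2.1).2 ((mem_tH_iff (tH_lt a haT)).1 haT)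
    obtain ⟨i, hi, ei, hcase⟩ := K.invol_idx (orderOf_of_isConj K.orderOf_z (isConj_iff.2 ⟨c, rfl⟩))
      (show c * φ iZ * c⁻¹ * φ iC = φ iC * (c * φ iZ * c⁻¹) by rw [← hc']; exact conj_comm haz.symm)
    obtain ⟨-, -, -, -, -, nB, nZ⟩ := nCent_vals
    simp only [List.all_eq_true, beq_iff_eq] at nB nZ
    have hcard := K.card_nCent hi
    have hdvd : nCent i ∣ 2 ^ 6 := by
      have hzi : IsConj (φ iZ) (φ i) := isConj_iff.2 ⟨c, ei.symm⟩
      rcases hcase with rfl | h | h | h
      · exact absurd hzi K.not_conj_Z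
      · exact absurd (hzi.trans ((K.isConj_list clA_conj idx_lt.2.1 h).symm.trans (K.conj_A hna).symm))
          K.not_conj_Z
      · rw [nB i h]; norm_num
      · rw [nZ i h]; norm_num
    let D := Subgroup.centralizer ({φ iC} : Set G) ⊓ Subgroup.centralizer ({φ i} : Set G)
    have hD : Nat.card D = nCent i := by
      rw [← hcard]
      exact Nat.card_congr (Equiv.subtypeEquivRight fun x => by
        simp only [D, Subgroup.mem_inf, Subgroup.mem_centralizer_singleton_iff])
    have hmem : c * n * c⁻¹ ∈ D := by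
      refine Subgroup.mem_inf.2 ⟨Subgroup.mem_centralizer_singleton_iff.2 ?_,
        Subgroup.mem_centralizer_singleton_iff.2 ?_⟩
      · rw [← hc']; exact conj_comm hc
      · rw [ei]; exact conj_comm hnz
    refine h2p n hn _ ?_ hdvd
    have : orderOf n = orderOf (c * n * c⁻¹) := by rw [← MulAut.conj_apply, MulEquiv.orderOf_eq]
    rw [this, ← hD, ← Subgroup.orderOf_mk (H := D) _ hmem]
    exact orderOf_dvd_natCard _
  have hbot : N' = ⊥ := by
    obtain ⟨f1, f2, f3, f4, f5, f6, f7, f8, f9, f10⟩ := four_facts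
    have h9 : (9 : ℕ) < 192 := by norm_num
    have h9C : φ 9 ∈ C := Subgroup.mem_centralizer_singleton_iff.2
      ((K.comm_iff h9 idx_lt.2.2.1).2 ((mem_tH_iff h9).1 f9))
    have ht2 := mul_self_of K.orderOf_t
    have h92 : φ 9 * φ 9 = 1 := by rw [← K.mul _ h9 _ h9, f4, K.one]
    refine eq_bot_of_fpf_four ht2 h92 ((K.comm_iff idx_lt.1 h9).2 f6) (hconj t'.2 ht2)
      (hconj h9C h92) hfpf_t (hfpf 9 f7 f9) ?_
    rw [← K.mul _ idx_lt.1 _ h9, f2]
    exact hfpf 121 f8 f10
  have hmap : C.subtype (t' * ⟨g, Subgroup.mem_centralizer_singleton_iff.2 hg⟩ * t'⁻¹ *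
      ⟨g, Subgroup.mem_centralizer_singleton_iff.2 hg⟩⁻¹) ∈ N' :=
    ⟨_, hcomm ⟨g, Subgroup.mem_centralizer_singleton_iff.2 hg⟩, rfl⟩
  rw [hbot, Subgroup.mem_bot] at hmap
  have e : φ iC * g * (φ iC)⁻¹ * g⁻¹ = 1 := hmap
  rw [mul_inv_eq_one] at e
  exact (mul_inv_eq_iff_eq_mul.1 e).symm

theorem conj_B_t [Finite G] [IsSimpleGroup G] (hna : ¬ IsMulCommutative G) :
    IsConj (φ iC) (φ iB) := by
  refine (K.conj_B hna).resolve_right fun hB => ?_
  letI := Fintype.ofFinite G
  have P := K.pattern_z hna hB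
  obtain ⟨-, n2, n3, -, -, l7, -, hab⟩ := lists_ok
  simp only [List.all_eq_true, beq_iff_eq] at hab
  have hCz : Subgroup.centralizer ({φ iZ} : Set G) = K.sub tH := by
    ext x
    rw [Subgroup.mem_centralizer_singleton_iff, K.mem_T_iff]
    exact ⟨fun h => ⟨K.cent_z_eq hna hB h, h⟩, fun h => h.2⟩
  have hcz : Nat.card (Subgroup.centralizer ({φ iZ} : Set G)) = 16 := by
    rw [hCz, K.card_sub tH_ok.1 tH_ok.2.1, tH_ok.2.2]
  have hct : Nat.card (Subgroup.centralizer ({φ iC} : Set G)) = 192 := K.card_eq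
  have hz : (J2Order.pairsAt (φ iZ) (φ iC) (φ iZ)).card = 3 := by
    have hnum : pairNum 192 mH (zlZ.filter fun i => tH.contains i)
        (tlZ.filter fun i => tH.contains i) iZ = 3 := by decide +kernel
    rw [← hnum]
    refine Rep.card_pairsAt K K.orderOf_z K.orderOf_t idx_lt.2.2.1 (mul_self_of K.orderOf_z)
      (fun _ _ => Rep.mem_of_pair K K.orderOf_z K.orderOf_t (mul_self_of K.orderOf_z)
        fun x h => Subgroup.mem_centralizer_singleton_iff.2 (K.cent_z_eq hna hB h))
      (n3.filter _) (n2.filter _) (fun i hi => lists_lt (.inr (.inr (.inl (List.mem_of_mem_filter hi)))))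
      (fun i hi => lists_lt (.inr (.inl (List.mem_of_mem_filter hi))))
      (fun i hi => ?_) (fun i hi => ?_)
    all_goals rw [List.mem_filter, List.contains_iff_mem, mem_tH_iff hi,
      ← K.comm_iff hi idx_lt.2.2.1]
    · exact and_congr_left fun _ => K.conj_z_iff P hi
    · exact and_congr_left fun _ => K.conj_t_iff P hi
  have ht := K.count_at_t P n3 n2 (fun i hi => lists_lt (.inr (.inr (.inl hi))))
    (fun i hi => lists_lt (.inr (.inl hi)))
  rw [show pairNum 192 mH zlZ tlZ iC = 48 by decide +kernel] at ht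
  have horder := J2Order.order_formula (φ iZ) (φ iC) K.orderOf_z K.orderOf_t K.not_conj_Z (K.all_invol P)
  rw [hz, ht, hct, hcz] at horder
  have hcls := J2Order.card_cls (φ iC)
  rw [hct, horder] at hcls
  have hsub : tlZ.toFinset.image φ ⊆ J2Order.cls (φ iC) := by
    intro x hx
    simp only [Finset.mem_image, List.mem_toFinset] at hx
    obtain ⟨i, hi, rfl⟩ := hx
    simp only [J2Order.cls, Finset.mem_filter, Finset.mem_univ, true_and]
    exact P.t_mem i hi
  have heq : tlZ.toFinset.image φ = J2Order.cls (φ iC) := by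
    refine Finset.eq_of_subset_of_card_le hsub ?_
    rw [Finset.card_image_of_injOn (fun a ha b hb e => K.inj a
      (lists_lt (.inr (.inl (List.mem_toFinset.1 ha)))) b
      (lists_lt (.inr (.inl (List.mem_toFinset.1 hb)))) e),
      List.toFinset_card_of_nodup n2, l7]
    omega
  have hcomm : ∀ x, IsConj (φ iC) x → x * φ iC = φ iC * x := by
    intro x hx
    have : x ∈ tlZ.toFinset.image φ := by
      rw [heq]; simp only [J2Order.cls, Finset.mem_filter, Finset.mem_univ, true_and]; exact hx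
    simp only [Finset.mem_image, List.mem_toFinset] at this
    obtain ⟨i, hi, rfl⟩ := this
    exact K.comm_t (lists_lt (.inr (.inl hi)))
  let A := Subgroup.normalClosure ({φ iC} : Set G)
  rcases eq_top_or_eq_bot A Subgroup.normalClosure_normal with h | h
  · have : φ iC ∈ A := Subgroup.subset_normalClosure rfl
    rw [h, Subgroup.mem_bot] at this
    have h1 := K.orderOf_t
    rw [this, orderOf_one] at h1
    omega
  · refine not_central hna (t := φ iC) (fun h1 => ?_) fun g => ?_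
    · have h2 := K.orderOf_t
      rw [h1, orderOf_one] at h2
      omega
    have hle : A ≤ Subgroup.centralizer ({φ iC} : Set G) := by
      rw [show A = Subgroup.closure (Group.conjugatesOfSet {φ iC}) from rfl, Subgroup.closure_le]
      intro x hx
      obtain ⟨a, ha, hax⟩ := Group.mem_conjugatesOfSet_iff.1 hx
      rw [Set.mem_singleton_iff.1 ha] at hax
      exact Subgroup.mem_centralizer_singleton_iff.2 (hcomm x hax)
    exact Subgroup.mem_centralizer_singleton_iff.1 (hle (h ▸ Subgroup.mem_top g))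

end Hyp

end CfsgLib.M12Recog
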