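import Cfsg.Agent.Lib.M12Recog.GlueCheck

/-!
Gluing the two centralisers.
-/

set_option autoImplicit false
set_option linter.style.haveILetI false
set_option linter.unusedSectionVars false

namespace CfsgLib.M12Recog

open CfsgLib.CosetEnum

/-- precomposition with an automorphism of the table -/
theorem Rep.comp {N : ℕ} {m : ℕ → ℕ → ℕ} {gens inv : List ℕ} {G : Type*} [Group G] {H : Subgroup G}
    {f : ℕ → G} (R : Rep N m H f) (T : IsTab N m gens) (hinv : invOK N m inv = true) {a : ℕ → ℕ}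
    (ha : ∀ i < N, a i < N) (h0 : a 0 = 0) (hgen : ∀ i < N, ∀ g ∈ gens, a (m i g) = m (a i) (a g))
    (hker : ∀ i < N, a i = 0 → i = 0) : Rep N m H (fun i => f (a i)) := by
  have hmul := T.map_mul' T ha h0 hgen
  have hinj : ∀ i < N, ∀ j < N, a i = a j → i = j := by
    intro i hi j hj he
    simp only [invOK, List.all_eq_true, List.mem_range, Bool.and_eq_true, Nat.blt_eq, beq_iff_eq] at hinv
    obtain ⟨⟨h1, h2⟩, h3⟩ := hinv i hi
    have e : a (m (inv.getD i 0) j) = 0 := by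
      rw [hmul _ h1 j hj, ← he, ← hmul _ h1 i hi, h3, h0]
    have e' := hker _ (T.lt _ h1 j hj) e
    have := T.assoc hi h1 hj
    rw [e', h2, T.one_right i hi, T.one_left j hj] at this
    exact this
  have hsurj : ∀ j < N, ∃ i < N, a i = j := by
    intro j hj
    obtain ⟨i, hi⟩ := Finite.surjective_of_injective (f := fun i : Fin N => (⟨a i, ha i i.2⟩ : Fin N))
      (fun i i' h => Fin.ext (hinj i i.2 i' i'.2 (Fin.mk.inj_iff.1 h))) ⟨j, hj⟩
    exact ⟨i, i.2, Fin.mk.inj_iff.1 hi⟩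
  refine ⟨R.pos, R.lt, fun i hi => R.mem _ (ha i hi), fun x hx => ?_,
    fun i hi j hj h => hinj i hi j hj (R.inj _ (ha i hi) _ (ha j hj) h),
    fun i hi j hj => by rw [hmul i hi j hj, R.mul _ (ha i hi) _ (ha j hj)], by rw [h0, R.one]⟩
  obtain ⟨j, hj, rfl⟩ := R.surj x hx
  obtain ⟨i, hi, rfl⟩ := hsurj j hj
  exact ⟨i, hi, rfl⟩

/-- Conjugation of a described subgroup by one of its own normalisers. -/
theorem Rep.conj {N : ℕ} {m : ℕ → ℕ → ℕ} {G : Type*} [Group G] {H : Subgroup G}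
    {f : ℕ → G} (R : Rep N m H f) {g : G} (hg : g ∈ H) : Rep N m H (fun i => g * f i * g⁻¹) := by
  refine ⟨R.pos, R.lt, fun i hi => H.mul_mem (H.mul_mem hg (R.mem i hi)) (H.inv_mem hg),
    fun x hx => ?_, fun i hi j hj h => R.inj i hi j hj (mul_left_cancel (mul_right_cancel h)),
    fun i hi j hj => by rw [R.mul i hi j hj]; group, by rw [R.one]; group⟩
  obtain ⟨i, hi, e⟩ := R.surj (g⁻¹ * x * g) (H.mul_mem (H.mul_mem (H.inv_mem hg) hx) hg)
  exact ⟨i, hi, by rw [e]; group⟩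

theorem autZ_spec {A : List ℕ} (h : A ∈ autZ) : (∀ i < 240, A.getD i 0 < 240) ∧ A.getD 0 0 = 0 ∧
    (∀ i < 240, ∀ g ∈ genZ, A.getD (mZ i g) 0 = mZ (A.getD i 0) (A.getD g 0)) ∧
    ∀ i < 240, A.getD i 0 = 0 → i = 0 := by
  have h' := autZ_ok
  simp only [List.all_eq_true, List.mem_range, Bool.and_eq_true, Nat.blt_eq, beq_iff_eq,
    Bool.or_eq_true, bne_iff_ne] at h'
  obtain ⟨⟨⟨-, h1⟩, h2⟩, h3⟩ := h' A h
  exact ⟨fun i hi => (h2 i hi).1, h1, fun i hi g hg => (h2 i hi).2 g hg,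
    fun i hi e => (h3 i hi).resolve_right fun hne => hne e⟩

theorem pair_mem : ∀ i ∈ tH, (i, tOf i) ∈ tPairs ∧ tOf i < 240 := by
  have h : (tH.all fun i => tPairs.contains (i, tOf i) && Nat.blt (tOf i) 240) = true := by decide +kernel
  simpa using h

theorem pairs_lt : ∀ p ∈ tPairs, p.1 ∈ tH ∧ p.2 < 240 ∧ hOf p.2 = p.1 ∧ tOf p.1 = p.2 := by
  have h : (tPairs.all fun p => tH.contains p.1 && Nat.blt p.2 240 && (hOf p.2 == p.1) && (tOf p.1 == p.2))
      = true := by decide +kernel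
  simp only [List.all_eq_true, Bool.and_eq_true, List.contains_iff_mem, Nat.blt_eq, beq_iff_eq] at h
  exact fun p hp => ⟨(h p hp).1.1.1, (h p hp).1.1.2, (h p hp).1.2, (h p hp).2⟩

namespace Hyp

variable {G : Type*} [Group G] {φ : ℕ → G} (K : Hyp φ)
include K

/-- both tables on the common subgroup -/
def Agree (_ : Hyp φ) (ψ : ℕ → G) : Prop := ∀ p ∈ tPairs, φ p.1 = ψ p.2

theorem exists_agree [Finite G] [IsSimpleGroup G] (hna : ¬ IsMulCommutative G) :
    ∃ ψ : ℕ → G, Rep 240 mZ K.Cz ψ ∧ K.Agree ψ := by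
  haveI := Fact.mk Nat.prime_two
  obtain ⟨ψ₀, R₀, hz₀⟩ := K.exists_repZ hna
  obtain ⟨S, hS⟩ := K.sylow_cz
  obtain ⟨hz1, hz2, hz3, hz4⟩ : subOK 240 mZ tZ = true ∧ tZ.Nodup ∧ tZ.length = 16 ∧
      (tZ.all fun i => Nat.blt i 240) = true := by decide +kernel
  simp only [List.all_eq_true, Nat.blt_eq] at hz4
  have hle := R₀.sub_le hz1
  obtain ⟨U, hU⟩ := (IsPGroup.of_card (n := 4) (show Nat.card ((R₀.sub tZ).subgroupOf K.Cz) = 2 ^ 4 by
    rw [Nat.card_congr (Subgroup.subgroupOfEquivOfLe hle).toEquiv, R₀.card_sub hz1 hz2, hz3]; rfl)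
    ).exists_le_sylow
  obtain ⟨g, hg⟩ := MulAction.exists_smul_eq K.Cz U S
  have hmemS : ∀ j ∈ tZ, (g : G) * ψ₀ j * (g : G)⁻¹ ∈ K.sub tH := by
    intro j hj
    let x : K.Cz := ⟨ψ₀ j, R₀.mem j (hz4 j hj)⟩
    have hx : x ∈ (R₀.sub tZ).subgroupOf K.Cz := (R₀.mem_sub hz1).2 ⟨j, hj, rfl⟩
    have hm : g * x * g⁻¹ ∈ (S : Subgroup K.Cz) := by rw [← hg]; exact ⟨x, hU hx, rfl⟩
    exact (K.mem_T_iff).2 ⟨(hS _).1 hm, Subgroup.mem_centralizer_singleton_iff.1 (g * x * g⁻¹).2⟩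
  set ψ₁ : ℕ → G := fun i => (g : G) * ψ₀ i * (g : G)⁻¹ with hψ₁
  have R₁ : Rep 240 mZ K.Cz ψ₁ := R₀.conj g.2
  have hz₁ : ψ₁ zZ = φ iZ := by
    show (g : G) * ψ₀ zZ * (g : G)⁻¹ = φ iZ
    rw [hz₀]
    exact mul_inv_eq_iff_eq_mul.2 (Subgroup.mem_centralizer_singleton_iff.1 g.2)
  have hsurj : ∀ i ∈ tH, ∃ j ∈ tZ, ψ₁ j = φ i := by
    intro i hi
    have hmaps : ∀ j : {j // j ∈ tZ.toFinset}, ∃ a : {a // a ∈ tH.toFinset}, φ a = ψ₁ j := fun j => by
      obtain ⟨a, ha, e⟩ := (K.mem_sub tH_ok.1).1 (hmemS j (List.mem_toFinset.1 j.2))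
      exact ⟨⟨a, List.mem_toFinset.2 ha⟩, e⟩
    choose F hF using hmaps
    have hinj : Function.Injective F := fun a b h => by
      have e : ψ₁ a = ψ₁ b := by rw [← hF a, ← hF b, h]
      exact Subtype.ext (R₁.inj _ (hz4 _ (List.mem_toFinset.1 a.2)) _
        (hz4 _ (List.mem_toFinset.1 b.2)) e)
    have hbij : Function.Bijective F := (Fintype.bijective_iff_injective_and_card F).2 ⟨hinj, by
      rw [Fintype.card_coe, Fintype.card_coe, List.toFinset_card_of_nodup hz2,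
        List.toFinset_card_of_nodup tH_ok.2.1, hz3, tH_ok.2.2]⟩
    obtain ⟨j, hj⟩ := hbij.2 ⟨i, List.mem_toFinset.2 hi⟩
    exact ⟨j, List.mem_toFinset.1 j.2, by rw [← hF j, hj]⟩
  obtain ⟨hgT, htree, hkeys⟩ : (genT.all fun g => tH.contains g) = true ∧
      treeOK mH genT parT [0] = true ∧
      (tH.all fun x => (0 :: parT.map Prod.fst).contains x) = true := by decide +kernel
  simp only [List.all_eq_true, List.contains_iff_mem] at hgT hkeys
  choose im him hime using hsurj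
  let ims : List ℕ := [im 75 (hgT 75 (by simp [genT])), im 189 (hgT 189 (by simp [genT])),
    im 121 (hgT 121 (by simp [genT]))]
  have hims : ∀ k < genT.length, ims.getD k 0 < 240 ∧ ψ₁ (ims.getD k 0) = φ (genT.getD k 0) := by
    intro k hk
    simp only [genT, List.length_cons, List.length_nil] at hk
    interval_cases k <;> exact ⟨hz4 _ (him _ _), hime _ _⟩
  set f := extF mZ ims parT with hfdef
  have hf : ∀ x ∈ tH, f x < 240 ∧ ψ₁ (f x) = φ x := fun x hx =>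
    extF_spec (N := 192) (gens := genT) (F := φ) (by norm_num) (by norm_num) tabZ.lt K.one R₁.one
      (fun p hp g hg => K.mul p hp g (tH_lt g (hgT g hg)))
      (fun p hp g hg => K.lt p hp g (tH_lt g (hgT g hg))) R₁.mul hims htree (hkeys x hx)
  have hmemImg : ims ∈ alphaImages := by
    simp only [alphaImages, List.mem_flatMap, List.mem_map]
    exact ⟨_, him _ _, _, him _ _, _, him _ _, rfl⟩
  have hgood : alphaGood ims = true := by
    have htz : ∀ i, (i = 9 ∨ i = 121) → ∀ hi : i ∈ tH, f i ∈ tclZ := by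
      intro i hi9 hi
      obtain ⟨c, hc, hce⟩ := K.fused hna (i := i) (Or.inr hi9)
      obtain ⟨c', hc', ec⟩ := R₁.surj c hc
      have hC := hf iC iC_mem_tH.1
      have hI := hf i hi
      have e : mZ c' (f iC) = mZ (f i) c' := by
        refine R₁.inj _ (tabZ.lt _ hc' _ hC.1) _ (tabZ.lt _ hI.1 _ hc') ?_
        rw [R₁.mul _ hc' _ hC.1, R₁.mul _ hI.1 _ hc', hC.2, hI.2, ec, ← hce]
        group
      obtain ⟨j, hj, hjj⟩ := tH_sqrt
      have hJ := hf j hj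
      have hchk : (tZ.all fun a => mZ a a == 0 || (List.range 240).all fun d =>
          tclZ.contains (mZ (mZ d (mZ a a)) (invZ.getD d 0))) = true := by decide +kernel
      simp only [List.all_eq_true, List.mem_range, Bool.or_eq_true, beq_iff_eq,
        List.contains_iff_mem] at hchk
      have hfj : f j ∈ tZ := by
        obtain ⟨a, ha, ea⟩ : ∃ a ∈ tZ, ψ₁ a = φ j := ⟨im j hj, him _ _, hime _ _⟩
        rwa [R₁.inj a (hz4 a ha) _ hJ.1 (ea.trans hJ.2.symm)] at ha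
      have hsq : mZ (f j) (f j) = f iC := by
        refine R₁.inj _ (tabZ.lt _ hJ.1 _ hJ.1) _ hC.1 ?_
        rw [R₁.mul _ hJ.1 _ hJ.1, hJ.2, hC.2, ← K.mul j (tH_lt j hj) j (tH_lt j hj), hjj]
      rcases hchk _ hfj with h | h
      · exfalso
        rw [hsq] at h
        have := hC.2
        rw [h, R₁.one] at this
        exact absurd ((K.eq_one_iff idx_lt.1).1 this.symm) (by decide)
      · have h' := h c' hc'
        obtain ⟨d1, d2, -⟩ := invZ_spec hc'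
        rw [hsq, e, ← tabZ.assoc hI.1 hc' d1, d2, tabZ.one_right _ hI.1] at h'
        exact h'
    have hzf : f iZ = zZ := R₁.inj _ (hf iZ iC_mem_tH.2.2.1).1 _ (by decide)
      (by rw [(hf iZ iC_mem_tH.2.2.1).2, hz₁])
    simp only [alphaGood, Bool.and_eq_true, List.all_eq_true, beq_iff_eq, List.contains_iff_mem,
      Bool.or_eq_true, bne_iff_ne, ← hfdef]
    refine ⟨⟨⟨⟨hzf, htz 9 (.inl rfl) four_facts.2.2.2.2.2.2.2.2.1⟩,
      htz 121 (.inr rfl) four_facts.2.2.2.2.2.2.2.2.2⟩, fun x hx g hg => ?_⟩, fun x hx y hy => ?_⟩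
    · have hxl := tH_lt x hx
      have hgt := hgT g hg
      have hmem : mH x g ∈ tH := by
        have h := tH_ok.1
        simp only [subOK, Bool.and_eq_true, List.all_eq_true, List.contains_iff_mem] at h
        exact (h.2 x hx).2 g hgt
      refine R₁.inj _ (hf _ hmem).1 _ (tabZ.lt _ (hf x hx).1 _ (hf g hgt).1) ?_
      rw [R₁.mul _ (hf x hx).1 _ (hf g hgt).1, (hf _ hmem).2, (hf x hx).2, (hf g hgt).2,
        K.mul x hxl g (tH_lt g hgt)]
    · by_cases h : f x = f y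
      · exact .inl (K.inj x (tH_lt x hx) y (tH_lt y hy) (by rw [← (hf x hx).2, h, (hf y hy).2]))
      · exact .inr h
  have hall := alpha_check
  simp only [List.all_eq_true, Bool.or_eq_true, Bool.not_eq_true'] at hall
  have hhit := (hall ims hmemImg).resolve_left (by rw [hgood]; simp)
  simp only [alphaHit, List.any_eq_true, List.all_eq_true, beq_iff_eq, ← hfdef] at hhit
  obtain ⟨A, hA, hAf⟩ := hhit
  obtain ⟨a1, a2, a3, a4⟩ := autZ_spec hA
  refine ⟨_, R₁.comp tabZ invZ_ok a1 a2 a3 a4, fun p hp => ?_⟩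
  show φ p.1 = ψ₁ (A.getD p.2 0)
  rw [hAf p hp, (hf p.1 (pairs_lt p hp).1).2]

/-- The action of the element of order three, after adjusting the first table. -/
theorem exists_conj (ψ : ℕ → G) (R : Rep 240 mZ K.Cz ψ) (hag : K.Agree ψ) :
    ∃ φ' : ℕ → G, Hyp φ' ∧ φ' iC = φ iC ∧ φ' iZ = φ iZ ∧ (∀ p ∈ tPairs, φ' p.1 = ψ p.2) ∧
      ∀ p ∈ phiR, ψ iR * φ' p.1 * (ψ iR)⁻¹ = φ' p.2 := by
  have hr : iR < 240 := by decide
  obtain ⟨r1, r2, -⟩ := invZ_spec hr
  have hrinv : ψ (invZ.getD iR 0) = (ψ iR)⁻¹ := R.inv_eq hr r1 r2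
  -- facts on the tables
  obtain ⟨hcT, hcg, hckeys, htree, hq, hq2, hconj, hkeys2, hcv, hinvR, hmemV⟩ :
      (cvGen.all fun g => tH.contains g) = true ∧ (cGens.all fun g => cvH.contains g) = true ∧
      (cvH.all fun x => (0 :: parC.map Prod.fst).contains x) = true ∧
      treeOK mH cGens parC [0] = true ∧ (iQ ∈ tH ∧ mH iQ iQ = 0) ∧
      mZ (mZ (tOf iQ) iR) (tOf iQ) = invZ.getD iR 0 ∧
      (cvGen.all fun g => tPairs.contains
        (hOf (mZ (mZ iR (tOf g)) (invZ.getD iR 0)), mZ (mZ iR (tOf g)) (invZ.getD iR 0))) = true ∧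
      (phiR.all fun p => cvH.contains p.1 && cvH.contains p.2) = true ∧
      ((List.range 192).all fun i => cvH.contains i == (mH i 9 == mH 9 i && mH i 121 == mH 121 i)) = true ∧
      (mZ iR (mZ iR iR) = 0) ∧
      ([9, 121, iC].all fun v => [0, 9, 121, iC].any fun w =>
        mZ iR (tOf w) == mZ (tOf v) iR) = true := by
    decide +kernel
  simp only [List.all_eq_true, List.contains_iff_mem] at hcT hcg hckeys hconj
  simp only [List.all_eq_true, List.mem_range, beq_iff_eq, Bool.and_eq_true, List.any_eq_true,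
    List.contains_iff_mem] at hkeys2 hcv hmemV
  have hcvlt : ∀ x ∈ cvH, x < 192 := by
    have h : (cvH.all fun x => Nat.blt x 192) = true := by decide +kernel
    simpa using h
  have hcvc : ∀ i < 192, (i ∈ cvH ↔ mH i 9 = mH 9 i ∧ mH i 121 = mH 121 i) := by
    intro i hi
    have h := hcv i hi
    rw [← List.contains_iff_mem, h]
    simp
  have hT : ∀ i ∈ tH, φ i = ψ (tOf i) := fun i hi => hag _ (pair_mem i hi).1
  have four := four_facts
  -- conjugates stay in the table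
  have himg : ∀ x ∈ cvH, ∃ y ∈ cvH, φ y = ψ iR * φ x * (ψ iR)⁻¹ := by
    intro x hx
    have hxl := hcvlt x hx
    obtain ⟨x9, x121⟩ := (hcvc x hxl).1 hx
    have hcomm : ∀ v, (v = 9 ∨ v = 121 ∨ v = iC) →
        ψ iR * φ x * (ψ iR)⁻¹ * φ v = φ v * (ψ iR * φ x * (ψ iR)⁻¹) := by
      intro v hv
      have hv' : v ∈ [9, 121, iC] := by rcases hv with rfl | rfl | rfl <;> simp
      obtain ⟨w, hw, e⟩ := hmemV v hv'
      have hwT : w ∈ tH := by
        simp only [List.mem_cons, List.not_mem_nil, or_false] at hw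
        rcases hw with rfl | rfl | rfl | rfl
        exacts [by decide, four.2.2.2.2.2.2.2.2.1, four.2.2.2.2.2.2.2.2.2, iC_mem_tH.1]
      have hvT : v ∈ tH := by
        rcases hv with rfl | rfl | rfl
        exacts [four.2.2.2.2.2.2.2.2.1, four.2.2.2.2.2.2.2.2.2, iC_mem_tH.1]
      have ev : φ v = ψ iR * φ w * (ψ iR)⁻¹ := by
        rw [hT v hvT, hT w hwT, ← R.mul _ hr _ (pair_mem w hwT).2, e,
          R.mul _ (pair_mem v hvT).2 _ hr]
        group
      rw [ev]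
      refine conj_comm ?_
      simp only [List.mem_cons, List.not_mem_nil, or_false] at hw
      rcases hw with rfl | rfl | rfl | rfl
      · rw [K.one, one_mul, mul_one]
      · exact (K.comm_iff hxl (by norm_num)).2 x9
      · exact (K.comm_iff hxl (by norm_num)).2 x121
      · exact K.comm_t hxl
    obtain ⟨y, hy, e⟩ := K.idx_of (hcomm iC (.inr (.inr rfl)))
    refine ⟨y, (hcvc y hy).2 ⟨(K.comm_iff hy (by norm_num)).1 ?_, (K.comm_iff hy (by norm_num)).1 ?_⟩, e⟩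
    · rw [e]; exact hcomm 9 (.inl rfl)
    · rw [e]; exact hcomm 121 (.inr (.inl rfl))
  obtain ⟨a, ha, ea⟩ := himg 3 (by decide)
  obtain ⟨b, hb, eb⟩ := himg 5 (by decide)
  set im : List ℕ := (cvGen.map fun g => hOf (mZ (mZ iR (tOf g)) (invZ.getD iR 0))) ++ [a, b]
    with himdef
  have hims : ∀ k < cGens.length, im.getD k 0 < 192 ∧
      φ (im.getD k 0) = ψ iR * φ (cGens.getD k 0) * (ψ iR)⁻¹ := by
    have h1 : ∀ g ∈ cvGen, hOf (mZ (mZ iR (tOf g)) (invZ.getD iR 0)) < 192 ∧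
        φ (hOf (mZ (mZ iR (tOf g)) (invZ.getD iR 0))) = ψ iR * φ g * (ψ iR)⁻¹ := by
      intro g hg
      have hp := hconj g hg
      refine ⟨tH_lt _ (pairs_lt _ hp).1, (hag _ hp).trans ?_⟩
      rw [R.mul _ (tabZ.lt _ hr _ (pair_mem g (hcT g hg)).2) _ r1, R.mul _ hr _ (pair_mem g (hcT g hg)).2,
        hrinv, hT g (hcT g hg)]
    intro k hk
    simp only [cGens, cvGen, cvExt, List.length_cons, List.length_nil, List.length_append] at hk
    interval_cases k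
    · exact h1 118 (by simp [cvGen])
    · exact h1 167 (by simp [cvGen])
    · exact h1 128 (by simp [cvGen])
    · exact ⟨hcvlt a ha, ea⟩
    · exact ⟨hcvlt b hb, eb⟩
  set f := extF mH im parC with hfdef
  have hf : ∀ x ∈ cvH, f x < 192 ∧ φ (f x) = ψ iR * φ x * (ψ iR)⁻¹ := fun x hx =>
    extF_spec (N := 192) (gens := cGens) (F := fun x => ψ iR * φ x * (ψ iR)⁻¹) (by norm_num)
      (by norm_num) tabH.lt (by rw [K.one]; group) K.one
      (fun p hp g hg => by rw [K.mul p hp g (hcvlt g (hcg g hg))]; group)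
      (fun p hp g hg => K.lt p hp g (hcvlt g (hcg g hg))) K.mul hims htree (hckeys x hx)
  have hfcv : ∀ x ∈ cvH, f x ∈ cvH := by
    intro x hx
    obtain ⟨y, hy, e⟩ := himg x hx
    rwa [K.inj y (hcvlt y hy) _ (hf x hx).1 (e.trans (hf x hx).2.symm)] at hy
  have hsub : ∀ x ∈ cvH, ∀ g ∈ cvH, mH x g ∈ cvH := by
    have h : (cvH.all fun x => cvH.all fun g => cvH.contains (mH x g)) = true := by decide +kernel
    simpa using h
  have hqc : ∀ x ∈ cvH, mH (mH iQ x) iQ ∈ cvH := by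
    have h : (cvH.all fun x => cvH.contains (mH (mH iQ x) iQ)) = true := by decide +kernel
    simpa using h
  have hgood : actGood a b = true := by
    simp only [actGood, Bool.and_eq_true, List.all_eq_true, beq_iff_eq, ← himdef, ← hfdef]
    refine ⟨fun x hx g hg => ?_, fun x hx => ?_⟩
    · have hg' := hcg g hg
      refine K.inj _ (hf _ (hsub x hx g hg')).1 _ (K.lt _ (hf x hx).1 _ (hf g hg').1) ?_
      rw [K.mul _ (hf x hx).1 _ (hf g hg').1, (hf _ (hsub x hx g hg')).2, (hf x hx).2, (hf g hg').2,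
        K.mul x (hcvlt x hx) g (hcvlt g hg')]
      group
    have hx' := hcg x hx
    have hx1 := hfcv x hx'
    have hx2 := hfcv _ hx1
    have hxl := hcvlt x hx'
    obtain ⟨hqT, hq0⟩ := hq
    have hql := tH_lt _ hqT
    refine ⟨K.inj _ (hf _ hx2).1 _ hxl ?_, K.inj _ (hf _ hx1).1 _
      (K.lt _ (K.lt _ hql _ (hf _ (hqc x hx')).1) _ hql) ?_⟩
    · rw [(hf _ hx2).2, (hf _ hx1).2, (hf _ hx').2]
      have h3 : ψ iR * (ψ iR * ψ iR) = 1 := by
        rw [← R.mul _ hr _ hr, ← R.mul _ hr _ (tabZ.lt _ hr _ hr), hinvR, R.one]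
      calc _ = ψ iR * (ψ iR * ψ iR) * φ x * (ψ iR * (ψ iR * ψ iR))⁻¹ := by group
        _ = φ x := by rw [h3]; group
    · rw [(hf _ hx1).2, (hf _ hx').2, K.mul _ (K.lt _ hql _ (hf _ (hqc x hx')).1) _ hql,
        K.mul _ hql _ (hf _ (hqc x hx')).1, (hf _ (hqc x hx')).2, K.mul _ (K.lt _ hql _ hxl) _ hql,
        K.mul _ hql _ hxl]
      have hqq : φ iQ * φ iQ = 1 := by rw [← K.mul _ hql _ hql, hq0, K.one]
      have hinv : φ iQ * ψ iR * φ iQ = (ψ iR)⁻¹ := by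
        rw [hT _ hqT, ← R.mul _ (pair_mem _ hqT).2 _ hr,
          ← R.mul _ (tabZ.lt _ (pair_mem _ hqT).2 _ hr) _ (pair_mem _ hqT).2, hq2, hrinv]
      have hqi : (φ iQ)⁻¹ = φ iQ := inv_eq_of_mul_eq_one_right hqq
      have h3 : ψ iR * (ψ iR * ψ iR) = 1 := by
        rw [← R.mul _ hr _ hr, ← R.mul _ hr _ (tabZ.lt _ hr _ hr), hinvR, R.one]
      calc ψ iR * (ψ iR * φ x * (ψ iR)⁻¹) * (ψ iR)⁻¹
          = ψ iR * (ψ iR * ψ iR) * ((ψ iR)⁻¹ * φ x * ψ iR) * (ψ iR * (ψ iR * ψ iR))⁻¹ := by group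
        _ = (φ iQ * ψ iR * φ iQ) * φ x * (φ iQ * ψ iR * φ iQ)⁻¹ := by rw [h3, hinv]; group
        _ = φ iQ * (ψ iR * (φ iQ * φ x * φ iQ) * (ψ iR)⁻¹) * φ iQ := by
          rw [mul_inv_rev, mul_inv_rev, hqi]; group
  have hall := act_check
  simp only [List.all_eq_true, Bool.or_eq_true, Bool.not_eq_true'] at hall
  have hhit := (hall a ha b hb).resolve_left (by rw [hgood]; simp)
  simp only [actHit, Bool.or_eq_true, List.all_eq_true, beq_iff_eq, ← himdef, ← hfdef] at hhit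
  rcases hhit with h | h
  · exact ⟨φ, K, rfl, rfl, hag, fun p hp => by rw [← h p hp, (hf p.1 (hkeys2 p hp).1).2]⟩
  obtain ⟨b0, b1, b2, -⟩ := betaH_ok
  simp only [List.all_eq_true, List.mem_range, Bool.and_eq_true, Nat.blt_eq, Bool.or_eq_true,
    beq_iff_eq, bne_iff_ne] at b1 b2
  have hKrep : Rep 192 mH (Subgroup.centralizer ({φ iC} : Set G)) φ := K
  have Rb := hKrep.comp tabH invH_ok (a := fun i => betaH.getD i 0) (fun i hi => (b1 i hi).1.1) b0
    (fun i hi g hg => (b1 i hi).2 g hg) (fun i hi e => (b1 i hi).1.2.resolve_right fun hne => hne e)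
  have hfix : ∀ i ∈ tH, φ (betaH.getD i 0) = φ i := fun i hi => by rw [b2 i hi]
  have hbC : ∀ x ∈ cvH, betaH.getD x 0 ∈ cvH := by
    have h : (cvH.all fun x => cvH.contains (betaH.getD x 0)) = true := by decide +kernel
    simpa using h
  refine ⟨fun i => φ (betaH.getD i 0), ?_, hfix _ iC_mem_tH.1, hfix _ iC_mem_tH.2.2.1,
    fun p hp => (hfix _ (pairs_lt p hp).1).trans (hag p hp), fun p hp => ?_⟩
  · show Rep 192 mH (Subgroup.centralizer ({φ (betaH.getD iC 0)} : Set G)) _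
    rw [hfix _ iC_mem_tH.1]
    exact Rb
  · show ψ iR * φ (betaH.getD p.1 0) * (ψ iR)⁻¹ = φ (betaH.getD p.2 0)
    rw [← h p hp, (hf _ (hbC _ (hkeys2 p hp).1)).2]

theorem ext_cases (ψ : ℕ → G) (R : Rep 240 mZ K.Cz ψ) (hag : K.Agree ψ) :
    φ iK * ψ iB3 = ψ iA3 * φ iK ∨ φ iK * ψ (invZ.getD iB3 0) = ψ iA3 * φ iK := by
  obtain ⟨hk, hb, ha, hzT, hsT, hkz, hks, hbz', hb3, hchk, hinvB⟩ :
      iK < 192 ∧ iB3 < 240 ∧ iA3 < 240 ∧ iZ' ∈ tH ∧ iS ∈ tH ∧ mH iK iZ' = mH iZ iK ∧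
      mH iK iZ = mH iS iK ∧ mZ iB3 (tOf iZ') = mZ (tOf iZ') iB3 ∧
      (iB3 ≠ 0 ∧ mZ (mZ iB3 iB3) iB3 = 0) ∧
      ((List.range 240).all fun i => mZ (mZ i i) i != 0 || i == 0 ||
        mZ i (tOf iS) != mZ (tOf iS) i || i == iA3 || i == invZ.getD iA3 0) = true ∧
      invZ.getD (invZ.getD iA3 0) 0 = iA3 := by
    decide +kernel
  simp only [List.all_eq_true, List.mem_range, Bool.or_eq_true, bne_iff_ne, beq_iff_eq] at hchk
  have hzl := idx_lt.2.2.1
  have hz'l := tH_lt _ hzT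
  have hsl := tH_lt _ hsT
  have hT : ∀ i ∈ tH, φ i = ψ (tOf i) := fun i hi => hag _ (pair_mem i hi).1
  have e1 : φ iK * φ iZ' * (φ iK)⁻¹ = φ iZ := by
    rw [mul_inv_eq_iff_eq_mul, ← K.mul _ hk _ hz'l, hkz, K.mul _ hzl _ hk]
  have e2 : φ iK * φ iZ * (φ iK)⁻¹ = φ iS := by
    rw [mul_inv_eq_iff_eq_mul, ← K.mul _ hk _ hzl, hks, K.mul _ hsl _ hk]
  have bz : ψ iB3 * φ iZ = φ iZ * ψ iB3 := Subgroup.mem_centralizer_singleton_iff.1 (R.mem _ hb)
  have bz' : ψ iB3 * φ iZ' = φ iZ' * ψ iB3 := by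
    rw [hT _ hzT]; exact (R.comm_iff hb (pair_mem _ hzT).2).2 hbz'
  have hx : φ iK * ψ iB3 * (φ iK)⁻¹ ∈ K.Cz :=
    Subgroup.mem_centralizer_singleton_iff.2 (by rw [← e1]; exact conj_comm bz')
  obtain ⟨i, hi, e⟩ := R.surj _ hx
  have h3 : mZ (mZ i i) i = 0 := by
    refine R.inj _ (R.lt _ (R.lt _ hi _ hi) _ hi) _ R.pos ?_
    rw [R.mul _ (R.lt _ hi _ hi) _ hi, R.mul _ hi _ hi, e, R.one,
      show φ iK * ψ iB3 * (φ iK)⁻¹ * (φ iK * ψ iB3 * (φ iK)⁻¹) * (φ iK * ψ iB3 * (φ iK)⁻¹) =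
        φ iK * (ψ iB3 * ψ iB3 * ψ iB3) * (φ iK)⁻¹ by group,
      ← R.mul _ hb _ hb, ← R.mul _ (R.lt _ hb _ hb) _ hb, hb3.2, R.one]
    group
  have hs : mZ i (tOf iS) = mZ (tOf iS) i := by
    refine (R.comm_iff hi (pair_mem _ hsT).2).1 ?_
    rw [← hT _ hsT, e, ← e2]
    exact conj_comm bz
  obtain ⟨a1, a2, -⟩ := invZ_spec ha
  obtain ⟨b1, b2, -⟩ := invZ_spec hb
  rcases hchk i hi with (((h | rfl) | h) | rfl) | rfl
  · exact absurd h3 h
  · exfalso
    rw [R.one, eq_comm, conj_eq_one_iff] at e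
    exact hb3.1 ((R.eq_one_iff hb).1 e)
  · exact absurd hs h
  · left
    rw [e]; group
  · right
    have : ψ iA3 = φ iK * (ψ iB3)⁻¹ * (φ iK)⁻¹ := by
      rw [show φ iK * (ψ iB3)⁻¹ * (φ iK)⁻¹ = (φ iK * ψ iB3 * (φ iK)⁻¹)⁻¹ by group, ← e,
        R.inv_eq ha a1 a2, inv_inv]
    rw [R.inv_eq hb b1 b2, this]
    group

end Hyp

end CfsgLib.M12Recog
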