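import Cfsg.Agent.Lib.M12Recog.Ext

/-!
Kernel checks for the gluing of the two centralisers.
-/

set_option autoImplicit false

namespace CfsgLib.M12Recog

open CfsgLib.CosetEnum

/-- the common Sylow subgroup, in pairs -/
def tPairs : List (ℕ × ℕ) := tH.zip tZ

/-- the image in the direct product of an index of the common subgroup -/
def tOf (i : ℕ) : ℕ := look tPairs i

/-- the index in the centraliser of an index of the direct product -/
def hOf (j : ℕ) : ℕ := look (tPairs.map fun p => (p.2, p.1)) j

/-- generators of the centraliser of the four-group -/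
def cGens : List ℕ := cvGen ++ cvExt

/-- a homomorphism of the common subgroup that respects the marked elements -/
noncomputable def alphaGood (im : List ℕ) : Bool :=
  let f := extF mZ im parT
  (f iZ == zZ) && tclZ.contains (f 9) && tclZ.contains (f 121) &&
    (tH.all fun x => genT.all fun g => f (mH x g) == mZ (f x) (f g)) &&
    tH.all fun x => tH.all fun y => x == y || f x != f y

/-- realised by one of the automorphisms -/
noncomputable def alphaHit (im : List ℕ) : Bool :=
  autZ.any fun A => tPairs.all fun p => A.getD p.2 0 == extF mZ im parT p.1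

/-- the allowed triples -/
def alphaImages : List (List ℕ) :=
  tZ.flatMap fun a => tZ.flatMap fun b => tZ.map fun c => [a, b, c]

theorem alpha_check : (alphaImages.all fun im => !alphaGood im || alphaHit im) = true := by
  decide +kernel

theorem autZ_ok : (autZ.all fun A => (Nat.beq A.length 240) && (A.getD 0 0 == 0) &&
    ((List.range 240).all fun i => Nat.blt (A.getD i 0) 240 &&
      genZ.all fun g => A.getD (mZ i g) 0 == mZ (A.getD i 0) (A.getD g 0)) &&
    ((List.range 240).all fun i => i == 0 || A.getD i 0 != 0)) = true := by
  decide +kernel

theorem betaH_ok : betaH.getD 0 0 = 0 ∧ ((List.range 192).all fun i =>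
    Nat.blt (betaH.getD i 0) 192 && (i == 0 || betaH.getD i 0 != 0) &&
      genH.all fun g => betaH.getD (mH i g) 0 == mH (betaH.getD i 0) (betaH.getD g 0)) = true ∧
    (tH.all fun i => betaH.getD i 0 == i) = true ∧ betaH.getD iK 0 < 192 := by
  decide +kernel

/-- an action on the centraliser of the four-group -/
noncomputable def actGood (a b : ℕ) : Bool :=
  let im := (cvGen.map fun g => hOf (mZ (mZ iR (tOf g)) (invZ.getD iR 0))) ++ [a, b]
  let f := extF mH im parC
  (cvH.all fun x => cGens.all fun g => f (mH x g) == mH (f x) (f g)) &&
    (cGens.all fun x => f (f (f x)) == x &&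
      f (f x) == mH (mH iQ (f (mH (mH iQ x) iQ))) iQ)

/-- realised -/
noncomputable def actHit (a b : ℕ) : Bool :=
  let im := (cvGen.map fun g => hOf (mZ (mZ iR (tOf g)) (invZ.getD iR 0))) ++ [a, b]
  let f := extF mH im parC
  (phiR.all fun p => f p.1 == p.2) || phiR.all fun p => f (betaH.getD p.1 0) == betaH.getD p.2 0

theorem act_check : (cvH.all fun a => cvH.all fun b => !actGood a b || actHit a b) = true := by
  decide +kernel

end CfsgLib.M12Recog
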