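import Mathlib
import Cfsg.Agent.Lib.CosetEnum.Use

/-!
Groups given by packed multiplication tables: tables generated by some elements, maps determined by
generators, and tables that describe a subgroup.
-/

set_option autoImplicit false

namespace CfsgLib.M12Recog
open CfsgLib.CosetEnum

variable {N : ℕ} {m : ℕ → ℕ → ℕ} {gens : List ℕ}

/-- one pass along a spanning tree: triples are element, parent, number of generator -/
def spanAux (m : ℕ → ℕ → ℕ) (gens : List ℕ) : List (ℕ × ℕ × ℕ) → ℕ → Option ℕ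
  | [], seen => some seen
  | (q, p, k) :: l, seen =>
    if seen.testBit p && Nat.blt k gens.length && (m p (gens.getD k 0) == q) then
      spanAux m gens l (seen ||| 2 ^ q) else none

/-- all entries are reached -/
def spanOK (N : ℕ) (m : ℕ → ℕ → ℕ) (gens : List ℕ) (par : List (ℕ × ℕ × ℕ)) : Bool :=
  spanAux m gens par 1 == some (2 ^ N - 1)

theorem spanAux_spec (P : ℕ → Prop) (h : ∀ p, P p → ∀ g ∈ gens, P (m p g)) :
    ∀ (l : List (ℕ × ℕ × ℕ)) (seen r : ℕ), (∀ i, seen.testBit i = true → P i) →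
      spanAux m gens l seen = some r → ∀ i, r.testBit i = true → P i := by
  intro l
  induction l with
  | nil =>
    intro seen r hs hr
    simp only [spanAux, Option.some.injEq] at hr
    exact hr ▸ hs
  | cons a l ih =>
    obtain ⟨q, p, k⟩ := a
    intro seen r hs hr
    simp only [spanAux] at hr
    split_ifs at hr with hc
    simp only [Bool.and_eq_true, Nat.blt_eq, beq_iff_eq] at hc
    obtain ⟨⟨h1, h2⟩, h3⟩ := hc
    refine ih _ r (fun i hi => ?_) hr
    rw [Nat.testBit_or, Bool.or_eq_true] at hi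
    rcases hi with hi | hi
    · exact hs i hi
    · rw [Nat.testBit_two_pow, decide_eq_true_eq] at hi
      subst hi
      rw [← h3, List.getD_eq_getElem _ _ h2]
      exact h p (hs p h1) _ (List.getElem_mem h2)

theorem span_induction {par : List (ℕ × ℕ × ℕ)} (hs : spanOK N m gens par = true) (P : ℕ → Prop)
    (h0 : P 0) (h : ∀ p, P p → ∀ g ∈ gens, P (m p g)) : ∀ i < N, P i := by
  intro i hi
  rw [spanOK, beq_iff_eq] at hs
  refine spanAux_spec P h _ _ _ (fun j hj => ?_) hs i ?_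
  · rw [show (1 : ℕ) = 2 ^ 0 from rfl, Nat.testBit_two_pow, decide_eq_true_eq] at hj
    exact hj ▸ h0
  · rw [Nat.testBit_two_pow_sub_one, decide_eq_true hi]

/-- the conditions on a table -/
def tabOK (N : ℕ) (m : ℕ → ℕ → ℕ) (gens : List ℕ) : Bool :=
  (gens.all fun g => Nat.blt g N) &&
  (List.range N).all fun i => (m i 0 == i) && (m 0 i == i) &&
    (List.range N).all fun j => Nat.blt (m i j) N &&
      gens.all fun g => m i (m j g) == m (m i j) g

/-- inverse table -/
def invOK (N : ℕ) (m : ℕ → ℕ → ℕ) (inv : List ℕ) : Bool :=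
  (List.range N).all fun i => Nat.blt (inv.getD i 0) N && (m i (inv.getD i 0) == 0) &&
    (m (inv.getD i 0) i == 0)

/-- A table together with the checks. -/
structure IsTab (N : ℕ) (m : ℕ → ℕ → ℕ) (gens : List ℕ) : Prop where
  pos : 0 < N
  gen_lt : ∀ g ∈ gens, g < N
  one_right : ∀ i < N, m i 0 = i
  one_left : ∀ i < N, m 0 i = i
  lt : ∀ i < N, ∀ j < N, m i j < N
  assoc_gen : ∀ i < N, ∀ j < N, ∀ g ∈ gens, m i (m j g) = m (m i j) g
  span : ∃ par, spanOK N m gens par = true

theorem isTab_of {par : List (ℕ × ℕ × ℕ)} (hN : 0 < N) (h : tabOK N m gens = true)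
    (hs : spanOK N m gens par = true) : IsTab N m gens := by
  simp only [tabOK, Bool.and_eq_true, List.all_eq_true, List.mem_range, Nat.blt_eq,
    beq_iff_eq] at h
  obtain ⟨hg, h⟩ := h
  exact ⟨hN, hg, fun i hi => (h i hi).1.1, fun i hi => (h i hi).1.2,
    fun i hi j hj => ((h i hi).2 j hj).1, fun i hi j hj g hgm => ((h i hi).2 j hj).2 g hgm, par, hs⟩

theorem IsTab.induction (T : IsTab N m gens) (P : ℕ → Prop) (h0 : P 0)
    (h : ∀ p < N, P p → ∀ g ∈ gens, P (m p g)) : ∀ i < N, P i := by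
  obtain ⟨par, hs⟩ := T.span
  have := span_induction hs (fun i => i < N ∧ P i) ⟨T.pos, h0⟩
    (fun p hp g hg => ⟨T.lt p hp.1 g (T.gen_lt g hg), h p hp.1 hp.2 g hg⟩)
  exact fun i hi => (this i hi).2

theorem IsTab.assoc (T : IsTab N m gens) {i j k : ℕ} (hi : i < N) (hj : j < N) (hk : k < N) :
    m i (m j k) = m (m i j) k := by
  revert i j
  refine T.induction (fun k => ∀ {i j : ℕ}, i < N → j < N → m i (m j k) = m (m i j) k)
    (fun {i j} hi hj => ?_) (fun p hp ih g hg {i j} hi hj => ?_) k hk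
  · rw [T.one_right j hj, T.one_right _ (T.lt i hi j hj)]
  · rw [T.assoc_gen j hj p hp g hg, T.assoc_gen i hi _ (T.lt j hj p hp) g hg, ih hi hj,
      ← T.assoc_gen _ (T.lt i hi j hj) p hp g hg]

/-- A map that respects multiplication by the generators respects multiplication. -/
theorem IsTab.map_mul (T : IsTab N m gens) {K : Type*} [Group K] {f : ℕ → K} (h0 : f 0 = 1)
    (hf : ∀ i < N, ∀ g ∈ gens, f (m i g) = f i * f g) :
    ∀ i < N, ∀ j < N, f (m i j) = f i * f j := by
  intro i hi j hj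
  revert i
  refine T.induction (fun j => ∀ i, i < N → f (m i j) = f i * f j)
    (fun i hi => by rw [T.one_right i hi, h0, mul_one]) (fun p hp ih g hg i hi => ?_) j hj
  rw [T.assoc_gen i hi p hp g hg, hf _ (T.lt i hi p hp) g hg, hf p hp g hg, ih i hi, mul_assoc]

/-- The same with values in another table. -/
theorem IsTab.map_mul' (T : IsTab N m gens) {N' : ℕ} {m' : ℕ → ℕ → ℕ} {gens' : List ℕ}
    (T' : IsTab N' m' gens') {f : ℕ → ℕ} (hlt : ∀ i < N, f i < N') (h0 : f 0 = 0)
    (hf : ∀ i < N, ∀ g ∈ gens, f (m i g) = m' (f i) (f g)) :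
    ∀ i < N, ∀ j < N, f (m i j) = m' (f i) (f j) := by
  intro i hi j hj
  revert i
  refine T.induction (fun j => ∀ i, i < N → f (m i j) = m' (f i) (f j))
    (fun i hi => by rw [T.one_right i hi, h0, T'.one_right _ (hlt i hi)]) (fun p hp ih g hg i hi => ?_)
    j hj
  rw [T.assoc_gen i hi p hp g hg, hf _ (T.lt i hi p hp) g hg, hf p hp g hg, ih i hi,
    T'.assoc (hlt i hi) (hlt p hp) (hlt g (T.gen_lt g hg))]

/-- Two maps that agree on the generators agree. -/
theorem IsTab.map_ext (T : IsTab N m gens) {K : Type*} [Group K] {f f' : ℕ → K}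
    (hf : ∀ i < N, ∀ j < N, f (m i j) = f i * f j) (hf' : ∀ i < N, ∀ j < N, f' (m i j) = f' i * f' j)
    (h : ∀ g ∈ gens, f g = f' g) : ∀ i < N, f i = f' i := by
  have one : ∀ {u : ℕ → K}, (∀ i < N, ∀ j < N, u (m i j) = u i * u j) → u 0 = 1 := by
    intro u hu
    have := hu 0 T.pos 0 T.pos
    rw [T.one_right 0 T.pos] at this
    simpa using this
  refine T.induction (fun i => f i = f' i) (by rw [one hf, one hf']) (fun p hp ih g hg => ?_)
  rw [hf p hp g (T.gen_lt g hg), hf' p hp g (T.gen_lt g hg), ih, h g hg]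

/-- power of an index -/
def pw (m : ℕ → ℕ → ℕ) (i : ℕ) : ℕ → ℕ
  | 0 => 0
  | k + 1 => m (pw m i k) i

/-- product of a list of indices -/
def prd (m : ℕ → ℕ → ℕ) : List ℕ → ℕ
  | [] => 0
  | i :: l => m i (prd m l)

/-- A table describing a subgroup. -/
structure Rep (N : ℕ) (m : ℕ → ℕ → ℕ) {G : Type*} [Group G] (H : Subgroup G) (f : ℕ → G) : Prop where
  pos : 0 < N
  lt : ∀ i < N, ∀ j < N, m i j < N
  mem : ∀ i < N, f i ∈ H
  surj : ∀ x ∈ H, ∃ i < N, f i = x
  inj : ∀ i < N, ∀ j < N, f i = f j → i = j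
  mul : ∀ i < N, ∀ j < N, f (m i j) = f i * f j
  one : f 0 = 1

namespace Rep

variable {G : Type*} [Group G] {H : Subgroup G} {f : ℕ → G} (R : Rep N m H f)
include R

theorem eq_iff {i j : ℕ} (hi : i < N) (hj : j < N) : f i = f j ↔ i = j :=
  ⟨R.inj i hi j hj, fun h => h ▸ rfl⟩

theorem eq_one_iff {i : ℕ} (hi : i < N) : f i = 1 ↔ i = 0 := by
  rw [← R.one, R.eq_iff hi R.pos]

theorem comm_iff {i j : ℕ} (hi : i < N) (hj : j < N) : f i * f j = f j * f i ↔ m i j = m j i := by
  rw [← R.mul i hi j hj, ← R.mul j hj i hi, R.eq_iff (R.lt i hi j hj) (R.lt j hj i hi)]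

theorem inv_eq {i j : ℕ} (hi : i < N) (hj : j < N) (h : m i j = 0) : f j = (f i)⁻¹ := by
  refine eq_inv_of_mul_eq_one_right ?_
  rw [← R.mul i hi j hj, h, R.one]

theorem pw_lt {i : ℕ} (hi : i < N) (k : ℕ) : pw m i k < N := by
  induction k with
  | zero => exact R.pos
  | succ k ih => exact R.lt _ ih i hi

theorem pow_eq {i : ℕ} (hi : i < N) (k : ℕ) : f (pw m i k) = f i ^ k := by
  induction k with
  | zero => rw [pow_zero]; exact R.one
  | succ k ih => rw [pw, R.mul _ (R.pw_lt hi k) i hi, ih, pow_succ]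

theorem prd_lt {l : List ℕ} (h : ∀ i ∈ l, i < N) : prd m l < N := by
  induction l with
  | nil => exact R.pos
  | cons i l ih =>
    rw [List.forall_mem_cons] at h
    exact R.lt i h.1 _ (ih h.2)

theorem prd_eq {l : List ℕ} (h : ∀ i ∈ l, i < N) : f (prd m l) = (l.map f).prod := by
  induction l with
  | nil => exact R.one
  | cons i l ih =>
    rw [List.forall_mem_cons] at h
    rw [prd, R.mul i h.1 _ (R.prd_lt h.2), List.map_cons, List.prod_cons, ih h.2]

theorem card_pred (P : G → Prop) (p : ℕ → Bool) (hp : ∀ i < N, (P (f i) ↔ p i = true)) :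
    Nat.card {x : G // x ∈ H ∧ P x} = ((List.range N).filter p).length := by
  classical
  rw [← List.toFinset_card_of_nodup (List.nodup_range.filter _), List.toFinset_filter,
    List.toFinset_range]
  rw [← Nat.card_eq_finsetCard]
  have hlt : ∀ i : {x // x ∈ (Finset.range N).filter fun x => p x = true}, (i : ℕ) < N :=
    fun i => Finset.mem_range.1 (Finset.mem_filter.1 i.2).1
  refine (Nat.card_eq_of_bijective (fun i => ⟨f i.1, R.mem _ (hlt i),
    (hp _ (hlt i)).2 (Finset.mem_filter.1 i.2).2⟩) ⟨?_, ?_⟩).symm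
  · intro i j h
    exact Subtype.ext (R.inj _ (hlt i) _ (hlt j) (Subtype.ext_iff.1 h))
  · rintro ⟨x, hx, hP⟩
    obtain ⟨i, hi, rfl⟩ := R.surj x hx
    exact ⟨⟨i, Finset.mem_filter.2 ⟨Finset.mem_range.2 hi, (hp i hi).1 hP⟩⟩, rfl⟩

theorem card_eq : Nat.card H = N := by
  have := R.card_pred (fun _ => True) (fun _ => true) (fun i _ => by simp)
  rw [List.filter_true, List.length_range] at this
  rw [← this]
  exact Nat.card_congr (Equiv.subtypeEquivRight fun x => by simp)

/-- the subgroup given by a list of indices -/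
def sub (_ : Rep N m H f) (l : List ℕ) : Subgroup G :=
  Subgroup.closure {x | ∃ i ∈ l, f i = x}

/-- closure of a list under multiplication -/
def _root_.CfsgLib.M12Recog.subOK (N : ℕ) (m : ℕ → ℕ → ℕ) (l : List ℕ) : Bool :=
  l.contains 0 && (l.all fun i => Nat.blt i N && (l.any fun j => m i j == 0) &&
    l.all fun j => l.contains (m i j))

theorem mem_sub {l : List ℕ} (hl : subOK N m l = true) {x : G} :
    x ∈ R.sub l ↔ ∃ i ∈ l, f i = x := by
  simp only [subOK, Bool.and_eq_true, List.all_eq_true, List.any_eq_true, Nat.blt_eq,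
    List.contains_iff_mem, beq_iff_eq] at hl
  obtain ⟨h0, hl⟩ := hl
  refine ⟨fun h => ?_, fun ⟨i, hi, e⟩ => Subgroup.subset_closure ⟨i, hi, e⟩⟩
  induction h using Subgroup.closure_induction with
  | mem x hx => exact hx
  | one => exact ⟨0, h0, R.one⟩
  | mul x y _ _ hx hy =>
    obtain ⟨i, hi, rfl⟩ := hx
    obtain ⟨j, hj, rfl⟩ := hy
    exact ⟨_, (hl i hi).2 j hj, R.mul i (hl i hi).1.1 j (hl j hj).1.1⟩
  | inv x _ hx =>
    obtain ⟨i, hi, rfl⟩ := hx
    obtain ⟨j, hj, e⟩ := (hl i hi).1.2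
    exact ⟨j, hj, R.inv_eq (hl i hi).1.1 (hl j hj).1.1 e⟩

theorem card_sub {l : List ℕ} (hl : subOK N m l = true) (hd : l.Nodup) :
    Nat.card (R.sub l) = l.length := by
  classical
  have hlt : ∀ i ∈ l, i < N := by
    simp only [subOK, Bool.and_eq_true, List.all_eq_true, Nat.blt_eq] at hl
    exact fun i hi => (hl.2 i hi).1.1
  rw [← List.toFinset_card_of_nodup hd, ← Nat.card_eq_finsetCard]
  refine (Nat.card_eq_of_bijective (fun i => ⟨f i.1, (R.mem_sub hl).2 ⟨i.1, List.mem_toFinset.1 i.2, rfl⟩⟩)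
    ⟨?_, ?_⟩).symm
  · intro i j h
    exact Subtype.ext (R.inj _ (hlt _ (List.mem_toFinset.1 i.2)) _ (hlt _ (List.mem_toFinset.1 j.2))
      (Subtype.ext_iff.1 h))
  · rintro ⟨x, hx⟩
    obtain ⟨i, hi, rfl⟩ := (R.mem_sub hl).1 hx
    exact ⟨⟨i, List.mem_toFinset.2 hi⟩, rfl⟩

theorem sub_le {l : List ℕ} (hl : subOK N m l = true) : R.sub l ≤ H := by
  intro x hx
  obtain ⟨i, hi, rfl⟩ := (R.mem_sub hl).1 hx
  simp only [subOK, Bool.and_eq_true, List.all_eq_true, Nat.blt_eq] at hl
  exact R.mem i (hl.2 i hi).1.1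

end Rep

end CfsgLib.M12Recog
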