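import Cfsg.Prelude.Def_Spor_Mathieu
import Cfsg.Prelude.Def_SporadicB
import Cfsg.Agent.Lib.Golay.Mult.TwelveCover
import Cfsg.Agent.Lib.M12Recog.Tab
import Cfsg.Agent.Lib.M12Recog.Tables

/-!
The centraliser of a 2-central involution of M12 as a table.
-/

set_option autoImplicit false
set_option linter.style.haveILetI false

namespace CfsgLib.M12Recog

open CfsgLib.CosetEnum CfsgLib.Golay CfsgLib.Golay.Mult CfsgLib.Golay.SylowTwo
open scoped Pointwise

attribute [local irreducible] idP toPerm mulP validP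

/-- multiplication of indices in the centraliser -/
noncomputable def mH (i j : ℕ) : ℕ := tblH.at' 8 (i * 192 + j)

/-- multiplication of indices in the direct product -/
noncomputable def mZ (i j : ℕ) : ℕ := tblZ.at' 8 (i * 240 + j)

theorem tabH : IsTab 192 mH genH :=
  isTab_of (par := parH) (by norm_num) (by decide +kernel) (by decide +kernel)

theorem tabZ : IsTab 240 mZ genZ :=
  isTab_of (par := parZ) (by norm_num) (by decide +kernel) (by decide +kernel)

theorem invH_ok : invOK 192 mH invH = true := by decide +kernel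

theorem invH_spec {i : ℕ} (hi : i < 192) :
    invH.getD i 0 < 192 ∧ mH i (invH.getD i 0) = 0 ∧ mH (invH.getD i 0) i = 0 := by
  have h := invH_ok
  simp only [invOK, List.all_eq_true, List.mem_range, Bool.and_eq_true, Nat.blt_eq, beq_iff_eq] at h
  exact ⟨(h i hi).1.1, (h i hi).1.2, (h i hi).2⟩

/-- the permutation of an index -/
def pH (i : ℕ) : ℕ := permH.getD i 0

theorem permH_ok : ((List.range 192).all fun i => Twelve.inG (pH i) &&
    (Nat.beq i 0 == eqP (pH i) idP) && eqP (mulP (pH i) (pH iC)) (mulP (pH iC) (pH i)) &&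
    genH.all fun g => eqP (pH (mH i g)) (mulP (pH i) (pH g))) = true := by decide +kernel

/-- the element of M12 of an index -/
noncomputable def f0 (i : ℕ) : ↥Cfsg.Spor.M12 := lift Cfsg.Spor.M12 (pH i)

theorem pH_inG {i : ℕ} (hi : i < 192) : Twelve.inG (pH i) = true := by
  have h := permH_ok
  simp only [List.all_eq_true, List.mem_range, Bool.and_eq_true] at h
  exact (h i hi).1.1.1

theorem f0_val {i : ℕ} (hi : i < 192) :
    (f0 i : Equiv.Perm Cfsg.GolayPt) = toPerm (pH i) := lift_val Twelve.hG (pH_inG hi)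

theorem pH_valid {i : ℕ} (hi : i < 192) : validP (pH i) = true := (Twelve.hG _ (pH_inG hi)).1

theorem f0_eq_one_iff {i : ℕ} (hi : i < 192) : f0 i = 1 ↔ i = 0 := by
  have h := permH_ok
  simp only [List.all_eq_true, List.mem_range, Bool.and_eq_true, beq_iff_eq] at h
  have hb := (h i hi).1.1.2
  constructor
  · intro he
    have e : toPerm (pH i) = toPerm idP := by
      rw [← f0_val hi, he, toPerm_idP]; rfl
    rw [eqP_of_toPerm_eq (pH_valid hi) validP_idP e] at hb
    exact Nat.eq_of_beq_eq_true hb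
  · rintro rfl
    refine Subtype.ext ?_
    rw [f0_val (by norm_num), OneMemClass.coe_one, ← toPerm_idP]
    exact toPerm_eq_of_eqP (pH_valid (by norm_num)) validP_idP hb.symm

theorem f0_mul : ∀ i < 192, ∀ j < 192, f0 (mH i j) = f0 i * f0 j := by
  have h := permH_ok
  simp only [List.all_eq_true, List.mem_range, Bool.and_eq_true] at h
  refine tabH.map_mul ((f0_eq_one_iff (by norm_num)).2 rfl) fun i hi g hg => ?_
  have hgl := tabH.gen_lt g hg
  have hm := tabH.lt i hi g hgl
  refine Subtype.ext ?_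
  rw [f0_val hm, Subgroup.coe_mul, f0_val hi, f0_val hgl, ← toPerm_mulP (pH_valid hi) (pH_valid hgl)]
  exact toPerm_eq_of_eqP (pH_valid hm) (validP_mulP (pH_valid hi) (pH_valid hgl)) ((h i hi).2 g hg)

theorem f0_comm {i : ℕ} (hi : i < 192) : f0 i * f0 iC = f0 iC * f0 i := by
  have h := permH_ok
  simp only [List.all_eq_true, List.mem_range, Bool.and_eq_true] at h
  have hC : iC < 192 := by decide
  refine Subtype.ext ?_
  rw [Subgroup.coe_mul, Subgroup.coe_mul, f0_val hi, f0_val hC,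
    ← toPerm_mulP (pH_valid hi) (pH_valid hC), ← toPerm_mulP (pH_valid hC) (pH_valid hi)]
  exact toPerm_eq_of_eqP (validP_mulP (pH_valid hi) (pH_valid hC))
    (validP_mulP (pH_valid hC) (pH_valid hi)) (h i hi).1.2

theorem f0_inj : ∀ i < 192, ∀ j < 192, f0 i = f0 j → i = j := by
  intro i hi j hj he
  obtain ⟨h1, h2, h3⟩ := invH_spec hi
  have e : f0 (mH (invH.getD i 0) j) = 1 := by
    rw [f0_mul _ h1 j hj, ← he, ← f0_mul _ h1 i hi, h3, (f0_eq_one_iff (by norm_num)).2 rfl]
  have e' := (f0_eq_one_iff (tabH.lt _ h1 j hj)).1 e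
  have := tabH.assoc hi h1 hj
  rw [e', h2, tabH.one_right i hi, tabH.one_left j hj] at this
  exact this

/-- the dodecad -/
def dodN : ℕ := 340831

/-- the four fixed points and one moved point -/
def fivePts : List ℕ := [2, 3, 8, 12, 0]

theorem five_ok : (List.range 24).all (fun i => !dodN.testBit i || (ap (pH iC) i == i) == [2, 3, 8, 12].contains i)
      = true := by decide +kernel

/-- the five points as a function -/
def fivePt (i : Fin 5) : Cfsg.GolayPt := pt (fivePts.getD i 0)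

/-- the fixed points -/
def fixPts : Finset Cfsg.GolayPt := ([2, 3, 8, 12].map pt).toFinset

theorem fivePt_facts : Function.Injective fivePt ∧ (∀ i, fivePt i ∈ dec dodN) ∧
    (∀ i : Fin 4, fivePt i.castSucc ∈ fixPts) ∧ fivePt 4 ∈ dec dodN \ fixPts ∧
    fixPts.card = 4 ∧ (dec dodN \ fixPts).card = 8 := by
  unfold Function.Injective
  decide +kernel

theorem dodN_mem : dec dodN ∈ Cfsg.dodecads :=
  ⟨⟨wd dodN, wd_mem_of_inC (by decide +kernel), support_wd _⟩, by
    rw [card_dec_eq_pop]; decide +kernel⟩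

theorem m12_apply_mem {g : Equiv.Perm Cfsg.GolayPt} (hg : g ∈ Cfsg.Spor.M12) {p : Cfsg.GolayPt}
    (hp : p ∈ dec dodN) : g p ∈ dec dodN := by
  have h := MulAction.mem_stabilizer_iff.1 (Subgroup.mem_inf.1 hg).2
  rw [Twelve.squareDodecad_dec] at h
  change g • dec dodN = dec dodN at h
  rw [← h]
  exact Finset.smul_mem_smul_finset hp

/-- an element of M12 as an element of the stabiliser of the dodecad -/
noncomputable def toStab (g : ↥Cfsg.Spor.M12) : MulAction.stabilizer Cfsg.M24 (dec dodN) :=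
  ⟨⟨g, (Subgroup.mem_inf.1 g.2).1⟩, MulAction.mem_stabilizer_iff.2 (by
    have h := MulAction.mem_stabilizer_iff.1 (Subgroup.mem_inf.1 g.2).2
    rw [Twelve.squareDodecad_dec] at h
    exact h)⟩

theorem card_cent_le :
    Nat.card (Subgroup.centralizer ({f0 iC} : Set ↥Cfsg.Spor.M12)) ≤ 192 := by
  classical
  have hfix := five_ok
  simp only [List.all_eq_true, List.mem_range, Bool.or_eq_true, Bool.not_eq_true', beq_iff_eq]
    at hfix
  have hC : iC < 192 := by decide
  set z : Equiv.Perm Cfsg.GolayPt := toPerm (pH iC) with hz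
  set F : Finset Cfsg.GolayPt := fixPts with hF
  set E : Finset Cfsg.GolayPt := dec dodN \ F with hE
  have hFiff : ∀ p ∈ dec dodN, (z p = p ↔ p ∈ F) := by
    intro p hp
    rw [mem_dec] at hp
    have h := hfix (idx p) (idx_lt p)
    rw [hp] at h
    simp only [Bool.true_eq_false, false_or] at h
    rw [← idx_injective.eq_iff, hz, idx_toPerm (pH_valid hC)]
    have h' : (ap (pH iC) (idx p) == idx p) = true ↔ [2, 3, 8, 12].contains (idx p) = true := by rw [h]
    rw [beq_iff_eq, List.contains_iff_mem] at h'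
    rw [h', hF, fixPts, List.mem_toFinset, List.mem_map]
    refine ⟨fun hh => ⟨_, hh, pt_idx p⟩, fun ⟨i, hi, e⟩ => ?_⟩
    rw [← e, idx_pt i (by
      simp only [List.mem_cons, List.not_mem_nil, or_false] at hi
      rcases hi with rfl | rfl | rfl | rfl <;> norm_num)]
    exact hi
  let x : Fin 5 ↪ Cfsg.GolayPt := ⟨fivePt, fivePt_facts.1⟩
  have hx : ∀ i, x i ∈ dec dodN := fivePt_facts.2.1
  have hxF : ∀ i : Fin 4, x i.castSucc ∈ F := fivePt_facts.2.2.1
  have hxE : x 4 ∈ E := fivePt_facts.2.2.2.1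
  set C := Subgroup.centralizer ({f0 iC} : Set ↥Cfsg.Spor.M12)
  have key : ∀ g : C, ∀ p ∈ dec dodN,
      (((g : ↥Cfsg.Spor.M12) : Equiv.Perm Cfsg.GolayPt) p ∈ F ↔ p ∈ F) := by
    intro g p hp
    have h : (g : ↥Cfsg.Spor.M12) * f0 iC = f0 iC * (g : ↥Cfsg.Spor.M12) :=
      Subgroup.mem_centralizer_singleton_iff.1 g.2
    have h2 := congrArg (fun y : ↥Cfsg.Spor.M12 => (y : Equiv.Perm Cfsg.GolayPt) p) h
    simp only [Subgroup.coe_mul, Equiv.Perm.mul_apply, f0_val hC] at h2
    rw [← hFiff _ (m12_apply_mem (g : ↥Cfsg.Spor.M12).2 hp), ← hFiff p hp, ← hz] at *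
    constructor
    · intro e
      rw [e] at h2
      exact (Equiv.injective _) h2
    · intro e
      rw [e] at h2
      exact h2.symm
  let Φ : C → (Fin 4 ↪ F) × E := fun g =>
    (⟨fun i => ⟨((g : ↥Cfsg.Spor.M12) : Equiv.Perm Cfsg.GolayPt) (x i.castSucc),
        (key g _ (hx _)).2 (hxF i)⟩,
      fun i j h => Fin.castSucc_injective _ (x.injective
        ((Equiv.injective _) (Subtype.ext_iff.1 h)))⟩,
     ⟨((g : ↥Cfsg.Spor.M12) : Equiv.Perm Cfsg.GolayPt) (x 4), Finset.mem_sdiff.2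
        ⟨m12_apply_mem (g : ↥Cfsg.Spor.M12).2 (hx 4),
          fun h => (Finset.mem_sdiff.1 hxE).2 ((key g _ (hx 4)).1 h)⟩⟩)
  have hΦ : Function.Injective Φ := by
    intro g g' h
    simp only [Φ, Prod.mk.injEq, Subtype.mk.injEq] at h
    obtain ⟨h1, h2⟩ := h
    have hall : ∀ i, ((g : ↥Cfsg.Spor.M12) : Equiv.Perm Cfsg.GolayPt) (x i) =
        ((g' : ↥Cfsg.Spor.M12) : Equiv.Perm Cfsg.GolayPt) (x i) := by
      intro i
      induction i using Fin.lastCases with
      | last => exact h2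
      | cast i => exact Subtype.ext_iff.1 (congrFun (congrArg DFunLike.coe h1) i)
    let y : Fin 5 ↪ Cfsg.GolayPt :=
      ⟨fun i => ((g : ↥Cfsg.Spor.M12) : Equiv.Perm Cfsg.GolayPt) (x i),
        fun i j h => x.injective ((Equiv.injective _) h)⟩
    obtain ⟨k, -, hu⟩ := sharply_five dodN_mem x y hx fun i => m12_apply_mem (g : ↥Cfsg.Spor.M12).2 (hx i)
    have e := (hu (toStab g) fun i => rfl).trans (hu (toStab g') fun i => (hall i).symm).symm
    exact Subtype.ext (Subtype.ext (congrArg (fun s : MulAction.stabilizer Cfsg.M24 (dec dodN) =>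
      ((s : Cfsg.M24) : Equiv.Perm Cfsg.GolayPt)) e))
  refine (Nat.card_le_card_of_injective Φ hΦ).trans (le_of_eq ?_)
  rw [Nat.card_prod, Nat.card_eq_fintype_card, Fintype.card_embedding_eq, Nat.card_eq_fintype_card,
    Fintype.card_coe, Fintype.card_coe, Fintype.card_fin]
  have hFc : F.card = 4 := fivePt_facts.2.2.2.2.1
  have hEc : E.card = 8 := fivePt_facts.2.2.2.2.2
  rw [hFc, hEc]
  rfl

theorem rep0 : Rep 192 mH (Subgroup.centralizer ({f0 iC} : Set ↥Cfsg.Spor.M12)) f0 := by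
  classical
  have hmem : ∀ i < 192, f0 i ∈ Subgroup.centralizer ({f0 iC} : Set ↥Cfsg.Spor.M12) := fun i hi =>
    Subgroup.mem_centralizer_singleton_iff.2 (f0_comm hi)
  let F : Fin 192 → Subgroup.centralizer ({f0 iC} : Set ↥Cfsg.Spor.M12) := fun i =>
    ⟨f0 i, hmem i i.2⟩
  have hF : Function.Bijective F := by
    refine (Fintype.bijective_iff_injective_and_card F).2
      ⟨fun i j h => Fin.ext (f0_inj i i.2 j j.2 (Subtype.ext_iff.1 h)), ?_⟩
    refine le_antisymm ?_ ?_
    · exact Fintype.card_le_of_injective F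
        fun i j h => Fin.ext (f0_inj i i.2 j j.2 (Subtype.ext_iff.1 h))
    · rw [Fintype.card_fin, ← Nat.card_eq_fintype_card]
      exact card_cent_le
  exact ⟨by norm_num, tabH.lt, hmem, fun x hx => by
    obtain ⟨i, hi⟩ := hF.2 ⟨x, hx⟩
    exact ⟨i, i.2, Subtype.ext_iff.1 hi⟩, f0_inj, f0_mul, (f0_eq_one_iff (by norm_num)).2 rfl⟩

theorem sylH_ok : subOK 192 mH sylH = true ∧ sylH.Nodup ∧ sylH.length = 64 ∧
    sylH.all (fun i => mH i iC == mH iC i) = true ∧
    sylH.all (fun i => i == 0 || i == iC || sylH.any fun j => mH i j != mH j i) = true ∧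
    sylH.contains iC = true := by
  decide +kernel

theorem iC_lt : iC < 192 := by decide

/-- Every 2-central involution of M12 is conjugate to the chosen one. -/
theorem isConj_iC {u : ↥Cfsg.Spor.M12} (hu : Cfsg.IsTwoCentralInvolution u) : IsConj u (f0 iC) := by
  classical
  haveI := Fact.mk Nat.prime_two
  obtain ⟨hu2, P, huP, hcen⟩ := hu
  obtain ⟨hs, hnd, hlen, -, hctr, -⟩ := sylH_ok
  have hS : Nat.card (rep0.sub sylH) = 64 := by rw [rep0.card_sub hs hnd, hlen]
  have h64 : 2 ^ (Nat.card ↥Cfsg.Spor.M12).factorization 2 = 64 := by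
    rw [Twelve.card_twelve]
    have h : (95040 : ℕ) = 2 ^ 6 * 1485 := by norm_num
    rw [h, Nat.factorization_mul (by norm_num) (by norm_num), Finsupp.add_apply,
      Nat.factorization_pow, Finsupp.smul_apply, Nat.Prime.factorization_self Nat.prime_two,
      Nat.factorization_eq_zero_of_not_dvd (show ¬ 2 ∣ 1485 by norm_num)]
    rfl
  let Q : Sylow 2 ↥Cfsg.Spor.M12 := Sylow.ofCard (rep0.sub sylH) (by rw [hS, h64])
  obtain ⟨g, hg⟩ := MulAction.exists_smul_eq ↥Cfsg.Spor.M12 P Q
  have hmem : ∀ x, x ∈ P → g * x * g⁻¹ ∈ rep0.sub sylH := by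
    intro x hx
    have : g * x * g⁻¹ ∈ (g • P : Sylow 2 ↥Cfsg.Spor.M12) := ⟨x, hx, rfl⟩
    rw [hg] at this
    exact this
  have hback : ∀ y ∈ rep0.sub sylH, ∃ x ∈ P, g * x * g⁻¹ = y := by
    intro y hy
    have : y ∈ (g • P : Sylow 2 ↥Cfsg.Spor.M12) := by rw [hg]; exact hy
    obtain ⟨x, hx, e⟩ := this
    exact ⟨x, hx, e⟩
  obtain ⟨i, hi, he⟩ := (rep0.mem_sub hs).1 (hmem u huP)
  simp only [subOK, Bool.and_eq_true, List.all_eq_true, Nat.blt_eq] at hs
  simp only [List.all_eq_true, Bool.or_eq_true, beq_iff_eq, List.any_eq_true, bne_iff_ne] at hctr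
  have hil := (hs.2 i hi).1.1
  rcases hctr i hi with (rfl | rfl) | ⟨j, hj, hne⟩
  · rw [rep0.one, eq_comm, conj_eq_one_iff] at he
    rw [he, orderOf_one] at hu2
    exact absurd hu2 (by norm_num)
  · exact isConj_iff.2 ⟨g, he.symm⟩
  · exfalso
    apply hne
    have hjl := (hs.2 j hj).1.1
    obtain ⟨x, hx, ej⟩ := hback (f0 j) (Subgroup.subset_closure ⟨j, hj, rfl⟩)
    rw [← rep0.comm_iff hil hjl, he, ← ej]
    have := hcen x hx
    rw [show g * u * g⁻¹ * (g * x * g⁻¹) = g * (u * x) * g⁻¹ by group, ← this]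
    group

/-- A group with the centraliser of an involution isomorphic to that of M12 has it as the table. -/
theorem exists_rep {G : Type*} [Group G] {u : ↥Cfsg.Spor.M12}
    (hu : Cfsg.IsTwoCentralInvolution u) {t : G} (ht : orderOf t = 2)
    (e : ↥(Subgroup.centralizer ({t} : Set G)) ≃*
      ↥(Subgroup.centralizer ({u} : Set ↥Cfsg.Spor.M12))) :
    ∃ φ : ℕ → G, Rep 192 mH (Subgroup.centralizer ({t} : Set G)) φ ∧ φ iC = t := by
  obtain ⟨g, hg⟩ := isConj_iff.1 (isConj_iC hu)
  have hg' : u = g⁻¹ * f0 iC * g := by rw [← hg]; group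
  have hmemu : ∀ i < 192, g⁻¹ * f0 i * g ∈ Subgroup.centralizer ({u} : Set ↥Cfsg.Spor.M12) := by
    intro i hi
    rw [Subgroup.mem_centralizer_singleton_iff, hg',
      show g⁻¹ * f0 i * g * (g⁻¹ * f0 iC * g) = g⁻¹ * (f0 i * f0 iC) * g by group, f0_comm hi]
    group
  let φ : ℕ → G := fun i => if hi : i < 192 then
    (e.symm ⟨g⁻¹ * f0 i * g, hmemu i hi⟩ : G) else 1
  have hφ : ∀ i (hi : i < 192), φ i = (e.symm ⟨g⁻¹ * f0 i * g, hmemu i hi⟩ : G) := fun i hi => by
    simp [φ, hi]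
  have hval : ∀ i (hi : i < 192), (e ⟨φ i, by rw [hφ i hi]; exact SetLike.coe_mem _⟩ :
      ↥Cfsg.Spor.M12) = g⁻¹ * f0 i * g := by
    intro i hi
    have : (⟨φ i, by rw [hφ i hi]; exact SetLike.coe_mem _⟩ :
        ↥(Subgroup.centralizer ({t} : Set G))) = e.symm ⟨g⁻¹ * f0 i * g, hmemu i hi⟩ :=
      Subtype.ext (hφ i hi)
    rw [this, e.apply_symm_apply]
  have R : Rep 192 mH (Subgroup.centralizer ({t} : Set G)) φ := by
    refine ⟨by norm_num, tabH.lt, fun i hi => by rw [hφ i hi]; exact SetLike.coe_mem _,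
      fun x hx => ?_, fun i hi j hj h => ?_, fun i hi j hj => ?_, ?_⟩
    · have hy : g * (e ⟨x, hx⟩ : ↥Cfsg.Spor.M12) * g⁻¹ ∈
          Subgroup.centralizer ({f0 iC} : Set ↥Cfsg.Spor.M12) := by
        have h := Subgroup.mem_centralizer_singleton_iff.1 (e ⟨x, hx⟩).2
        rw [Subgroup.mem_centralizer_singleton_iff, ← hg,
          show g * (e ⟨x, hx⟩ : ↥Cfsg.Spor.M12) * g⁻¹ * (g * u * g⁻¹) =
            g * ((e ⟨x, hx⟩ : ↥Cfsg.Spor.M12) * u) * g⁻¹ by group, h]
        group
      obtain ⟨i, hi, hie⟩ := rep0.surj _ hy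
      refine ⟨i, hi, ?_⟩
      have : e ⟨φ i, by rw [hφ i hi]; exact SetLike.coe_mem _⟩ = e ⟨x, hx⟩ := Subtype.ext (by
        rw [hval i hi, hie]; group)
      exact Subtype.ext_iff.1 (e.injective this)
    · refine rep0.inj i hi j hj ?_
      have := hval i hi
      simp only [h] at this
      rw [hval j hj] at this
      exact (mul_left_cancel (mul_right_cancel this)).symm
    · rw [hφ _ (tabH.lt i hi j hj), hφ i hi, hφ j hj, ← Subgroup.coe_mul, ← map_mul]
      congr 2
      refine Subtype.ext ?_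
      show g⁻¹ * f0 (mH i j) * g = g⁻¹ * f0 i * g * (g⁻¹ * f0 j * g)
      rw [f0_mul i hi j hj]; group
    · rw [hφ 0 (by norm_num)]
      have : (⟨g⁻¹ * f0 0 * g, hmemu 0 (by norm_num)⟩ :
          ↥(Subgroup.centralizer ({u} : Set ↥Cfsg.Spor.M12))) = 1 :=
        Subtype.ext (by show g⁻¹ * f0 0 * g = 1; rw [rep0.one]; group)
      rw [this, map_one, OneMemClass.coe_one]
  refine ⟨φ, R, ?_⟩
  obtain ⟨i, hi, hie⟩ := R.surj t (Subgroup.mem_centralizer_singleton_iff.2 rfl)
  have hc : ((List.range 192).all fun i => i == 0 || i == iC || genH.any fun j => mH i j != mH j i)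
      = true := by decide +kernel
  simp only [List.all_eq_true, List.mem_range, Bool.or_eq_true, beq_iff_eq, List.any_eq_true,
    bne_iff_ne] at hc
  rcases hc i hi with (rfl | rfl) | ⟨j, hj, hne⟩
  · rw [R.one] at hie
    rw [← hie, orderOf_one] at ht
    exact absurd ht (by norm_num)
  · exact hie
  · exfalso
    apply hne
    have hjl := tabH.gen_lt j hj
    rw [← R.comm_iff hi hjl, hie]
    exact (Subgroup.mem_centralizer_singleton_iff.1 (R.mem j hjl)).symm

end CfsgLib.M12Recog
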