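import Cfsg.Agent.Lib.M12Recog.Conf

/-!
The order of the group, and glued tables inside it.
-/

set_option autoImplicit false
set_option linter.style.haveILetI false
set_option linter.unusedSectionVars false

namespace CfsgLib.M12Recog

open CfsgLib.CosetEnum
open scoped Classical

theorem tclZ_conj : (∀ i ∈ tclZ, i < 240 ∧ ∃ g < 240, mZ g (tOf iC) = mZ i g) ∧
    (∀ i ∈ zclZ, i < 240 ∧ ∃ g < 240, ∃ n ∈ clZ, n ∈ tH ∧ mZ g (tOf n) = mZ i g) ∧
    (∀ i < 240, mZ i i = 0 → i = 0 ∨ i ∈ tclZ ∨ i ∈ zclZ) ∧ tclZ.Nodup ∧ zclZ.Nodup ∧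
    pairNum 240 mZ zclZ tclZ zZ = 195 := by
  refine ⟨?_, ?_, ?_, by decide +kernel, by decide +kernel, by decide +kernel⟩
  · have h : (tclZ.all fun i => Nat.blt i 240 &&
        (List.range 240).any fun g => mZ g (tOf iC) == mZ i g) = true := by decide +kernel
    simpa using h
  · have h : (zclZ.all fun i => Nat.blt i 240 && (List.range 240).any fun g =>
        clZ.any fun n => tH.contains n && mZ g (tOf n) == mZ i g) = true := by decide +kernel
    simpa using h
  · have h : ((List.range 240).all fun i => mZ i i != 0 || i == 0 || tclZ.contains i ||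
        zclZ.contains i) = true := by decide +kernel
    simp only [List.all_eq_true, List.mem_range, Bool.or_eq_true, bne_iff_ne, beq_iff_eq,
      List.contains_iff_mem] at h
    intro i hi h0
    rcases h i hi with ((h | h) | h) | h
    exacts [absurd h0 h, .inl h, .inr (.inl h), .inr (.inr h)]

namespace Hyp

variable {G : Type*} [Group G] {φ : ℕ → G} (K : Hyp φ)
include K

theorem psi_zZ {ψ : ℕ → G} (hag : K.Agree ψ) : ψ zZ = φ iZ := by
  have h : (iZ, zZ) ∈ tPairs := by decide +kernel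
  exact (hag _ h).symm

theorem card_G [Finite G] [IsSimpleGroup G] (hna : ¬ IsMulCommutative G) {ψ : ℕ → G}
    (R : Rep 240 mZ K.Cz ψ) (hag : K.Agree ψ) : Nat.card G = 95040 := by
  letI := Fintype.ofFinite G
  obtain ⟨hT, hZ, hcov, nT, nZ, hnum⟩ := tclZ_conj
  have P := K.pattern_t hna (K.conj_B_t hna)
  obtain ⟨n1, -, -, n4, -, -, -, -⟩ := lists_ok
  have htcl : ∀ i ∈ tclZ, IsConj (φ iC) (ψ i) := by
    intro i hi
    obtain ⟨hil, g, hg, e⟩ := hT i hi
    refine isConj_iff.2 ⟨ψ g, ?_⟩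
    rw [hag _ (pair_mem iC iC_mem_tH.1).1, mul_inv_eq_iff_eq_mul,
      ← R.mul _ hg _ (pair_mem iC iC_mem_tH.1).2, ← R.mul _ hil _ hg, e]
  have hzcl : ∀ i ∈ zclZ, IsConj (φ iZ) (ψ i) := by
    intro i hi
    obtain ⟨hil, g, hg, n, hn, hnT, e⟩ := hZ i hi
    refine (P.z_mem n hn).trans (isConj_iff.2 ⟨ψ g, ?_⟩)
    rw [hag _ (pair_mem n hnT).1, mul_inv_eq_iff_eq_mul, ← R.mul _ hg _ (pair_mem n hnT).2,
      ← R.mul _ hil _ hg, e]
  have hiff : ∀ i < 240, (IsConj (φ iC) (ψ i) ↔ i ∈ tclZ) ∧ (IsConj (φ iZ) (ψ i) ↔ i ∈ zclZ) := by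
    intro i hi
    have hcase : ∀ {a : G}, orderOf a = 2 → IsConj a (ψ i) → i ∈ tclZ ∨ i ∈ zclZ := by
      intro a ha h
      have ho := orderOf_of_isConj ha h
      refine (hcov i hi ?_).resolve_left fun h0 => ?_
      · refine R.inj _ (R.lt _ hi _ hi) _ R.pos ?_
        rw [R.mul _ hi _ hi, R.one, mul_self_of ho]
      · rw [h0, R.one, orderOf_one] at ho; omega
    exact ⟨⟨fun h => (hcase K.orderOf_t h).resolve_right fun h' => K.not_conj_Z ((hzcl i h').trans h.symm),
      htcl i⟩, ⟨fun h => (hcase K.orderOf_z h).resolve_left fun h' => K.not_conj_Z (h.trans (htcl i h').symm),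
      hzcl i⟩⟩
  have hzz : zZ < 240 := by decide
  have hz := Rep.card_pairsAt R K.orderOf_z K.orderOf_t hzz
    (by rw [K.psi_zZ hag]; exact mul_self_of K.orderOf_z)
    (fun _ _ => Rep.mem_of_pair R K.orderOf_z K.orderOf_t (by rw [K.psi_zZ hag]; exact mul_self_of K.orderOf_z)
      fun _ h => by
        rw [K.psi_zZ hag] at h
        exact Subgroup.mem_centralizer_singleton_iff.2 h)
    nZ nT (fun i hi => (hZ i hi).1) (fun i hi => (hT i hi).1)
    (fun i hi => by
      rw [K.psi_zZ hag, and_iff_left (Subgroup.mem_centralizer_singleton_iff.1 (R.mem i hi))]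
      exact (hiff i hi).2)
    (fun i hi => by
      rw [K.psi_zZ hag, and_iff_left (Subgroup.mem_centralizer_singleton_iff.1 (R.mem i hi))]
      exact (hiff i hi).1)
  rw [hnum, K.psi_zZ hag] at hz
  have ht := K.count_at_t P n4 n1 (fun i hi => lists_lt (.inr (.inr (.inr hi))))
    (fun i hi => lists_lt (.inl hi))
  rw [show pairNum 192 mH clZ tlT iC = 240 by decide +kernel] at ht
  have h := J2Order.order_formula (φ iZ) (φ iC) K.orderOf_z K.orderOf_t K.not_conj_Z (K.all_invol P)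
  have hct : Nat.card (Subgroup.centralizer ({φ iC} : Set G)) = 192 := K.card_eq
  have hcz : Nat.card (Subgroup.centralizer ({φ iZ} : Set G)) = 240 := K.card_Cz' hna
  rw [hz, ht, hct, hcz] at h
  rw [Nat.card_eq_fintype_card, h]

end Hyp

/-- In a simple group with this centraliser there are glued tables satisfying all relators. -/
theorem exists_conf {G : Type*} [Group G] [Finite G] [IsSimpleGroup G] (hna : ¬ IsMulCommutative G)
    {φ₀ : ℕ → G} (K₀ : Hyp φ₀) :
    ∃ φ ψ : ℕ → G, Hyp φ ∧ Conf φ ψ ∧ φ iK * ψ iB3 = ψ iA3 * φ iK ∧ Nat.card G = 95040 := by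
  obtain ⟨ψ, R, hag⟩ := K₀.exists_agree hna
  obtain ⟨φ, K, e1, e2, hag', hconj⟩ := K₀.exists_conj ψ R hag
  have hCz : K.Cz = K₀.Cz := by
    show Subgroup.centralizer ({φ iZ} : Set G) = Subgroup.centralizer ({φ₀ iZ} : Set G)
    rw [e2]
  have R' : Rep 240 mZ K.Cz ψ := hCz ▸ R
  have C : Conf φ ψ := ⟨K.one, K.mul, R'.one, R'.mul, hag', hconj⟩
  refine ⟨φ, ψ, K, C, ?_, K.card_G hna R' hag'⟩
  refine (K.ext_cases ψ R' hag').resolve_right fun h => ?_
  obtain ⟨-, hB, -, hl⟩ := rels_ok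
  have m := C.model (D := certB) (H := Subgroup.centralizer ({φ iC} : Set G)) rfl rfl rfl hB hl
    (C.last_eq' h) K.mem
  obtain ⟨i, hi, hx⟩ := exists_coset certB_complete m (x := letGen φ ψ 10)
    (Subgroup.subset_closure ⟨10, by show 10 < 12; norm_num, rfl⟩)
  have hN : certB.N = 1 := rfl
  rw [hN] at hi
  obtain rfl : i = 0 := by omega
  rw [coreRep, certB_complete.nd_zero, psi_zero, inv_one, mul_one,
    show letGen φ ψ 10 = ψ (zL 10) by simp [letGen]] at hx
  have hzl := zL_lt (g := 10) (by norm_num) (by norm_num)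
  obtain ⟨j, hj, e⟩ := (K.mem_sub tH_ok.1).1 ((K.mem_T_iff).2
    ⟨Subgroup.mem_centralizer_singleton_iff.1 hx,
      Subgroup.mem_centralizer_singleton_iff.1 (R'.mem _ hzl)⟩)
  have hc : (tH.all fun j => tOf j != zL 10) = true := by decide +kernel
  simp only [List.all_eq_true, bne_iff_ne] at hc
  refine hc j hj (R'.inj _ (pair_mem j hj).2 _ hzl ?_)
  rw [← hag' _ (pair_mem j hj).1, e]

end CfsgLib.M12Recog
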